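/-
Codes for the exceptional point set of SU_5(2): finite verifications.
-/
import Mathlib

set_option autoImplicit false

namespace Cfsg.Agent.Aschbacher

namespace FieldFive

/-- Sum in the field of four elements, on the codes `0, 1, 2, 3`. -/
def fAdd (a b : Fin 4) : Fin 4 := ![![0, 1, 2, 3], ![1, 0, 3, 2], ![2, 3, 0, 1], ![3, 2, 1, 0]] a b

/-- Product in the field of four elements, on the codes `0, 1, 2, 3`. -/
def fMul (a b : Fin 4) : Fin 4 := ![![0, 0, 0, 0], ![0, 1, 2, 3], ![0, 2, 3, 1], ![0, 3, 1, 2]] a b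

/-- Conjugation on codes. -/
def fBar (a : Fin 4) : Fin 4 := ![0, 1, 3, 2] a

/-- A matrix of codes applied to a vector of codes. -/
def fApp (A : Fin 5 → Fin 5 → Fin 4) (v : Fin 5 → Fin 4) : Fin 5 → Fin 4 := fun i =>
  fAdd (fAdd (fAdd (fAdd (fMul (A i 0) (v 0)) (fMul (A i 1) (v 1))) (fMul (A i 2) (v 2)))
    (fMul (A i 3) (v 3))) (fMul (A i 4) (v 4))

/-- The unit vectors in codes. -/
def fUnit (j : Fin 5) : Fin 5 → Fin 4 := fun i => if i = j then 1 else 0

/-- Multiplication by the element of order eleven. -/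
def cstep (v : Fin 5 → Fin 4) : Fin 5 → Fin 4 :=
  ![v 4, fAdd (v 0) (fMul 3 (v 4)), fAdd (v 1) (v 4), fAdd (v 2) (v 4), fAdd (v 3) (fMul 2 (v 4))]

/-- The powers of the element of order eleven. -/
def cPow : ℕ → Fin 5 → Fin 4
  | 0 => fUnit 0
  | k + 1 => cstep (cPow k)

/-- The matrix of multiplication by the element of order eleven. -/
def cMat : Fin 5 → Fin 5 → Fin 4 := fun i j => cPow ((j : ℕ) + 1) i

/-- The matrix of the field automorphism. -/
def sMat : Fin 5 → Fin 5 → Fin 4 := fun i j => cPow (4 * (j : ℕ) % 11) i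

/-- An involution outside the normaliser. -/
def xMat : Fin 5 → Fin 5 → Fin 4 :=
  ![![1, 1, 1, 2, 1], ![0, 2, 0, 1, 0], ![0, 3, 0, 1, 1], ![0, 2, 0, 2, 0], ![0, 3, 1, 1, 0]]

/-- The Gram matrix, by differences of exponents. -/
def gTr (k : ℕ) : Fin 4 :=
  ![1, 2, 3, 2, 2, 2, 3, 3, 3, 2, 3] ⟨k % 11, Nat.mod_lt _ (by norm_num)⟩

/-- The Gram matrix of the first five powers. -/
def gMat : Fin 5 → Fin 5 → Fin 4 := fun i j => gTr ((i : ℕ) + 10 * (j : ℕ))

/-- A vector of codes as a number. -/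
def fCode (v : Fin 5 → Fin 4) : ℕ :=
  (v 0 : ℕ) + 4 * (v 1 : ℕ) + 16 * (v 2 : ℕ) + 64 * (v 3 : ℕ) + 256 * (v 4 : ℕ)

/-- An orbit of length 55 on isotropic points, with the multiples. -/
def ptCodes : List ℕ := [
  336, 672, 1008, 388, 452, 84, 852, 660, 980, 292, 484, 308, 1012, 584, 712, 536,
  344, 360, 168, 424, 1000, 568, 632, 844, 908, 796, 924, 812, 684, 380, 700, 252,
  764, 641, 961, 273, 849, 97, 609, 481, 993, 113, 881, 517, 773, 389, 709, 21,
  853, 917, 213, 805, 165, 629, 693, 245, 501, 73, 393, 537, 473, 361, 873, 313,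
  121, 697, 1017, 77, 333, 653, 461, 717, 797, 941, 829, 253, 1021, 322, 962, 146,
  402, 546, 418, 370, 626, 178, 946, 582, 838, 134, 646, 966, 278, 86, 342, 294,
  502, 266, 778, 842, 714, 90, 602, 922, 986, 42, 106, 426, 490, 314, 250, 142,
  718, 542, 350, 158, 990, 814, 622, 446, 702, 323, 643, 659, 915, 211, 467, 227,
  739, 819, 755, 839, 199, 727, 983, 807, 359, 679, 231, 311, 951, 331, 395, 907,
  203, 971, 603, 555, 171, 683, 571, 271, 527, 847, 399, 543, 95, 367, 175, 943,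
  495, 63, 639, 191, 767]

/-- Membership in the orbit. -/
def InPts (v : Fin 5 → Fin 4) : Prop := ptCodes.contains (fCode v) = true

instance : DecidablePred InPts := fun _ => inferInstanceAs (Decidable (_ = true))

theorem cstep_mem_aux : ∀ a b c d e : Fin 4, InPts ![a, b, c, d, e] → InPts (cstep ![a, b, c, d, e]) := by
  decide +kernel

theorem sMat_mem_aux : ∀ a b c d e : Fin 4, InPts ![a, b, c, d, e] → InPts (fApp sMat ![a, b, c, d, e]) := by
  decide +kernel

theorem xMat_mem_aux : ∀ a b c d e : Fin 4, InPts ![a, b, c, d, e] → InPts (fApp xMat ![a, b, c, d, e]) := by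
  decide +kernel

theorem eta_five (v : Fin 5 → Fin 4) : v = ![v 0, v 1, v 2, v 3, v 4] := by
  funext i; fin_cases i <;> rfl

theorem cstep_mem (p : Fin 5 → Fin 4) (h : InPts p) : InPts (cstep p) := by
  rw [eta_five p] at h ⊢; exact cstep_mem_aux _ _ _ _ _ h

theorem sMat_mem (p : Fin 5 → Fin 4) (h : InPts p) : InPts (fApp sMat p) := by
  rw [eta_five p] at h ⊢; exact sMat_mem_aux _ _ _ _ _ h

theorem xMat_mem (p : Fin 5 → Fin 4) (h : InPts p) : InPts (fApp xMat p) := by
  rw [eta_five p] at h ⊢; exact xMat_mem_aux _ _ _ _ _ h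

theorem xMat_sq : ∀ j i : Fin 5, fApp xMat (fun k => xMat k j) i = fUnit j i := by decide +kernel

theorem xMat_gram : ∀ a b : Fin 5,
    fAdd (fAdd (fAdd (fAdd (fMul (xMat 0 a) (fApp gMat (fun k => fBar (xMat k b)) 0))
      (fMul (xMat 1 a) (fApp gMat (fun k => fBar (xMat k b)) 1)))
      (fMul (xMat 2 a) (fApp gMat (fun k => fBar (xMat k b)) 2)))
      (fMul (xMat 3 a) (fApp gMat (fun k => fBar (xMat k b)) 3)))
      (fMul (xMat 4 a) (fApp gMat (fun k => fBar (xMat k b)) 4)) = gMat a b := by decide +kernel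

theorem xMat_not_normalising : (∀ m : Fin 11, cPow (m : ℕ) = fApp xMat (fUnit 0) → m = 0) ∧
    ∀ l : Fin 11, cPow (l : ℕ) ≠ fApp xMat (fUnit 1) := by decide +kernel

theorem cPow_ten_mul : ∀ l m : Fin 11, l ≠ m → cPow (l : ℕ) ≠ cPow (m : ℕ) := by decide +kernel

theorem sample_point : InPts ![0, 1, 0, 2, 1] ∧ ¬ InPts ![0, 1, 0, 1, 3] := by decide +kernel

end FieldFive

end Cfsg.Agent.Aschbacher
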