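/-
No member of the classes contains the special unitary group.
-/
import Mathlib
import Cfsg.Agent.Aschbacher.Un.Base
import Cfsg.Agent.Aschbacher.Un.Coordinates
import Cfsg.Agent.Aschbacher.Lists.Proper
import Cfsg.Agent.Aschbacher.Lists.Blocks
import Cfsg.Agent.Aschbacher.SymplecticType
import Cfsg.Agent.Lib.Classical.UnitarySimple
import Cfsg.Agent.Lib.Classical.UnitaryFrames

set_option autoImplicit false
set_option linter.style.haveILetI false

namespace Cfsg.Agent.Aschbacher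

open Matrix
open Cfsg.Geo
open Cfsg.Agent.Classical
open scoped Kronecker commutatorElement

variable {F : Type*} [Field F] {n q : ℕ}

/-- The special unitary group inside GL. -/
abbrev suGL (n : ℕ) (F : Type*) [Field F] (q : ℕ) : Subgroup (GL (Fin n) F) :=
  Cfsg.GU n F q ⊓ specialLinear (Fin n) F

/-- The embedding of SU. -/
def suEmb : Cfsg.SU n F q →* GL (Fin n) F :=
  Matrix.SpecialLinearGroup.toGL.comp (Cfsg.SU n F q).subtype

lemma suEmb_coe (g : Cfsg.SU n F q) :
    ((suEmb g : GL (Fin n) F) : Matrix (Fin n) (Fin n) F) = Unitary.mat g := rfl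

lemma suEmb_injective : Function.Injective (suEmb (n := n) (F := F) (q := q)) := fun a b h =>
  Subtype.ext (Subtype.ext (congrArg Units.val h))

lemma range_suEmb : (suEmb (n := n) (F := F) (q := q)).range = suGL n F q := by
  ext g
  constructor
  · rintro ⟨x, rfl⟩
    exact ⟨x.2, Units.ext x.1.2⟩
  · rintro ⟨h1, h2⟩
    exact ⟨Unitary.suMk (g : Matrix (Fin n) (Fin n) F) (congrArg Units.val (MonoidHom.mem_ker.1 h2)) h1,
      Units.ext rfl⟩

lemma suEmb_mem (g : Cfsg.SU n F q) : suEmb g ∈ suGL n F q := range_suEmb.le ⟨g, rfl⟩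

variable [Fintype F] (hF : Fintype.card F = q ^ 2)

include hF in
theorem commutator_suGL (hn : 3 ≤ n) (h : ¬ (n = 3 ∧ q = 2)) :
    ⁅suGL n F q, suGL n F q⁆ = suGL n F q := by
  conv_rhs => rw [← range_suEmb, MonoidHom.range_eq_map, ← Unitary.commutator_SU_eq_top hF hn h,
    commutator_def, Subgroup.map_commutator, ← MonoidHom.range_eq_map, range_suEmb]

include hF in
theorem suGL_normal_cases (hn : 3 ≤ n) (h : ¬ (n = 3 ∧ q = 2)) {N : Subgroup (GL (Fin n) F)}
    (hN : N ≤ suGL n F q) (hnorm : ∀ g ∈ suGL n F q, ∀ x ∈ N, g * x * g⁻¹ ∈ N) :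
    N ≤ scalars (Fin n) F ∨ N = suGL n F q := by
  haveI : Nonempty (Fin n) := ⟨⟨0, by omega⟩⟩
  set N' := N.comap (suEmb (n := n) (F := F) (q := q)) with hN'
  haveI : N'.Normal := ⟨fun x hx g => by
    show suEmb (g * x * g⁻¹) ∈ N
    rw [map_mul, map_mul, map_inv]
    exact hnorm _ (suEmb_mem g) _ hx⟩
  haveI := Unitary.isSimpleGroup_PSU hF hn h
  rcases Subgroup.Normal.eq_bot_or_eq_top (Subgroup.Normal.map (inferInstance : N'.Normal)
    (QuotientGroup.mk' (Subgroup.center (Cfsg.SU n F q))) (QuotientGroup.mk'_surjective _)) with h0 | h0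
  · left
    rw [Subgroup.map_eq_bot_iff, QuotientGroup.ker_mk'] at h0
    intro x hx
    obtain ⟨y, rfl⟩ := range_suEmb.ge (hN hx)
    obtain ⟨a, ha⟩ := (Unitary.mem_center_iff hF (by omega) y).1 (h0 hx)
    exact mem_scalars_of_eq_smul _ a ha
  · right
    refine le_antisymm hN ?_
    have h1 : N' ⊔ Subgroup.center (Cfsg.SU n F q) = ⊤ := by
      rw [← QuotientGroup.ker_mk' (Subgroup.center (Cfsg.SU n F q)), ← Subgroup.comap_map_eq, h0,
        Subgroup.comap_top]
    have h2 : commutator (Cfsg.SU n F q) ≤ N' := by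
      rw [commutator_def, Subgroup.commutator_le]
      intro a _ b _
      obtain ⟨a₁, ha₁, z₁, hz₁, rfl⟩ := Subgroup.mem_sup_of_normal_right.1 (h1.ge (Subgroup.mem_top a))
      obtain ⟨b₁, hb₁, z₂, hz₂, rfl⟩ := Subgroup.mem_sup_of_normal_right.1 (h1.ge (Subgroup.mem_top b))
      rw [Subgroup.mem_center_iff] at hz₁ hz₂
      have h3 : ⁅a₁ * z₁, b₁ * z₂⁆ = ⁅a₁, b₁⁆ := by
        have e1 : a₁ * z₁ * (b₁ * z₂) = a₁ * b₁ * (z₁ * z₂) := by
          rw [mul_assoc, ← mul_assoc z₁, ← hz₁ b₁]; group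
        have e2 : b₁ * z₂ * (a₁ * z₁) = b₁ * a₁ * (z₁ * z₂) := by
          rw [mul_assoc, ← mul_assoc z₂, ← hz₂ a₁, hz₂ z₁]; group
        rw [commutatorElement_def, commutatorElement_def,
          show a₁ * z₁ * (b₁ * z₂) * (a₁ * z₁)⁻¹ * (b₁ * z₂)⁻¹ =
            a₁ * z₁ * (b₁ * z₂) * (b₁ * z₂ * (a₁ * z₁))⁻¹ by group, e1, e2]
        group
      rw [h3, commutatorElement_def]
      exact mul_mem (mul_mem (mul_mem ha₁ hb₁) (inv_mem ha₁)) (inv_mem hb₁)
    rw [Unitary.commutator_SU_eq_top hF hn h] at h2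
    intro x hx
    obtain ⟨y, rfl⟩ := range_suEmb.ge hx
    exact h2 (Subgroup.mem_top y)

include hF in
/-- A non-scalar element fixing a hyperplane pointwise. -/
theorem exists_suGL_transvection (hn : 2 ≤ n) :
    ∃ g ∈ suGL n F q, g ∉ scalars (Fin n) F ∧ ∃ φ : (Fin n → F) →ₗ[F] F,
      ∀ x, φ x = 0 → (g : Matrix (Fin n) (Fin n) F) *ᵥ x = x := by
  set i : Fin n := ⟨0, by omega⟩
  set j : Fin n := ⟨1, by omega⟩
  have hij : i ≠ j := by simp [i, j]
  obtain ⟨v, hv, hvi, hvj, -⟩ := Unitary.exists_isotropic_pair hF i j hij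
  obtain ⟨c, hc0, hc⟩ := Unitary.exists_traceZero hF
  refine ⟨suEmb (Unitary.tvu hF hv hc), suEmb_mem _, fun hmem => ?_, Unitary.hlin q v, fun x hx => ?_⟩
  · obtain ⟨a, ha⟩ := (Cfsg.Geo.mem_scalars_iff _).1 hmem
    have h1 := congrFun (congrFun ha j) i
    rw [suEmb_coe] at h1
    have e : Unitary.mat (Unitary.tvu hF hv hc) j i = c * (v j * v i ^ q) := by
      show Cfsg.unitaryTransvection n q v c j i = _
      simp [Cfsg.unitaryTransvection, Matrix.one_apply, Ne.symm hij, Matrix.vecMulVec]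
    rw [e, hvi, one_pow, mul_one] at h1
    simp [hij.symm, hc0, hvj] at h1
  · rw [suEmb_coe, Unitary.tvu_mulVec]
    rw [show Cfsg.hermForm n F q x v = 0 from hx, mul_zero, zero_smul, add_zero]

include hF in
theorem not_suGL_le_scalars (hn : 2 ≤ n) : ¬ suGL n F q ≤ scalars (Fin n) F := fun h => by
  obtain ⟨g, hg, hns, -⟩ := exists_suGL_transvection hF hn
  exact hns (h hg)

include hF in
/-- The special unitary group spans all matrices. -/
theorem adjoin_suGL (hn : 2 ≤ n) : Algebra.adjoin F (matrixSet (suGL n F q)) = ⊤ := by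
  classical
  set A := Algebra.adjoin F (matrixSet (suGL n F q)) with hA
  set A' : Subalgebra F (Fin n → F) := A.comap (Matrix.diagonalAlgHom F) with hA'
  have hmat : ∀ g : Cfsg.SU n F q, Unitary.mat g ∈ A := fun g =>
    Algebra.subset_adjoin ⟨suEmb g, suEmb_mem g, rfl⟩
  obtain ⟨ζ, hζ, hζ1, hζ2⟩ := Unitary.exists_normOne_ne hF
  have hζ0 : ζ ≠ 0 := fun h => by simp [h] at hζ
  have hne : ζ - ζ⁻¹ ≠ 0 := fun e => hζ2 (by
    rw [sq]; nth_rw 2 [sub_eq_zero.1 e]; rw [mul_inv_cancel₀ hζ0])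
  have hdiag : ∀ i : Fin n, Matrix.single i i (1 : F) ∈ A := by
    intro i
    have key : ∀ j, j ≠ i → ∃ e ∈ A', e i = 1 ∧ e j = 0 := by
      intro j hji
      set d : Fin n → F := fun k => if k = i then ζ else if k = j then ζ⁻¹ else 1 with hd
      have hdet : (Matrix.diagonal d).det = 1 := by
        rw [Matrix.det_diagonal, Fintype.prod_eq_mul i j hji.symm (fun k hk => by simp [hd, hk.1, hk.2])]
        simp [hd, hji, hζ0]
      have hζi : ζ⁻¹ ^ (q + 1) = 1 := by rw [inv_pow, hζ, inv_one]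
      have hmem : d ∈ A' := hmat (Unitary.suMk _ hdet
        (Unitary.diag_preserves hF d fun k => by simp only [hd]; split_ifs <;> simp [hζ, hζi]))
      refine ⟨(ζ - ζ⁻¹)⁻¹ • (d - algebraMap F (Fin n → F) ζ⁻¹),
        Subalgebra.smul_mem _ (sub_mem hmem (Subalgebra.algebraMap_mem _ _)) _, ?_, ?_⟩
      · simp [hd, inv_mul_cancel₀ hne]
      · simp [hd, hji]
    choose e he hei hej using key
    have hprod : (∏ j ∈ (Finset.univ.erase i).attach, e j.1 (Finset.ne_of_mem_erase j.2)) ∈ A' :=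
      Subalgebra.prod_mem _ fun j _ => he _ _
    have heq : (∏ j ∈ (Finset.univ.erase i).attach, e j.1 (Finset.ne_of_mem_erase j.2)) =
        Pi.single i 1 := by
      funext k
      rw [Finset.prod_apply]
      by_cases hk : k = i
      · subst hk
        rw [Pi.single_eq_same]
        exact Finset.prod_eq_one fun j _ => hei _ _
      · rw [Pi.single_eq_of_ne hk]
        exact Finset.prod_eq_zero (Finset.mem_attach _ ⟨k, Finset.mem_erase.2 ⟨hk, Finset.mem_univ _⟩⟩)
          (hej _ _)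
    rw [heq] at hprod
    have h1 : Matrix.diagonal (Pi.single i (1 : F)) ∈ A := hprod
    rwa [Matrix.diagonal_single] at h1
  have hall : ∀ i j : Fin n, Matrix.single i j (1 : F) ∈ A := by
    intro i j
    by_cases hij : i = j
    · exact hij ▸ hdiag i
    obtain ⟨v, hv, hvi, hvj, -⟩ := Unitary.exists_isotropic_pair hF i j hij
    obtain ⟨c, hc0, hc⟩ := Unitary.exists_traceZero hF
    set T := Unitary.mat (Unitary.tvu hF hv hc) with hT
    have e : T i j = c * (v i * v j ^ q) := by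
      show Cfsg.unitaryTransvection n q v c i j = _
      simp [Cfsg.unitaryTransvection, Matrix.one_apply, hij, Matrix.vecMulVec]
    have hTij : T i j ≠ 0 := by
      rw [e, hvi, one_mul]; exact mul_ne_zero hc0 (pow_ne_zero _ hvj)
    have h1 : Matrix.single i i (1 : F) * T * Matrix.single j j (1 : F) ∈ A :=
      mul_mem (mul_mem (hdiag i) (hmat _)) (hdiag j)
    have h2 : Matrix.single i i (1 : F) * T * Matrix.single j j (1 : F) =
        T i j • Matrix.single i j (1 : F) := by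
      ext a b
      simp [Matrix.mul_apply, Matrix.single_apply, ite_and]
      split_ifs <;> simp_all
    rw [h2] at h1
    have h3 := A.smul_mem h1 (T i j)⁻¹
    rwa [smul_smul, inv_mul_cancel₀ hTij, one_smul] at h3
  rw [eq_top_iff]
  intro M _
  rw [Matrix.matrix_eq_sum_single M]
  refine Subalgebra.sum_mem _ fun i _ => Subalgebra.sum_mem _ fun j _ => ?_
  have h1 := A.smul_mem (hall i j) (M i j)
  rwa [Matrix.smul_single, smul_eq_mul, mul_one] at h1

include hF in
theorem absIrred_suGL (hn : 2 ≤ n) : ActsAbsolutelyIrreducibly (matrixSet (suGL n F q)) := by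
  haveI : Nonempty (Fin n) := ⟨⟨0, by omega⟩⟩
  exact absIrred_of_adjoin_eq_top (adjoin_suGL hF hn)

include hF in
theorem not_suGL_le_subspace (hn : 2 ≤ n) {W : Submodule F (Fin n → F)} (h0 : W ≠ ⊥) (h1 : W ≠ ⊤) :
    ¬ suGL n F q ≤ subspaceStabilizer W := fun hle => by
  obtain ⟨v, hv, hv0⟩ := Submodule.exists_mem_ne_zero_of_ne_bot h0
  exact h1 (Irred.eq_top (absIrred_suGL hF hn).1
    (fun g hg w hw => (mem_subspaceStabilizer.1 (hle hg) w).1 hw) hv hv0)

include hF in
lemma natCard_suGL (hn : 1 ≤ n) :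
    Nat.card (suGL n F q) * (q + 1) = Nat.card (Cfsg.GU n F q) := by
  rw [← Unitary.natCard_SU_mul hF hn, ← range_suEmb,
    ← Nat.card_congr (MonoidHom.ofInjective suEmb_injective).toEquiv, mul_comm]

include hF in
lemma pow_sq_le_natCard_GU : q ^ (n * n) ≤ Nat.card (Cfsg.GU n F q) := by
  rw [Unitary.natCard_GU hF]
  have hq : 2 ≤ q := UnitaryCount.one_lt_q hF
  set f : ℕ → ℕ := fun i => if Even i then q ^ (i + 1) + 1 else q ^ (i + 1) - 1 with hf
  have hev : ∀ j, q ^ (j * (2 * j + 1)) ≤ ∏ i ∈ Finset.range (2 * j), f i := by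
    intro j
    induction j with
    | zero => simp
    | succ j ih =>
      rw [show 2 * (j + 1) = 2 * j + 1 + 1 by ring, Finset.prod_range_succ, Finset.prod_range_succ,
        show (j + 1) * (2 * j + 1 + 1 + 1) = j * (2 * j + 1) + ((2 * j + 1) + (2 * j + 1 + 1)) by ring,
        pow_add q (j * (2 * j + 1)), mul_assoc]
      refine Nat.mul_le_mul ih ?_
      simp only [hf, if_pos (even_two_mul j), Nat.even_add_one, not_not, even_two_mul, not_true,
        if_false]
      rw [pow_add, pow_succ q (2 * j + 1)]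
      set a := q ^ (2 * j + 1)
      have ha : 1 ≤ a := Nat.one_le_pow _ _ (by omega)
      have h1 : a + 1 ≤ a * q := by nlinarith
      zify [show 1 ≤ a * q by omega]
      nlinarith
  rcases Nat.even_or_odd' n with ⟨j, rfl | rfl⟩
  · have hpow : 2 * j * (2 * j - 1) / 2 = j * (2 * j - 1) := by
      rw [mul_assoc, Nat.mul_div_cancel_left _ two_pos]
    rw [hpow]
    refine le_trans (le_of_eq ?_) (Nat.mul_le_mul le_rfl (hev j))
    rw [← pow_add]
    congr 1
    rcases j with _ | j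
    · rfl
    · rw [show 2 * (j + 1) - 1 = 2 * j + 1 by omega]; ring
  · have hpow : (2 * j + 1) * (2 * j + 1 - 1) / 2 = (2 * j + 1) * j := by
      rw [Nat.add_sub_cancel, show (2 * j + 1) * (2 * j) = 2 * ((2 * j + 1) * j) by ring,
        Nat.mul_div_cancel_left _ two_pos]
    rw [hpow, Finset.prod_range_succ]
    refine le_trans ?_ (Nat.mul_le_mul le_rfl (Nat.mul_le_mul (hev j)
      (show q ^ (2 * j + 1) ≤ f (2 * j) by simp [hf])))
    rw [← pow_add, ← pow_add]
    exact le_of_eq (by congr 1; ring)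

include hF in
lemma natCard_scalars_suGL (hn : 1 ≤ n) :
    Nat.card ((scalars (Fin n) F).subgroupOf (suGL n F q)) ≤ q + 1 := by
  rw [← Unitary.natCard_normOne hF]
  have hc : ∀ z : (scalars (Fin n) F).subgroupOf (suGL n F q), ∃ c : Fˣ,
      ((z : suGL n F q) : GL (Fin n) F).val = (c : F) • (1 : Matrix (Fin n) (Fin n) F) :=
    fun z => (Cfsg.Geo.mem_scalars_iff _).1 z.2
  choose c hc using hc
  have hker : ∀ z, c z ∈ (powMonoidHom (q + 1) : Fˣ →* Fˣ).ker := by
    intro z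
    refine Units.ext ?_
    have h := (z : suGL n F q).2.1 (Pi.single ⟨0, hn⟩ 1) (Pi.single ⟨0, hn⟩ 1)
    simp only [Units.coeHom_apply, hc z, Matrix.smul_mulVec, Matrix.one_mulVec,
      UnitaryCount.hermForm_smul_smul, Unitary.H_single_single hF, if_pos, mul_one] at h
    simpa using h
  refine Nat.card_le_card_of_injective (fun z => (⟨c z, hker z⟩ : (powMonoidHom (q + 1) : Fˣ →* Fˣ).ker))
    fun a b h => Subtype.ext (Subtype.ext (Units.ext ?_))
  rw [hc a, hc b, Subtype.mk.inj h]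

include hF in
/-- If a map on SU has fibres in scalar cosets, its range is large. -/
theorem pow_sq_le_of_fibres (hn : 1 ≤ n) {β : Type*} [Finite β] (f : suGL n F q → β)
    (h : ∀ a b, f a = f b → ((a⁻¹ * b : suGL n F q) : GL (Fin n) F) ∈ scalars (Fin n) F) :
    q ^ (n * n) ≤ (q + 1) ^ 2 * Nat.card β := by
  set Z := (scalars (Fin n) F).subgroupOf (suGL n F q)
  have hle : Nat.card (suGL n F q) ≤ Nat.card (β × Z) :=
    Nat.card_le_card_of_injective (fun x => (f x, (⟨(Function.invFun f (f x))⁻¹ * x,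
      h _ _ (Function.invFun_eq ⟨x, rfl⟩)⟩ : Z))) fun a b hab => by
        obtain ⟨h1, h2⟩ := Prod.mk.inj hab
        have := congrArg Subtype.val h2
        simp only [h1] at this
        exact mul_left_cancel this
  rw [Nat.card_prod] at hle
  refine (pow_sq_le_natCard_GU hF).trans ?_
  rw [← natCard_suGL hF hn, pow_two, mul_comm (Nat.card (suGL n F q))]
  calc (q + 1) * Nat.card (suGL n F q) ≤ (q + 1) * (Nat.card β * (q + 1)) :=
        Nat.mul_le_mul le_rfl (hle.trans (Nat.mul_le_mul le_rfl (natCard_scalars_suGL hF hn)))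
    _ = (q + 1) * (q + 1) * Nat.card β := by ring

include hF in
lemma sq_succ_lt_pow (hn : 3 ≤ n) (h : ¬ (n = 3 ∧ q = 2)) : (q + 1) ^ 2 < q ^ n := by
  have hq : 2 ≤ q := UnitaryCount.one_lt_q hF
  rcases eq_or_lt_of_le hn with rfl | hn4
  · have : 3 ≤ q := by omega
    have h1 : 3 * q ^ 2 ≤ q * q ^ 2 := Nat.mul_le_mul_right _ this
    ring_nf at h1 ⊢
    nlinarith
  · calc (q + 1) ^ 2 < (q ^ 2) ^ 2 := Nat.pow_lt_pow_left (by nlinarith) (by norm_num)
      _ = q ^ 4 := by ring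
      _ ≤ q ^ n := Nat.pow_le_pow_right (by omega) hn4

include hF in
theorem not_suGL_le_decomposition (hn : 3 ≤ n) (h : ¬ (n = 3 ∧ q = 2)) {t m : ℕ}
    {D : Fin t → Submodule F (Fin n → F)} (hD : IsMDecomposition m D) :
    ¬ suGL n F q ≤ decompositionStabilizer D := by
  classical
  intro hle
  have htm := card_of_decomposition hD
  have htwo := hD.two_le
  have hpos := hD.pos
  let N : Subgroup (GL (Fin n) F) :=
    { carrier := {g | g ∈ suGL n F q ∧
        ∀ i, (D i).map (Matrix.toLin' (g : Matrix (Fin n) (Fin n) F)) = D i}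
      mul_mem' := fun {a b} ha hb => ⟨mul_mem ha.1 hb.1, fun i => by
        rw [Units.val_mul, Matrix.toLin'_mul, Submodule.map_comp, hb.2, ha.2]⟩
      one_mem' := ⟨one_mem _, fun i => by simp⟩
      inv_mem' := fun {a} ha => ⟨inv_mem ha.1, fun i => by
        conv_lhs => rw [← ha.2 i, ← Submodule.map_comp, ← Matrix.toLin'_mul, ← Units.val_mul,
          inv_mul_cancel, Units.val_one, Matrix.toLin'_one, Submodule.map_id]⟩ }
  have hperm : ∀ g : suGL n F q, ∃ σ : Equiv.Perm (Fin t),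
      ∀ i, (D i).map (Matrix.toLin' ((g : GL (Fin n) F) : Matrix (Fin n) (Fin n) F)) = D (σ i) :=
    fun g => hle g.2
  have hnorm : ∀ g ∈ suGL n F q, ∀ x ∈ N, g * x * g⁻¹ ∈ N := by
    intro g hg x hx
    refine ⟨mul_mem (mul_mem hg hx.1) (inv_mem hg), fun i => ?_⟩
    obtain ⟨σ, hσ⟩ := hperm ⟨g⁻¹, inv_mem hg⟩
    obtain ⟨τ, hτ⟩ := hperm ⟨g, hg⟩
    rw [Units.val_mul, Units.val_mul, Matrix.toLin'_mul, Matrix.toLin'_mul, Submodule.map_comp,
      Submodule.map_comp, hσ, hx.2, ← hσ, ← Submodule.map_comp, ← Matrix.toLin'_mul, ← Units.val_mul,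
      mul_inv_cancel, Units.val_one, Matrix.toLin'_one, Submodule.map_id]
  rcases suGL_normal_cases hF hn h (N := N) (fun g hg => hg.1) hnorm with hN | hN
  · choose σ hσ using hperm
    have h1 := pow_sq_le_of_fibres hF (by omega) σ fun a b hab => hN ⟨(a⁻¹ * b).2, fun i => by
      rw [Subgroup.coe_mul, Units.val_mul, Matrix.toLin'_mul, Submodule.map_comp, hσ b, ← hab, ← hσ a,
        ← Submodule.map_comp, ← Matrix.toLin'_mul, ← Units.val_mul, ← Subgroup.coe_mul, inv_mul_cancel,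
        OneMemClass.coe_one, Units.val_one, Matrix.toLin'_one, Submodule.map_id]⟩
    rw [Nat.card_perm, Nat.card_fin] at h1
    have hq : 2 ≤ q := UnitaryCount.one_lt_q hF
    have htn : t ≤ n := by nlinarith
    have hn2 : n ≤ 2 ^ (n - 1) := by
      have := Nat.lt_two_pow_self (n := n - 1)
      omega
    have h2 : t.factorial ≤ q ^ ((n - 1) * n) := by
      calc t.factorial ≤ n.factorial := Nat.factorial_le htn
        _ ≤ n ^ n := Nat.factorial_le_pow n
        _ ≤ (q ^ (n - 1)) ^ n := Nat.pow_le_pow_left (hn2.trans (Nat.pow_le_pow_left hq _)) _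
        _ = _ := by rw [← pow_mul]
    have h3 : (q + 1) ^ 2 * t.factorial < q ^ (n * n) := by
      calc (q + 1) ^ 2 * t.factorial ≤ (q + 1) ^ 2 * q ^ ((n - 1) * n) := Nat.mul_le_mul le_rfl h2
        _ < q ^ n * q ^ ((n - 1) * n) :=
          Nat.mul_lt_mul_of_pos_right (sq_succ_lt_pow hF hn h) (Nat.pow_pos (by omega))
        _ = q ^ (n * n) := by
          rw [← pow_add]
          obtain ⟨j, rfl⟩ := Nat.exists_eq_add_of_le (show 1 ≤ n by omega)
          rw [Nat.add_sub_cancel_left]; ring_nf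
    omega
  · set i₀ : Fin t := ⟨0, by omega⟩
    have h1 := hD.finrank_eq i₀
    refine not_suGL_le_subspace hF (by omega) (W := D i₀) ?_ ?_ ?_
    · intro h0; rw [h0, finrank_bot] at h1; omega
    · intro h0
      rw [h0, finrank_top, Module.finrank_fintype_fun_eq_card, Fintype.card_fin] at h1
      nlinarith
    · intro g hg
      refine mem_subspaceStabilizer_of_forall fun v hv => ?_
      rw [← (hN.ge hg).2 i₀]
      exact Submodule.mem_map_of_mem hv

include hF in
theorem not_suGL_le_field (hn : 3 ≤ n) (h : ¬ (n = 3 ∧ q = 2)) {r : ℕ} (hr : r.Prime)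
    {K : Subalgebra F (Matrix (Fin n) (Fin n) F)} (hK : IsFieldSubalgebra r K) :
    ¬ suGL n F q ≤ subalgebraNormalizer K := by
  classical
  intro hle
  haveI : Nonempty (Fin n) := ⟨⟨0, by omega⟩⟩
  let C : Subgroup (GL (Fin n) F) :=
    { carrier := {g | g ∈ suGL n F q ∧ ∀ k ∈ K, conjMat g k = k}
      mul_mem' := fun {a b} ha hb => ⟨mul_mem ha.1 hb.1, fun k hk => by
        rw [conjMat_mul, hb.2 k hk, ha.2 k hk]⟩
      one_mem' := ⟨one_mem _, fun k _ => by simp [conjMat_apply]⟩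
      inv_mem' := fun {a} ha => ⟨inv_mem ha.1, fun k hk => by
        conv_lhs => rw [← ha.2 k hk]
        exact conjMat_inv_apply a k⟩ }
  have hnorm : ∀ g ∈ suGL n F q, ∀ x ∈ C, g * x * g⁻¹ ∈ C := by
    intro g hg x hx
    refine ⟨mul_mem (mul_mem hg hx.1) (inv_mem hg), fun k hk => ?_⟩
    have hk' : conjMat g⁻¹ k ∈ K := (hle (inv_mem hg) k).1 hk
    rw [conjMat_mul, conjMat_mul, hx.2 _ hk']
    have := conjMat_inv_apply g⁻¹ k
    rwa [inv_inv] at this
  rcases suGL_normal_cases hF hn h (N := C) (fun g hg => hg.1) hnorm with hC | hC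
  · obtain ⟨g, hg, hns, φ, hφ⟩ := exists_suGL_transvection hF (n := n) (by omega)
    refine hns (hC ⟨hg, fun k hk => ?_⟩)
    by_contra hne
    have hk' : conjMat g k ∈ K := (hle hg k).1 hk
    obtain ⟨y, -, hy⟩ := hK.inv _ (K.sub_mem hk' hk) (sub_ne_zero.2 hne)
    obtain ⟨x, hx, hx0⟩ : ∃ x : Fin n → F, x ∈ LinearMap.ker (φ.prod (φ.comp (Matrix.toLin' k))) ∧ x ≠ 0 := by
      refine Submodule.exists_mem_ne_zero_of_ne_bot (LinearMap.ker_ne_bot_of_finrank_lt ?_)
      rw [Module.finrank_fintype_fun_eq_card, Fintype.card_fin, Module.finrank_prod, Module.finrank_self]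
      omega
    rw [LinearMap.ker_prod, Submodule.mem_inf, LinearMap.mem_ker, LinearMap.mem_ker,
      LinearMap.comp_apply, Matrix.toLin'_apply] at hx
    have hzero : (conjMat g k - k) *ᵥ x = 0 := by
      have h1 := conjMat_mulVec g k x
      rw [hφ x hx.1, hφ _ hx.2] at h1
      rw [Matrix.sub_mulVec, h1, sub_self]
    have h2 := congrArg (fun M : Matrix (Fin n) (Fin n) F => M *ᵥ x) (mul_eq_one_comm.1 hy)
    simp only [← Matrix.mulVec_mulVec, hzero, Matrix.mulVec_zero, Matrix.one_mulVec] at h2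
    exact hx0 h2.symm
  · have hbot : K = ⊥ := by
      rw [eq_bot_iff]
      intro k hk
      obtain ⟨c, rfl⟩ := (absIrred_suGL hF (q := q) (n := n) (by omega)).2 k (by
        rintro _ ⟨g, hg, rfl⟩
        exact ((conjMat_eq_self_iff g k).1 ((hC.ge hg).2 k hk)).symm)
      rw [Algebra.mem_bot]
      exact ⟨c, Algebra.algebraMap_eq_smul_one c⟩
    have h1 := hK.finrank_eq
    rw [hbot, Subalgebra.finrank_bot] at h1
    exact hr.one_lt.ne h1

include hF in
theorem not_suGL_le_subfieldSubgroup (hn : 3 ≤ n) (h : ¬ (n = 3 ∧ q = 2)) {F₀ : Subfield F} {r : ℕ}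
    (hr : r.Prime) (hcard : Fintype.card F = Nat.card F₀ ^ r) (P : GL (Fin n) F) :
    ¬ suGL n F q ≤ subfieldSubgroup F₀ P := by
  classical
  intro hle
  set G₀ := (Matrix.GeneralLinearGroup.map (n := Fin n) (F₀.subtype : F₀ →+* F)).range
  set C := (MulAut.conj P).toMonoidHom
  have hle' : suGL n F q ≤ G₀.map C := by
    have h1 := Subgroup.commutator_mono hle hle
    rw [commutator_suGL hF hn h, subfieldSubgroup, ← Subgroup.map_commutator] at h1
    refine h1.trans (Subgroup.map_mono ?_)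
    rw [Subgroup.commutator_le]
    intro a ha b hb
    obtain ⟨a₁, ha₁, z₁, hz₁, rfl⟩ := Subgroup.mem_sup_of_normal_right.1 ha
    obtain ⟨b₁, hb₁, z₂, hz₂, rfl⟩ := Subgroup.mem_sup_of_normal_right.1 hb
    have h3 : ⁅a₁ * z₁, b₁ * z₂⁆ = ⁅a₁, b₁⁆ := by
      have e1 : a₁ * z₁ * (b₁ * z₂) = a₁ * b₁ * (z₁ * z₂) := by
        rw [mul_assoc, ← mul_assoc z₁, ← scalars_comm hz₁ b₁]; group
      have e2 : b₁ * z₂ * (a₁ * z₁) = b₁ * a₁ * (z₁ * z₂) := by
        rw [mul_assoc, ← mul_assoc z₂, ← scalars_comm hz₂ a₁, scalars_comm hz₂ z₁]; group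
      rw [commutatorElement_def, commutatorElement_def,
        show a₁ * z₁ * (b₁ * z₂) * (a₁ * z₁)⁻¹ * (b₁ * z₂)⁻¹ =
          a₁ * z₁ * (b₁ * z₂) * (b₁ * z₂ * (a₁ * z₁))⁻¹ by group, e1, e2]
      group
    rw [h3, commutatorElement_def]
    exact mul_mem (mul_mem (mul_mem ha₁ hb₁) (inv_mem ha₁)) (inv_mem hb₁)
  have htr : ∀ g ∈ suGL n F q, (g : Matrix (Fin n) (Fin n) F).trace ∈ F₀ := by
    intro g hg
    obtain ⟨_, ⟨g₀, rfl⟩, rfl⟩ := Subgroup.mem_map.1 (hle' hg)
    rw [show (C (Matrix.GeneralLinearGroup.map F₀.subtype g₀) : GL (Fin n) F).val =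
      (P : Matrix (Fin n) (Fin n) F) *
        (Matrix.GeneralLinearGroup.map (F₀.subtype : F₀ →+* F) g₀ : GL (Fin n) F).val *
        ((P⁻¹ : GL (Fin n) F) : Matrix (Fin n) (Fin n) F) from rfl, Matrix.trace_units_conj]
    exact F₀.sum_mem fun i _ => ((g₀ : Matrix (Fin n) (Fin n) F₀) i i).2
  set i : Fin n := ⟨0, by omega⟩
  set j : Fin n := ⟨1, by omega⟩
  set l : Fin n := ⟨2, by omega⟩
  have hdist : i ≠ j ∧ i ≠ l ∧ j ≠ l := by simp [i, j, l]
  have hs : ∀ a b : F, a ^ (q + 1) = 1 → b ^ (q + 1) = 1 → a + b + a⁻¹ * b⁻¹ ∈ F₀ := by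
    intro a b ha hb
    have ha0 : a ≠ 0 := fun h => by simp [h] at ha
    have hb0 : b ≠ 0 := fun h => by simp [h] at hb
    set d : Fin n → F := fun k => if k = i then a else if k = j then b else
      if k = l then a⁻¹ * b⁻¹ else 1 with hd
    have hdq : ∀ k, d k ^ (q + 1) = 1 := fun k => by
      simp only [hd]; split_ifs <;> simp [ha, hb, mul_pow, inv_pow]
    have hprod : ∏ k, d k = 1 := by
      rw [← Finset.prod_subset (Finset.subset_univ {i, j, l}) (fun k _ hk => by
        simp only [Finset.mem_insert, Finset.mem_singleton, not_or] at hk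
        simp [hd, hk.1, hk.2.1, hk.2.2])]
      rw [Finset.prod_insert (by simp [hdist.1, hdist.2.1]), Finset.prod_insert (by simp [hdist.2.2]),
        Finset.prod_singleton]
      simp only [hd, if_pos, if_neg hdist.1.symm, if_neg hdist.2.1.symm, if_neg hdist.2.2.symm]
      field_simp
    have h1 := htr _ (suEmb_mem (Unitary.suMk (Matrix.diagonal d) (by rw [Matrix.det_diagonal, hprod])
      (Unitary.diag_preserves hF d hdq)))
    rw [suEmb_coe] at h1
    have h2 : (∑ k, (d k - 1)) = a + b + a⁻¹ * b⁻¹ - 3 := by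
      rw [← Finset.sum_subset (Finset.subset_univ {i, j, l}) (fun k _ hk => by
        simp only [Finset.mem_insert, Finset.mem_singleton, not_or] at hk
        simp [hd, hk.1, hk.2.1, hk.2.2])]
      rw [Finset.sum_insert (by simp [hdist.1, hdist.2.1]), Finset.sum_insert (by simp [hdist.2.2]),
        Finset.sum_singleton]
      simp only [hd, if_pos, if_neg hdist.1.symm, if_neg hdist.2.1.symm, if_neg hdist.2.2.symm]
      ring
    have h3 : (Matrix.diagonal d).trace ∈ F₀ := h1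
    rw [Matrix.trace_diagonal] at h3
    rw [Finset.sum_sub_distrib, Finset.sum_const, Finset.card_univ, Fintype.card_fin, nsmul_eq_mul,
      mul_one] at h2
    have h4 : a + b + a⁻¹ * b⁻¹ = (∑ k, d k) - (n : F) + ((3 : ℕ) : F) := by
      rw [h2]; push_cast; ring
    rw [h4]
    exact F₀.add_mem (F₀.sub_mem h3 (natCast_mem F₀ n)) (natCast_mem F₀ 3)
  have hinv : ∀ x : F, x ^ (q + 1) = 1 → x⁻¹ ^ (q + 1) = 1 := fun x hx => by
    rw [inv_pow, hx, inv_one]
  have hpair : ∀ x y : F, x ^ (q + 1) = 1 → y ^ (q + 1) = 1 → (x - 1) * (y - 1) ∈ F₀ := by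
    intro x y hx hy
    have h1 : (x - 1) * (y - 1) = (x⁻¹ + y⁻¹ + x⁻¹⁻¹ * y⁻¹⁻¹) - (x⁻¹ + 1 + x⁻¹⁻¹ * 1⁻¹)
        - (1 + y⁻¹ + 1⁻¹ * y⁻¹⁻¹) + (1 + 1 + 1⁻¹ * 1⁻¹) := by
      simp only [inv_inv, inv_one]; ring
    rw [h1]
    exact F₀.add_mem (F₀.sub_mem (F₀.sub_mem (hs _ _ (hinv x hx) (hinv y hy))
      (hs _ _ (hinv x hx) (one_pow _))) (hs _ _ (one_pow _) (hinv y hy))) (hs _ _ (one_pow _) (one_pow _))
  obtain ⟨ζ, hζ, hζ1, hζ2⟩ := Unitary.exists_normOne_ne hF
  have hu0 : ζ - 1 ≠ 0 := sub_ne_zero.2 hζ1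
  have hu : ζ - 1 ∈ F₀ := by
    have hz2 : (ζ ^ 2) ^ (q + 1) = 1 := by rw [← pow_mul, mul_comm, pow_mul, hζ, one_pow]
    have h1 := F₀.mul_mem (hpair _ _ hz2 hζ) (F₀.inv_mem (hpair _ _ hζ hζ))
    have h2 : (ζ ^ 2 - 1) * (ζ - 1) * ((ζ - 1) * (ζ - 1))⁻¹ = ζ - 1 + ((2 : ℕ) : F) := by
      field_simp
      push_cast
      ring
    rw [h2] at h1
    simpa using F₀.sub_mem h1 (natCast_mem F₀ 2)
  have hall : ∀ x : F, x ^ (q + 1) = 1 → x ∈ F₀ := by
    intro x hx
    have h1 := F₀.mul_mem (hpair x ζ hx hζ) (F₀.inv_mem hu)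
    rw [mul_assoc, mul_inv_cancel₀ hu0, mul_one] at h1
    simpa using F₀.add_mem h1 F₀.one_mem
  have h1 : q + 1 ≤ Nat.card F₀ := by
    rw [← Unitary.natCard_normOne hF]
    refine Nat.card_le_card_of_injective (fun u => (⟨((u : Fˣ) : F),
      hall _ (by simpa using congrArg Units.val u.2)⟩ : F₀)) fun a b hab => ?_
    exact Subtype.ext (Units.ext (Subtype.mk.inj hab))
  have h2 : Nat.card F₀ ^ 2 ≤ q ^ 2 := by
    rw [← hF, hcard]
    exact Nat.pow_le_pow_right (by omega) hr.two_le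
  have := Nat.pow_le_pow_left h1 2
  nlinarith

/-! ### Tensor decompositions -/

include hF in
/-- In any coordinates, a non-scalar element fixing a hyperplane pointwise. -/
lemma exists_coord_transvection {κ : Type} [Fintype κ] [DecidableEq κ] (hn : 2 ≤ n)
    (e : Fin n ≃ κ) (P : GL (Fin n) F) :
    ∃ g ∈ suGL n F q, (∀ c : F, (glCoord e P g : Matrix κ κ F) ≠ c • 1) ∧
      ∃ ψ : (κ → F) →ₗ[F] F, ∀ y, ψ y = 0 → (glCoord e P g : Matrix κ κ F) *ᵥ y = y := by
  haveI : Nonempty (Fin n) := ⟨⟨0, by omega⟩⟩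
  obtain ⟨g, hg, hns, φ, hφ⟩ := exists_suGL_transvection hF hn
  have hcancel : ∀ u v : κ → F, (P : Matrix (Fin n) (Fin n) F) *ᵥ (u ∘ e) =
      (P : Matrix (Fin n) (Fin n) F) *ᵥ (v ∘ e) → u = v := fun u v huv => by
    have h1 := congrArg (fun z => ((P⁻¹ : GL (Fin n) F) : Matrix (Fin n) (Fin n) F) *ᵥ z) huv
    simp only [Matrix.mulVec_mulVec, Units.inv_mul, Matrix.one_mulVec] at h1
    funext k
    simpa using congrFun h1 (e.symm k)
  refine ⟨g, hg, fun c hc => hns (mem_scalars_of_eq_smul g c (Matrix.ext_iff_mulVec.2 fun x => ?_)),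
    φ.comp ((Matrix.toLin' (P : Matrix (Fin n) (Fin n) F)).comp (LinearMap.funLeft F F e)),
    fun y hy => hcancel _ _ ?_⟩
  · set y : κ → F := (((P⁻¹ : GL (Fin n) F) : Matrix (Fin n) (Fin n) F) *ᵥ x) ∘ e.symm
    have hy : (P : Matrix (Fin n) (Fin n) F) *ᵥ (y ∘ e) = x := by
      simp [y, Function.comp_assoc, Matrix.mulVec_mulVec]
    have h1 := glCoord_mulVec e P g y
    rw [hc, hy, smul_mulVec'] at h1
    rw [smul_mulVec', ← h1, Pi.smul_comp, Matrix.mulVec_smul, hy]
  · rw [glCoord_mulVec]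
    exact hφ _ hy

/-- Pure vectors in a tensor power. -/
def pureVec {k t : ℕ} (w : Fin t → Fin k → F) : (Fin t → Fin k) → F := fun x => ∏ i, w i (x i)

omit [Fintype F] in
lemma monTensor_mulVec_pureVec {k t : ℕ} (σ : Equiv.Perm (Fin t))
    (gs : Fin t → Matrix (Fin k) (Fin k) F) (w : Fin t → Fin k → F) :
    monTensor σ gs *ᵥ pureVec w = pureVec fun i => gs i *ᵥ w (σ i) := by
  funext x
  simp only [Matrix.mulVec, dotProduct, monTensor, Matrix.of_apply, pureVec]
  rw [Fintype.prod_sum]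
  refine Fintype.sum_equiv (Equiv.arrowCongr σ.symm (Equiv.refl (Fin k))) _ _ fun y => ?_
  rw [← Equiv.prod_comp σ (fun i => w i (y i)), ← Finset.prod_mul_distrib]
  simp

omit [Fintype F] in
lemma pureVec_update {k t : ℕ} (w : Fin t → Fin k → F) (l : Fin t) (v : Fin k → F)
    (x : Fin t → Fin k) :
    pureVec (Function.update w l v) x = v (x l) * ∏ i ∈ Finset.univ.erase l, w i (x i) := by
  rw [pureVec, ← Finset.mul_prod_erase _ _ (Finset.mem_univ l), Function.update_self]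
  congr 1
  exact Finset.prod_congr rfl fun i hi => by rw [Function.update_of_ne (Finset.ne_of_mem_erase hi)]

omit [Fintype F] in
lemma exists_smul_of_pureVec_eq {k t : ℕ} {a b : Fin t → Fin k → F} (hb : ∀ i, b i ≠ 0)
    (h : pureVec a = pureVec b) (l : Fin t) : ∃ c : F, a l = c • b l := by
  classical
  choose z hz using fun i => Function.ne_iff.1 (hb i)
  simp only [Pi.zero_apply] at hz
  have hA : ∀ y, a l y * ∏ i ∈ Finset.univ.erase l, a i (z i) =
      b l y * ∏ i ∈ Finset.univ.erase l, b i (z i) := by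
    intro y
    have h1 := congrFun h (Function.update z l y)
    simp only [pureVec, ← Finset.mul_prod_erase _ _ (Finset.mem_univ l), Function.update_self] at h1
    convert h1 using 2 <;> exact Finset.prod_congr rfl fun i hi => by
      rw [Function.update_of_ne (Finset.ne_of_mem_erase hi)]
  have hB : ∏ i ∈ Finset.univ.erase l, b i (z i) ≠ 0 := Finset.prod_ne_zero_iff.2 fun i _ => hz i
  have hA0 : ∏ i ∈ Finset.univ.erase l, a i (z i) ≠ 0 := fun h0 => by
    have := hA (z l); rw [h0, mul_zero] at this; exact mul_ne_zero (hz l) hB this.symm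
  refine ⟨(∏ i ∈ Finset.univ.erase l, b i (z i)) / ∏ i ∈ Finset.univ.erase l, a i (z i),
    funext fun y => ?_⟩
  rw [Pi.smul_apply, smul_eq_mul, div_mul_eq_mul_div, eq_div_iff hA0, hA y, mul_comm]

include hF in
theorem not_suGL_le_wreath (hn : 2 ≤ n) {k t : ℕ} (hk : 3 ≤ k) (ht : 2 ≤ t)
    (e : Fin n ≃ (Fin t → Fin k)) (P : GL (Fin n) F) :
    ¬ suGL n F q ≤ tensorWreathSubgroup k t e P := by
  classical
  intro hle
  obtain ⟨g, hg, hns, ψ, hψ⟩ := exists_coord_transvection hF hn e P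
  obtain ⟨σ, gs, hgs⟩ := exists_monTensor_of_mem_wreath (hle hg)
  set M : Fin t → Matrix (Fin k) (Fin k) F := fun i => (gs i : Matrix (Fin k) (Fin k) F) with hM
  have hgs' : (glCoord e P g : Matrix (Fin t → Fin k) (Fin t → Fin k) F) = monTensor σ M := hgs
  set e₀ : Fin k → F := Pi.single ⟨0, by omega⟩ 1
  have he₀ : e₀ ≠ 0 := fun h0 => one_ne_zero (α := F) (by simpa [e₀] using congrFun h0 ⟨0, by omega⟩)
  have hslot : ∀ (w : Fin t → Fin k → F) (l : Fin t), ∃ U : Submodule F (Fin k → F),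
      2 ≤ Module.finrank F U ∧ ∀ v ∈ U,
        pureVec (fun i => M i *ᵥ Function.update w l v (σ i)) = pureVec (Function.update w l v) := by
    intro w l
    let L : (Fin k → F) →ₗ[F] ((Fin t → Fin k) → F) :=
      { toFun := fun v => pureVec (Function.update w l v)
        map_add' := fun u v => funext fun x => by simp [pureVec_update, add_mul]
        map_smul' := fun c v => funext fun x => by simp [pureVec_update, mul_assoc] }
    refine ⟨LinearMap.ker (ψ.comp L), ?_, fun v hv => ?_⟩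
    · have h1 := LinearMap.finrank_range_add_finrank_ker (ψ.comp L)
      have h2 := Submodule.finrank_le (LinearMap.range (ψ.comp L))
      rw [Module.finrank_self] at h2
      rw [Module.finrank_fintype_fun_eq_card, Fintype.card_fin] at h1
      omega
    · rw [← monTensor_mulVec_pureVec, ← hgs']
      exact hψ _ hv
  have hσ : ∀ i, σ i = i := by
    intro i
    by_contra hne
    obtain ⟨U, hU, hfix⟩ := hslot (fun _ => e₀) (σ i)
    have hinj : Function.Injective (Matrix.toLin' (M i)) := fun a b hab => by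
      simp only [Matrix.toLin'_apply] at hab
      have h1 := congrArg (fun z => ((gs i)⁻¹ : GL (Fin k) F).val *ᵥ z) hab
      simpa [hM, Matrix.mulVec_mulVec] using h1
    have h1 : U.map (Matrix.toLin' (M i)) ≤ Submodule.span F {e₀} := by
      rintro _ ⟨v, hv, rfl⟩
      by_cases hv0 : v = 0
      · simp [hv0]
      obtain ⟨c, hc⟩ := exists_smul_of_pureVec_eq (fun j => by
        rw [Function.update_apply]; split_ifs; exacts [hv0, he₀]) (hfix v hv) i
      rw [Function.update_self, Function.update_of_ne (Ne.symm hne)] at hc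
      rw [Matrix.toLin'_apply, hc]
      exact Submodule.smul_mem _ _ (Submodule.mem_span_singleton_self _)
    have h2 := Submodule.finrank_mono h1
    rw [← LinearEquiv.finrank_eq (Submodule.equivMapOfInjective _ hinj U),
      finrank_span_singleton he₀] at h2
    omega
  obtain rfl : σ = 1 := Equiv.ext hσ
  haveI : Nonempty (Fin k) := ⟨⟨0, by omega⟩⟩
  have hscal : ∀ l, ∃ c : F, M l = c • 1 := fun l => by
    refine scalar_of_forall_mem_span fun v => ?_
    by_cases hv : v = 0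
    · simp [hv]
    haveI : Nontrivial (Fin t) := Fin.nontrivial_iff_two_le.2 ht
    obtain ⟨j, hj⟩ := exists_ne l
    obtain ⟨U, hU, hfix⟩ := hslot (Function.update (fun _ => e₀) l v) j
    obtain ⟨u, hu, hu0⟩ := Submodule.exists_mem_ne_zero_of_ne_bot (p := U) (fun h0 => by
      rw [h0, finrank_bot] at hU; omega)
    obtain ⟨c, hc⟩ := exists_smul_of_pureVec_eq (fun i => by
      rw [Function.update_apply]; split_ifs with h1
      · exact hu0
      · rw [Function.update_apply]; split_ifs; exacts [hv, he₀]) (hfix u hu) l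
    rw [Equiv.Perm.one_apply, Function.update_of_ne hj.symm, Function.update_self] at hc
    rw [hc]
    exact Submodule.smul_mem _ _ (Submodule.mem_span_singleton_self _)
  choose c hc using hscal
  refine hns (∏ i, c i) ?_
  rw [hgs']
  ext x y
  simp only [monTensor, Matrix.of_apply, hc, Matrix.smul_apply, Matrix.one_apply, smul_eq_mul,
    Finset.prod_mul_distrib, Equiv.Perm.one_apply]
  congr 1
  by_cases hxy : x = y
  · simp [hxy]
  · obtain ⟨i, hi⟩ := Function.ne_iff.1 hxy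
    rw [if_neg hxy]
    exact Finset.prod_eq_zero (Finset.mem_univ i) (if_neg hi)

omit [Fintype F] in
lemma units_mulVec_ne_zero {κ : Type} [Fintype κ] [DecidableEq κ] (u : GL κ F) {y : κ → F}
    (hy : y ≠ 0) : (u : Matrix κ κ F) *ᵥ y ≠ 0 := fun h0 => hy (by
  have h1 := congrArg (fun z => ((u⁻¹ : GL κ F) : Matrix κ κ F) *ᵥ z) h0
  simpa [Matrix.mulVec_mulVec] using h1)

include hF in
theorem not_suGL_le_tensor (hn : 2 ≤ n) {n₁ n₂ : ℕ} (h1 : 2 ≤ n₁) (h2 : 2 ≤ n₂)
    (e : Fin n ≃ Fin n₁ × Fin n₂) (P : GL (Fin n) F) :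
    ¬ suGL n F q ≤ tensorProductSubgroup n₁ n₂ e P := by
  classical
  intro hle
  haveI : Nonempty (Fin n₁) := ⟨⟨0, by omega⟩⟩
  haveI : Nonempty (Fin n₂) := ⟨⟨0, by omega⟩⟩
  obtain ⟨g, hg, hns, ψ, hψ⟩ := exists_coord_transvection hF hn e P
  obtain ⟨a, b, hab⟩ := exists_kronecker_of_mem (hle hg)
  set pv : (Fin n₁ → F) → (Fin n₂ → F) → (Fin n₁ × Fin n₂ → F) := fun x y p => x p.1 * y p.2 with hpv
  have hmul : ∀ x y, ((a : Matrix (Fin n₁) (Fin n₁) F) ⊗ₖ (b : Matrix (Fin n₂) (Fin n₂) F)) *ᵥ pv x y =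
      pv ((a : Matrix (Fin n₁) (Fin n₁) F) *ᵥ x) ((b : Matrix (Fin n₂) (Fin n₂) F) *ᵥ y) := by
    intro x y
    funext p
    simp only [hpv, Matrix.mulVec, dotProduct, Fintype.sum_prod_type, Matrix.kroneckerMap_apply,
      Finset.sum_mul_sum]
    exact Finset.sum_congr rfl fun i _ => Finset.sum_congr rfl fun j _ => by ring
  have hprop : ∀ (x x' : Fin n₁ → F) (y y' : Fin n₂ → F), x' ≠ 0 → y' ≠ 0 → pv x' y' = pv x y →
      x' ∈ Submodule.span F {x} ∧ y' ∈ Submodule.span F {y} := by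
    intro x x' y y' hx hy hxy
    obtain ⟨i, hi⟩ := Function.ne_iff.1 hx
    obtain ⟨j, hj⟩ := Function.ne_iff.1 hy
    rw [Pi.zero_apply] at hi hj
    constructor
    · refine Submodule.mem_span_singleton.2 ⟨y j / y' j, funext fun z => ?_⟩
      have := congrFun hxy (z, j)
      simp only [hpv] at this
      rw [Pi.smul_apply, smul_eq_mul, div_mul_eq_mul_div, div_eq_iff hj]
      linear_combination -this
    · refine Submodule.mem_span_singleton.2 ⟨x i / x' i, funext fun z => ?_⟩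
      have := congrFun hxy (i, z)
      simp only [hpv] at this
      rw [Pi.smul_apply, smul_eq_mul, div_mul_eq_mul_div, div_eq_iff hi]
      linear_combination -this
  obtain ⟨ca, hca⟩ := scalar_of_forall_mem_span (x := (a : Matrix (Fin n₁) (Fin n₁) F)) fun x => by
    by_cases hx : x = 0
    · simp [hx]
    let L : (Fin n₂ → F) →ₗ[F] (Fin n₁ × Fin n₂ → F) :=
      { toFun := fun y => pv x y
        map_add' := fun u v => funext fun p => by simp [hpv, mul_add]
        map_smul' := fun c v => funext fun p => by simp [hpv, mul_left_comm] }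
    obtain ⟨y, hy, hy0⟩ := Submodule.exists_mem_ne_zero_of_ne_bot
      (LinearMap.ker_ne_bot_of_finrank_lt (f := ψ.comp L) (by
        rw [Module.finrank_fintype_fun_eq_card, Fintype.card_fin, Module.finrank_self]; omega))
    have h3 := hψ _ hy
    rw [hab] at h3
    exact (hprop x _ y _ (units_mulVec_ne_zero a hx) (units_mulVec_ne_zero b hy0) ((hmul x y).symm.trans h3)).1
  obtain ⟨cb, hcb⟩ := scalar_of_forall_mem_span (x := (b : Matrix (Fin n₂) (Fin n₂) F)) fun y => by
    by_cases hy : y = 0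
    · simp [hy]
    let L : (Fin n₁ → F) →ₗ[F] (Fin n₁ × Fin n₂ → F) :=
      { toFun := fun x => pv x y
        map_add' := fun u v => funext fun p => by simp [hpv, add_mul]
        map_smul' := fun c v => funext fun p => by simp [hpv, mul_assoc] }
    obtain ⟨x, hx, hx0⟩ := Submodule.exists_mem_ne_zero_of_ne_bot
      (LinearMap.ker_ne_bot_of_finrank_lt (f := ψ.comp L) (by
        rw [Module.finrank_fintype_fun_eq_card, Fintype.card_fin, Module.finrank_self]; omega))
    have h3 := hψ _ hx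
    rw [hab] at h3
    exact (hprop x _ y _ (units_mulVec_ne_zero a hx0) (units_mulVec_ne_zero b hy) ((hmul x y).symm.trans h3)).2
  refine hns (ca * cb) ?_
  rw [hab, hca, hcb, Matrix.smul_kronecker, Matrix.kronecker_smul, Matrix.one_kronecker_one, smul_smul]

/-! ### Normalisers of groups of symplectic type -/

/-- The elements on which conjugation by `g` is multiplication by an element of the normal subgroup. -/
def congrModSubgroup {G : Type*} [Group G] (Z : Subgroup G) [Z.Normal] (g : G) : Subgroup G where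
  carrier := {x | g * x * g⁻¹ * x⁻¹ ∈ Z}
  mul_mem' {x y} hx hy := by
    show g * (x * y) * g⁻¹ * (x * y)⁻¹ ∈ Z
    rw [show g * (x * y) * g⁻¹ * (x * y)⁻¹ =
      (g * x * g⁻¹ * x⁻¹) * (x * (g * y * g⁻¹ * y⁻¹) * x⁻¹) by group]
    exact mul_mem hx (Subgroup.Normal.conj_mem inferInstance _ hy _)
  one_mem' := by simp
  inv_mem' {x} hx := by
    show g * x⁻¹ * g⁻¹ * x⁻¹⁻¹ ∈ Z
    rw [show g * x⁻¹ * g⁻¹ * x⁻¹⁻¹ = x⁻¹ * (g * x * g⁻¹ * x⁻¹)⁻¹ * x⁻¹⁻¹ by group]
    exact Subgroup.Normal.conj_mem inferInstance _ (inv_mem hx) _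

/-- Two elements scaling `x` by central elements have commutator centralising `x`. -/
lemma commute_commutator_of_central {G : Type*} [Group G] {a b x α β : G}
    (hα : α ∈ Subgroup.center G) (hβ : β ∈ Subgroup.center G) (ha : a * x * a⁻¹ = α * x)
    (hb : b * x * b⁻¹ = β * x) : ⁅a, b⁆ * x = x * ⁅a, b⁆ := by
  have inv : ∀ {g c : G}, c ∈ Subgroup.center G → g * x * g⁻¹ = c * x → g⁻¹ * x * g⁻¹⁻¹ = c⁻¹ * x := by
    intro g c hc hg
    have hx : x = c⁻¹ * (g * x * g⁻¹) := by rw [hg, inv_mul_cancel_left]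
    conv_lhs => rw [hx]
    rw [← mul_assoc g⁻¹ c⁻¹, Subgroup.mem_center_iff.1 (inv_mem hc) g⁻¹]
    group
  have mul : ∀ {g h c d : G}, c ∈ Subgroup.center G → d ∈ Subgroup.center G → g * x * g⁻¹ = c * x →
      h * x * h⁻¹ = d * x → g * h * x * (g * h)⁻¹ = d * c * x := by
    intro g h c d _ hd hg hh
    rw [show g * h * x * (g * h)⁻¹ = g * (h * x * h⁻¹) * g⁻¹ by group, hh, ← mul_assoc g d,
      Subgroup.mem_center_iff.1 hd g, mul_assoc d c, ← hg]
    group
  have h1 := mul (mul_mem hβ hα) (inv_mem hα) (mul hα hβ ha hb) (inv hα ha)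
  have h2 := mul (mul_mem (inv_mem hα) (mul_mem hβ hα)) (inv_mem hβ) h1 (inv hβ hb)
  rw [Subgroup.mem_center_iff.1 hα β, inv_mul_cancel_left, inv_mul_cancel, one_mul] at h2
  rw [commutatorElement_def]
  exact mul_inv_eq_iff_eq_mul.1 h2

/-- A finite group of order a power of r is generated by few elements. -/
lemma exists_generators {G : Type*} [Group G] [Finite G] {r a : ℕ} (hr : r.Prime)
    (hG : Nat.card G = r ^ a) : ∃ S : Finset G, S.card ≤ a ∧ Subgroup.closure (S : Set G) = ⊤ := by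
  classical
  have key : ∀ j, ∃ S : Finset G, S.card ≤ j ∧
      (Subgroup.closure (S : Set G) = ⊤ ∨ r ^ j ≤ Nat.card (Subgroup.closure (S : Set G))) := by
    intro j
    induction j with
    | zero => exact ⟨∅, le_rfl, Or.inr (by rw [pow_zero]; exact Nat.card_pos)⟩
    | succ j ih =>
      obtain ⟨S, hS, h | h⟩ := ih
      · exact ⟨S, by omega, Or.inl h⟩
      by_cases htop : Subgroup.closure (S : Set G) = ⊤
      · exact ⟨S, by omega, Or.inl htop⟩
      obtain ⟨x, -, hx⟩ := SetLike.exists_of_lt (lt_top_iff_ne_top.2 htop)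
      refine ⟨insert x S, (Finset.card_insert_le _ _).trans (by omega), Or.inr ?_⟩
      set A := Subgroup.closure (S : Set G)
      set B := Subgroup.closure ((insert x S : Finset G) : Set G)
      have hAB : A ≤ B := Subgroup.closure_mono (by simp)
      have hne : A ≠ B := fun he => hx (he ▸ Subgroup.subset_closure (by simp))
      obtain ⟨u, hu, hA⟩ := (Nat.dvd_prime_pow hr).1 (hG ▸ A.card_subgroup_dvd_card)
      obtain ⟨v, hv, hB⟩ := (Nat.dvd_prime_pow hr).1 (hG ▸ B.card_subgroup_dvd_card)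
      have hlt : Nat.card A < Nat.card B :=
        lt_of_le_of_ne (Nat.card_le_card_of_injective _ (Subgroup.inclusion_injective hAB))
          fun he => hne (Subgroup.eq_of_le_of_card_ge hAB he.ge)
      rw [hA, hB, Nat.pow_lt_pow_iff_right hr.one_lt] at hlt
      rw [hA, Nat.pow_le_pow_iff_right hr.one_lt] at h
      rw [hB, Nat.pow_le_pow_iff_right hr.one_lt]
      omega
  obtain ⟨S, hS, h⟩ := key a
  refine ⟨S, hS, h.elim id fun h => Subgroup.eq_top_of_card_eq _ ?_⟩
  exact le_antisymm (Subgroup.card_le_card_group _) (hG.trans_le h)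

omit [Fintype F] in
lemma normalizer_numerics {n q r k : ℕ} (hr : r.Prime) (hq : 2 ≤ q) (hn : 3 ≤ n) (hn12 : n ≤ 12)
    (h32 : ¬ (n = 3 ∧ q = 2)) (hk : n = r ^ k) (hrq : r = 2 → q ≠ 2)
    (h : q ^ (n * n) ≤ (q + 1) ^ 2 * (r ^ (2 * k)) ^ (2 * k)) : False := by
  have hq2 : (q + 1) ^ 2 ≤ q ^ 4 := by
    rw [show q ^ 4 = (q ^ 2) ^ 2 by ring]; exact Nat.pow_le_pow_left (by nlinarith) 2
  obtain ⟨d, hd⟩ : ∃ d, n * n = 4 + d := ⟨n * n - 4, by have := Nat.mul_le_mul hn hn; omega⟩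
  have h3 : q ^ d ≤ (r ^ (2 * k)) ^ (2 * k) := by
    have h4 := h.trans (Nat.mul_le_mul hq2 le_rfl)
    rw [hd, pow_add] at h4
    exact Nat.le_of_mul_le_mul_left h4 (Nat.pow_pos (by omega))
  have hr2 := hr.two_le
  have hk3 : k ≤ 3 := by
    by_contra hc
    have := Nat.pow_le_pow_right hr.pos (show 4 ≤ k by omega)
    have h5 := Nat.pow_le_pow_left hr2 4
    omega
  have hrn : r ≤ n := by
    rw [hk]
    refine Nat.le_self_pow (fun h0 => ?_) r
    rw [h0, pow_zero] at hk; omega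
  have hr12 : r ≤ 12 := hrn.trans hn12
  have hd' : d = n * n - 4 := by omega
  subst hd'
  subst hk
  have hbase : ∀ b, b ≤ q → b ^ (r ^ k * r ^ k - 4) ≤ (r ^ (2 * k)) ^ (2 * k) := fun b hb =>
    (Nat.pow_le_pow_left hb _).trans h3
  have hb2 := hbase 2 hq
  have hb3 : 3 ≤ q → 3 ^ (r ^ k * r ^ k - 4) ≤ (r ^ (2 * k)) ^ (2 * k) := fun hq3 => hbase 3 hq3
  clear h h3 hbase hq2 hd
  interval_cases k <;> interval_cases r <;> norm_num at *
  all_goals omega

include hF in
theorem not_suGL_le_normalizer (hn : 3 ≤ n) (hn12 : n ≤ 12) (h : ¬ (n = 3 ∧ q = 2))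
    {r p e k : ℕ} {R : Subgroup (GL (Fin n) F)} (hR : IsSymplecticTypeGroup r R)
    (habs : ActsAbsolutelyIrreducibly (matrixSet R)) (hrp : r ≠ p)
    (hmin : IsMinimalFieldFor (Nat.card (Subgroup.center R)) p e F)
    (hcase : (Odd r ∧ Nat.card (Subgroup.center R) = r ∧ 1 ≤ k ∧ Nat.card R = r ^ (1 + 2 * k)) ∨
      (r = 2 ∧ e = 2 ∧ Nat.card (Subgroup.center R) = 4 ∧ Nat.card R = 2 ^ (2 + 2 * k)))
    (hk : n = r ^ k) : ¬ suGL n F q ≤ subgroupNormalizer R := by
  classical
  intro hle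
  haveI : Nonempty (Fin n) := ⟨⟨0, by omega⟩⟩
  have hconj : ∀ g ∈ suGL n F q, ∀ x ∈ R, g * x * g⁻¹ ∈ R := fun g hg x hx =>
    (Subgroup.mem_normalizer_iff.1 (hle hg) x).1 hx
  have hcentre : ∀ x : R, x ∈ Subgroup.center R → (x : GL (Fin n) F) ∈ scalars (Fin n) F := by
    intro x hx
    obtain ⟨c, hc⟩ := habs.2 ((x : GL (Fin n) F) : Matrix (Fin n) (Fin n) F) (by
      rintro _ ⟨y, hy, rfl⟩
      exact congrArg (fun z : R => ((z : GL (Fin n) F) : Matrix (Fin n) (Fin n) F))
        (Subgroup.mem_center_iff.1 hx ⟨y, hy⟩).symm)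
    exact mem_scalars_of_eq_smul _ c hc
  let K : Subgroup (GL (Fin n) F) :=
    { carrier := {g | g ∈ suGL n F q ∧ ∀ x ∈ R, g * x * g⁻¹ * x⁻¹ ∈ scalars (Fin n) F}
      mul_mem' := fun {a b} ha hb => ⟨mul_mem ha.1 hb.1, fun x hx => by
        rw [show a * b * x * (a * b)⁻¹ * x⁻¹ = (a * (b * x * b⁻¹ * x⁻¹) * a⁻¹) * (a * x * a⁻¹ * x⁻¹) by
          group]
        exact mul_mem (scalars_normal.conj_mem _ (hb.2 x hx) a) (ha.2 x hx)⟩
      one_mem' := ⟨one_mem _, fun x _ => by simp⟩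
      inv_mem' := fun {a} ha => ⟨inv_mem ha.1, fun x hx => by
        rw [show a⁻¹ * x * a⁻¹⁻¹ * x⁻¹ = a⁻¹ * (a * x * a⁻¹ * x⁻¹)⁻¹ * a⁻¹⁻¹ by group]
        exact scalars_normal.conj_mem _ (inv_mem (ha.2 x hx)) a⁻¹⟩ }
  have hnorm : ∀ g ∈ suGL n F q, ∀ a ∈ K, g * a * g⁻¹ ∈ K := by
    intro g hg a ha
    refine ⟨mul_mem (mul_mem hg ha.1) (inv_mem hg), fun x hx => ?_⟩
    have hy : g⁻¹ * x * g ∈ R := by simpa using hconj g⁻¹ (inv_mem hg) x hx
    rw [show g * a * g⁻¹ * x * (g * a * g⁻¹)⁻¹ * x⁻¹ =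
      g * (a * (g⁻¹ * x * g) * a⁻¹ * (g⁻¹ * x * g)⁻¹) * g⁻¹ by group]
    exact scalars_normal.conj_mem _ (ha.2 _ hy) g
  rcases suGL_normal_cases hF hn h (N := K) (fun g hg => hg.1) hnorm with hK | hK
  swap
  · apply not_suGL_le_scalars hF (n := n) (q := q) (by omega)
    rw [← commutator_suGL hF hn h, Subgroup.commutator_le]
    intro a ha b hb
    obtain ⟨c, hc⟩ := habs.2 ((⁅a, b⁆ : GL (Fin n) F) : Matrix (Fin n) (Fin n) F) (by
      rintro _ ⟨x, hx, rfl⟩
      have hc : ∀ d ∈ K, d * x * d⁻¹ * x⁻¹ ∈ Subgroup.center (GL (Fin n) F) := fun d hd =>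
        Subgroup.mem_center_iff.2 (scalars_comm (hd.2 x hx))
      have e5 := commute_commutator_of_central (hc a (hK.ge ha)) (hc b (hK.ge hb))
        (inv_mul_cancel_right _ x).symm (inv_mul_cancel_right _ x).symm
      exact congrArg Units.val e5)
    exact mem_scalars_of_eq_smul _ c hc
  -- generators modulo the centre
  have hQ : Nat.card (R ⧸ Subgroup.center R) = r ^ (2 * k) := by
    have h1 := Subgroup.card_eq_card_quotient_mul_card_subgroup (Subgroup.center R)
    rcases hcase with ⟨-, hz, -, hc⟩ | ⟨rfl, -, hz, hc⟩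
    · rw [hc, hz, pow_add, pow_one] at h1
      exact (Nat.eq_of_mul_eq_mul_right hR.prime.pos (by rw [← h1, mul_comm])).symm
    · rw [hc, hz, pow_add] at h1
      omega
  obtain ⟨S, hS, hgen⟩ := exists_generators hR.prime hQ
  choose rep hrep using fun s : R ⧸ Subgroup.center R => QuotientGroup.mk'_surjective _ s
  let f : suGL n F q → (S → R ⧸ Subgroup.center R) := fun g s =>
    QuotientGroup.mk' _ ⟨(g : GL (Fin n) F) * (rep s : GL (Fin n) F) * (g : GL (Fin n) F)⁻¹,
      hconj _ g.2 _ (rep (s : R ⧸ Subgroup.center R)).2⟩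
  have h1 := pow_sq_le_of_fibres hF (by omega) f fun a b hab => by
    refine hK ⟨(a⁻¹ * b).2, ?_⟩
    set g : GL (Fin n) F := ((a⁻¹ * b : suGL n F q) : GL (Fin n) F) with hg
    let L : Subgroup R := (congrModSubgroup (scalars (Fin n) F) g).subgroupOf R
    have hZL : Subgroup.center R ≤ L := fun x hx => by
      rw [Subgroup.mem_subgroupOf]
      show g * (x : GL (Fin n) F) * g⁻¹ * (x : GL (Fin n) F)⁻¹ ∈ scalars (Fin n) F
      rw [scalars_comm (hcentre x hx) g]
      group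
      exact one_mem _
    have htop : L = ⊤ := by
      have h2 : L.map (QuotientGroup.mk' (Subgroup.center R)) = ⊤ := by
        rw [eq_top_iff, ← hgen, Subgroup.closure_le]
        intro s hs
        refine ⟨rep s, Subgroup.mem_subgroupOf.2 ?_, hrep s⟩
        have h3 := congrFun hab ⟨s, hs⟩
        simp only [f, QuotientGroup.mk'_apply, QuotientGroup.eq] at h3
        have h4 := hcentre _ h3
        simp only [Subgroup.coe_mul, Subgroup.coe_inv] at h4
        show g * (rep s : GL (Fin n) F) * g⁻¹ * (rep s : GL (Fin n) F)⁻¹ ∈ scalars (Fin n) F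
        have h5 := scalars_normal.conj_mem _ (scalars_normal.conj_mem _ h4 (a : GL (Fin n) F)⁻¹)
          (rep s : GL (Fin n) F)
        convert h5 using 1
        rw [hg, Subgroup.coe_mul, Subgroup.coe_inv]
        group
      rw [← Subgroup.comap_map_eq_self (f := QuotientGroup.mk' (Subgroup.center R)) (H := L)
        (by rw [QuotientGroup.ker_mk']; exact hZL), h2, Subgroup.comap_top]
    intro x hx
    have h9 : (⟨x, hx⟩ : R) ∈ L := by
      rw [htop]
      exact Subgroup.mem_top _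
    rw [Subgroup.mem_subgroupOf] at h9
    exact h9
  rw [Nat.card_fun, hQ, Nat.card_eq_fintype_card (α := (S : Type _)), Fintype.card_coe] at h1
  refine normalizer_numerics hR.prime (UnitaryCount.one_lt_q hF) hn hn12 h hk ?_
    (h1.trans (Nat.mul_le_mul le_rfl (Nat.pow_le_pow_right (Nat.pow_pos hR.prime.pos) hS)))
  intro hr2 hq
  obtain ⟨hp, -, hcardp, -, -⟩ := hmin
  rcases hcase with ⟨hodd, -⟩ | ⟨-, he, -, -⟩
  · exact absurd (hr2 ▸ hodd) (by decide)
  · subst he
    have hpq : q = p := Nat.pow_left_injective (by norm_num) (hF.symm.trans hcardp)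
    omega

include hF in
/-- No member of the classes contains SU. -/
theorem IsUnMember.not_suGL_le (hn : 3 ≤ n) (hn12 : n ≤ 12) (h32 : ¬ (n = 3 ∧ q = 2))
    {M : Subgroup (GL (Fin n) F)} (hM : IsUnMember n F q M) : ¬ suGL n F q ≤ M := by
  unfold IsUnMember at hM
  rcases hM with ⟨W, h1, h2, rfl⟩ | ⟨W, h1, h2, h3, rfl⟩ | ⟨t, k, D, h1, rfl⟩ | ⟨k, D, h1, h2, h3, rfl⟩ |
    ⟨F₀, r, P, h1, h2, h3, h4, rfl⟩ | ⟨F₀, P, h1, h2, h3, rfl⟩ | ⟨F₀, P, ζ, h1, h2, h3, h4, h5, h6, rfl⟩ |
    ⟨r, R, p, e, k, h1, h2, h3, h4, h5, h6, h7, -, rfl⟩ | ⟨r, K, h1, h2, h3, h4, rfl⟩ |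
    ⟨n₁, n₂, e, P, f₁, f₂, h1, h2, h3, h4, h5, rfl⟩ | ⟨k, t, e, P, f₁, h1, h2, h3, h4, h5, rfl⟩
  · refine not_suGL_le_subspace hF (by omega) h1 ?_
    rintro rfl
    have := h2 (Pi.single ⟨0, by omega⟩ 1) trivial (Pi.single ⟨0, by omega⟩ 1) trivial
    rw [Unitary.H_single_single hF, if_pos rfl] at this
    exact one_ne_zero this
  · refine not_suGL_le_subspace hF (by omega) h1 ?_
    rintro rfl
    rw [finrank_top, Module.finrank_fintype_fun_eq_card, Fintype.card_fin] at h3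
    omega
  · exact not_suGL_le_decomposition hF hn h32 h1.decomp
  · exact not_suGL_le_decomposition hF hn h32 h2
  · exact not_suGL_le_subfieldSubgroup hF hn h32 h1 h3 P
  · exact not_suGL_le_subfieldSubgroup hF hn h32 Nat.prime_two h2 P
  · exact not_suGL_le_subfieldSubgroup hF hn h32 Nat.prime_two h2 P
  · exact not_suGL_le_normalizer hF hn hn12 h32 h1 h2 h4 h5 h6 h7
  · exact not_suGL_le_field hF hn h32 h1 h3
  · exact not_suGL_le_tensor hF (by omega) h1 (by omega) e P
  · exact not_suGL_le_wreath hF (by omega) h1 h2 e P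

include hF in
/-- A member containing a maximal subgroup of SU cuts it out. -/
theorem eq_inf_of_le_unMember (hn : 3 ≤ n) (hn12 : n ≤ 12) (h32 : ¬ (n = 3 ∧ q = 2))
    {H M : Subgroup (GL (Fin n) F)} (hH : IsMaximalIn (suGL n F q) H) (hM : IsUnMember n F q M)
    (hle : H ≤ M) : H = M ⊓ suGL n F q := by
  rcases hH.2 (M ⊓ suGL n F q) (le_inf hle hH.1.le) inf_le_right with h | h
  · exact h.symm
  · exact absurd (inf_eq_right.1 h) (hM.not_suGL_le hF hn hn12 h32)

end Cfsg.Agent.Aschbacher
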