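/-
Unitary decompositions over the field of four elements: finer members.
-/
import Mathlib
import Cfsg.Agent.Aschbacher.Un.Lists.Proper
import Cfsg.Agent.Aschbacher.Un.Tensor

set_option autoImplicit false
set_option linter.style.haveILetI false

namespace Cfsg.Agent.Aschbacher

open Matrix
open Cfsg.Geo
open Cfsg.Agent.Classical
open scoped Kronecker

variable {F : Type*} [Field F] [Fintype F] {n q : ℕ} (hF : Fintype.card F = q ^ 2)

local notation "⟪" u ", " v "⟫" => Cfsg.hermForm n F q u v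

include hF in
/-- An orthonormal frame permuted up to scalars by a group of isometries gives a decomposition into lines. -/
theorem exists_line_decomposition (hn : 2 ≤ n) {κ : Type} [Fintype κ] [DecidableEq κ]
    (hκ : Fintype.card κ = n) (v : κ → (Fin n → F)) (hv : ∀ i j, ⟪v i, v j⟫ = if i = j then 1 else 0)
    {S : Subgroup (GL (Fin n) F)} (hS : S ≤ Cfsg.GU n F q)
    (hperm : ∀ g ∈ S, ∀ i, ∃ (j : κ) (c : F), (g : Matrix (Fin n) (Fin n) F) *ᵥ v i = c • v j) :
    ∃ D : Fin n → Submodule F (Fin n → F),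
      IsNondegenerateMDecomposition (Cfsg.hermForm n F q) 1 D ∧ S ≤ decompositionStabilizer D := by
  classical
  let e : Fin n ≃ κ := (Fintype.equivFinOfCardEq hκ).symm
  set w : Fin n → (Fin n → F) := fun i => v (e i) with hw
  have hww : ∀ i j, ⟪w i, w j⟫ = if i = j then 1 else 0 := fun i j => by
    simp only [hw, hv, e.injective.eq_iff]
  have hli : LinearIndependent F w := by
    rw [Fintype.linearIndependent_iff]
    intro c hc j
    have h1 := congrArg (fun x => ⟪x, w j⟫) hc
    simp only [Unitary.H_sum_left, Unitary.H_smul_left, hww, Unitary.H_zero_left, mul_ite, mul_one,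
      mul_zero, Finset.sum_ite_eq', Finset.mem_univ, if_true] at h1
    exact h1
  refine ⟨fun i => Submodule.span F {w i}, ⟨⟨hn, one_pos,
    fun i => finrank_span_singleton (hli.ne_zero i), hli.iSupIndep_span_singleton, ?_⟩, ?_, ?_⟩, ?_⟩
  · rw [← Submodule.span_range_eq_iSup]
    haveI : Nonempty (Fin n) := ⟨⟨0, by omega⟩⟩
    exact hli.span_eq_top_of_card_eq_finrank (by simp)
  · intro i x hx hx0
    obtain ⟨a, rfl⟩ := Submodule.mem_span_singleton.1 hx
    have ha : a ≠ 0 := fun h => hx0 (by rw [h, zero_smul])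
    constructor
    · refine ⟨w i, Submodule.mem_span_singleton_self _, ?_⟩
      rw [Unitary.H_smul_right, hww, if_pos rfl, mul_one]
      exact pow_ne_zero _ ha
    · refine ⟨w i, Submodule.mem_span_singleton_self _, ?_⟩
      rw [Unitary.H_smul_left, hww, if_pos rfl, mul_one]
      exact ha
  · intro i j hij x hx y hy
    obtain ⟨a, rfl⟩ := Submodule.mem_span_singleton.1 hx
    obtain ⟨b, rfl⟩ := Submodule.mem_span_singleton.1 hy
    rw [Unitary.H_smul_left, Unitary.H_smul_right, hww, if_neg hij, mul_zero, mul_zero]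
  · intro g hg
    have h : ∀ i, ∃ (j : Fin n) (c : F), (g : Matrix (Fin n) (Fin n) F) *ᵥ w i = c • w j := fun i => by
      obtain ⟨j, c, hjc⟩ := hperm g hg (e i)
      exact ⟨e.symm j, c, by simp only [hw, Equiv.apply_symm_apply]; exact hjc⟩
    choose σ c hσ using h
    have hc : ∀ i, c i ≠ 0 := fun i h0 => by
      have h1 := (mem_GU hF).1 (hS hg) (w i) (w i)
      rw [hermData_form, hσ, h0, zero_smul, Unitary.H_zero_left, hww, if_pos rfl] at h1
      exact zero_ne_one h1
    have hinj : Function.Injective σ := fun i j hij => by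
      by_contra hne
      have h1 := (mem_GU hF).1 (hS hg) (w i) (w j)
      rw [hermData_form, hσ, hσ, hij, Unitary.H_smul_left, Unitary.H_smul_right, hww, hww, if_pos rfl,
        if_neg hne, mul_one] at h1
      exact mul_ne_zero (hc i) (pow_ne_zero _ (hc j)) h1
    refine ⟨Equiv.ofBijective σ (Finite.injective_iff_bijective.1 hinj), fun i => ?_⟩
    rw [Submodule.map_span, Set.image_singleton, Matrix.toLin'_apply, hσ, Equiv.ofBijective_apply]
    exact Submodule.span_singleton_smul_eq (isUnit_iff_ne_zero.2 (hc i)) _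

lemma pow_three_eq_one_of_four (hq : q = 2) (hF : Fintype.card F = q ^ 2) {x : F} (hx : x ≠ 0) :
    x ^ (q + 1) = 1 := by
  subst hq
  have := FiniteField.pow_card_sub_one_eq_one x hx
  rwa [hF, show 2 ^ 2 - 1 = 2 + 1 from rfl] at this

lemma two_eq_zero_of_four (hq : q = 2) (hF : Fintype.card F = q ^ 2) : (1 : F) + 1 = 0 := by
  subst hq
  have h := FiniteField.cast_card_eq_zero F
  rw [hF] at h
  push_cast at h
  have : ((1 : F) + 1) * (1 + 1) = 0 := by linear_combination h
  exact mul_self_eq_zero.1 this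

include hF in
/-- Over four elements orthogonal pairs of planes refine to lines. -/
theorem exists_lines_of_planes (hn : 2 ≤ n) (hq : q = 2) {t : ℕ} {D : Fin t → Submodule F (Fin n → F)}
    (hD : IsNondegenerateMDecomposition (Cfsg.hermForm n F q) 2 D) :
    ∃ E : Fin n → Submodule F (Fin n → F), IsNondegenerateMDecomposition (Cfsg.hermForm n F q) 1 E ∧
      decompositionStabilizer D ⊓ Cfsg.GU n F q ≤ decompositionStabilizer E := by
  classical
  have hone : ∀ i, ∃ u : Fin 2 → (Fin n → F), (∀ l, u l ∈ D i) ∧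
      (∀ l m, ⟪u l, u m⟫ = if l = m then 1 else 0) ∧
      ∀ x ∈ D i, ∃ c : Fin 2 → F, x = ∑ l, c l • u l := by
    intro i
    set b := Module.finBasisOfFinrankEq F (D i) (hD.decomp.finrank_eq i)
    set G : Matrix (Fin 2) (Fin 2) F := Matrix.of fun a a' => ⟪(b a : Fin n → F), (b a' : Fin n → F)⟫
      with hG
    have hGh : (G.map (qAut hF))ᵀ = G := Matrix.ext fun a a' => by
      simp [hG, qAut_apply, Unitary.H_conj hF]
    have hGu : IsUnit G.det := by
      rw [isUnit_iff_ne_zero]
      intro hdet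
      obtain ⟨z, hz0, hz⟩ := Matrix.exists_vecMul_eq_zero_iff.2 hdet
      set x : D i := ∑ a, z a • b a with hx
      have hx0 : x ≠ 0 := fun h0 => hz0 (funext fun a =>
        (Fintype.linearIndependent_iff.1 b.linearIndependent z (hx ▸ h0)) a)
      obtain ⟨y, hy, hne⟩ := (hD.nondegenerate i x x.2 fun h => hx0 (Subtype.ext h)).2
      apply hne
      have hy' : y = ∑ a, b.repr ⟨y, hy⟩ a • (b a : Fin n → F) := by
        conv_lhs => rw [show y = ((⟨y, hy⟩ : D i) : Fin n → F) from rfl, ← b.sum_repr ⟨y, hy⟩]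
        rw [Submodule.coe_sum]
        simp only [Submodule.coe_smul]
      have hxv : (x : Fin n → F) = ∑ a, z a • (b a : Fin n → F) := by
        rw [hx, Submodule.coe_sum]; simp only [Submodule.coe_smul]
      rw [hy', Unitary.H_sum_right hF]
      refine Finset.sum_eq_zero fun a _ => ?_
      rw [Unitary.H_smul_right, hxv, Unitary.H_sum_left]
      have h1 := congrFun hz a
      simp only [Matrix.vecMul, dotProduct, hG, Matrix.of_apply, Pi.zero_apply] at h1
      simp only [Unitary.H_smul_left, h1, mul_zero]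
    obtain ⟨X, hX⟩ := exists_orth hF hGu hGh
    set u : Fin 2 → (Fin n → F) := fun l => ∑ a, (X : Matrix (Fin 2) (Fin 2) F) a l • (b a : Fin n → F)
      with hu
    have huu : ∀ l m, ⟪u l, u m⟫ = if l = m then 1 else 0 := by
      intro l m
      have h1 := congrFun (congrFun hX l) m
      rw [Matrix.one_apply] at h1
      rw [← h1]
      simp only [hu, Unitary.H_sum_left, Unitary.H_sum_right hF, Unitary.H_smul_left, Unitary.H_smul_right,
        Matrix.mul_apply, Matrix.transpose_apply, Matrix.map_apply, qAut_apply, hG, Matrix.of_apply,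
        Finset.sum_mul, Finset.mul_sum]
      exact Finset.sum_congr rfl fun a _ => Finset.sum_congr rfl fun a' _ => by ring
    refine ⟨u, fun l => Submodule.sum_mem _ fun a _ => Submodule.smul_mem _ _ (b a).2, huu, fun x hx => ?_⟩
    refine ⟨((X⁻¹ : GL (Fin 2) F) : Matrix (Fin 2) (Fin 2) F) *ᵥ (fun a => b.repr ⟨x, hx⟩ a), ?_⟩
    have hx' : x = ∑ a, b.repr ⟨x, hx⟩ a • (b a : Fin n → F) := by
      conv_lhs => rw [show x = ((⟨x, hx⟩ : D i) : Fin n → F) from rfl, ← b.sum_repr ⟨x, hx⟩]
      rw [Submodule.coe_sum]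
      simp only [Submodule.coe_smul]
    set z := fun a => b.repr ⟨x, hx⟩ a
    set c := ((X⁻¹ : GL (Fin 2) F) : Matrix (Fin 2) (Fin 2) F) *ᵥ z
    have hz : (X : Matrix (Fin 2) (Fin 2) F) *ᵥ c = z := by
      show (X : Matrix (Fin 2) (Fin 2) F) *ᵥ (((X⁻¹ : GL (Fin 2) F) : Matrix (Fin 2) (Fin 2) F) *ᵥ z) = z
      rw [Matrix.mulVec_mulVec, Units.mul_inv, Matrix.one_mulVec]
    rw [hx']
    simp only [hu, Finset.smul_sum, smul_smul]
    rw [Finset.sum_comm]
    refine Finset.sum_congr rfl fun a _ => ?_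
    rw [← Finset.sum_smul]
    congr 1
    show z a = _
    rw [← hz]
    simp [Matrix.mulVec, dotProduct, mul_comm]
  choose u humem huu huspan using hone
  have hcard : Fintype.card (Fin t × Fin 2) = n := by
    rw [Fintype.card_prod, Fintype.card_fin, Fintype.card_fin, card_of_decomposition hD.decomp]
  refine exists_line_decomposition hF hn hcard (fun p => u p.1 p.2) ?_ inf_le_right ?_
  · rintro ⟨i, l⟩ ⟨j, m⟩
    show ⟪u i l, u j m⟫ = _
    by_cases hij : i = j
    · subst hij; simp [huu]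
    · rw [hD.orthogonal i j hij _ (humem i l) _ (humem j m), if_neg]
      exact fun h => hij (congrArg Prod.fst h)
  · rintro g ⟨hgD, hgU⟩ ⟨i, l⟩
    obtain ⟨σ, hσ⟩ := hgD
    obtain ⟨c, hc⟩ := huspan (σ i) ((g : Matrix (Fin n) (Fin n) F) *ᵥ u i l)
      (by rw [← hσ i]; exact Submodule.mem_map_of_mem (humem i l))
    have h1 := (mem_GU hF).1 hgU (u i l) (u i l)
    rw [hermData_form, hc, huu, if_pos rfl] at h1
    simp only [Fin.sum_univ_two, Unitary.H_add_left, Unitary.H_add_right hF, Unitary.H_smul_left,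
      Unitary.H_smul_right, huu, Fin.isValue, zero_ne_one, one_ne_zero, if_true, if_false, mul_one,
      mul_zero, add_zero, zero_add, ← pow_succ', ← pow_succ] at h1
    rw [Fin.sum_univ_two] at hc
    by_cases h0 : c 0 = 0
    · exact ⟨(σ i, 1), c 1, by simpa [h0] using hc⟩
    by_cases h2 : c 1 = 0
    · exact ⟨(σ i, 0), c 0, by simpa [h2] using hc⟩
    exfalso
    rw [pow_three_eq_one_of_four hq hF h0, pow_three_eq_one_of_four hq hF h2,
      two_eq_zero_of_four hq hF] at h1
    exact zero_ne_one h1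

include hF in
/-- The Gram matrices of a tensor structure. -/
lemma exists_gram_of_unitary_tensor {n₁ n₂ : ℕ} (h1 : 0 < n₁) (h2 : 0 < n₂)
    {e : Fin n ≃ Fin n₁ × Fin n₂} {P : GL (Fin n) F}
    {f₁ : (Fin n₁ → F) → (Fin n₁ → F) → F} {f₂ : (Fin n₂ → F) → (Fin n₂ → F) → F}
    (hf₁ : IsUnitaryFormPow q f₁)
    (hs : IsTensorFormStructure (fun x : F => x ^ q) (Cfsg.hermForm n F q) f₁ f₂ e P) :
    ∃ (G : Matrix (Fin n₁) (Fin n₁) F) (S : Matrix (Fin n₂) (Fin n₂) F), IsUnit G.det ∧ IsUnit S.det ∧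
      (G.map (qAut hF))ᵀ = G ∧ (hermData n hF).pull e P = G ⊗ₖ S := by
  obtain ⟨c, hc, hcs⟩ := hs
  set G := gramMatrix f₁
  set S := c • gramMatrix f₂ with hS
  have hpull : (hermData n hF).pull e P = G ⊗ₖ S := by
    apply sesqForm_inj (hermData n hF).τ.toRingHom
    intro x y
    show x ⬝ᵥ (hermData n hF).pull e P *ᵥ ((hermData n hF).τ ∘ y) = x ⬝ᵥ (G ⊗ₖ S) *ᵥ ((hermData n hF).τ ∘ y)
    rw [← (hermData n hF).form_pull e P x y, hermData_form, hcs x y, hS, Matrix.kronecker_smul,
      Matrix.smul_mulVec, dotProduct_smul, smul_eq_mul, hermData_τ]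
    simp [G, formOfGram, dotProduct, Matrix.mulVec, Finset.mul_sum, mul_assoc, qAut_apply]
  have hu := (hermData n hF).isUnit_det_pull e P
  rw [hpull, Matrix.det_kronecker, Fintype.card_fin, Fintype.card_fin, IsUnit.mul_iff,
    isUnit_pow_iff h2.ne', isUnit_pow_iff h1.ne'] at hu
  refine ⟨G, S, hu.1, hu.2, Matrix.ext fun a b => ?_, hpull⟩
  simp only [G, Matrix.transpose_apply, Matrix.map_apply, gramMatrix, qAut_apply]
  exact (hf₁.herm _ _).symm

include hF in
/-- Over four elements a tensor decomposition with a two-dimensional factor fixes a decomposition into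
two halves. -/
theorem exists_halves_of_tensor (hq : q = 2) {b : ℕ} (hb : 0 < b) {e : Fin n ≃ Fin 2 × Fin b}
    {P : GL (Fin n) F} {f₁ : (Fin 2 → F) → (Fin 2 → F) → F} {f₂ : (Fin b → F) → (Fin b → F) → F}
    (hf₁ : IsUnitaryFormPow q f₁)
    (hs : IsTensorFormStructure (fun x : F => x ^ q) (Cfsg.hermForm n F q) f₁ f₂ e P) :
    ∃ E : Fin 2 → Submodule F (Fin n → F), IsNondegenerateMDecomposition (Cfsg.hermForm n F q) b E ∧
      tensorProductSubgroup 2 b e P ⊓ Cfsg.GU n F q ≤ decompositionStabilizer E := by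
  classical
  haveI : Nonempty (Fin 2) := ⟨0⟩
  haveI : Nonempty (Fin b) := ⟨⟨0, hb⟩⟩
  obtain ⟨G, S, hG, hS, hGh, hpull⟩ := exists_gram_of_unitary_tensor hF two_pos hb hf₁ hs
  obtain ⟨X, hX⟩ := exists_orth hF hG hGh
  set D := hermData n hF with hD
  set pv : (Fin 2 → F) → (Fin b → F) → (Fin 2 × Fin b → F) := fun x y p => x p.1 * y p.2 with hpv
  have hmul : ∀ (A : Matrix (Fin 2) (Fin 2) F) (B : Matrix (Fin b) (Fin b) F) x y,
      (A ⊗ₖ B) *ᵥ pv x y = pv (A *ᵥ x) (B *ᵥ y) := by
    intro A B x y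
    funext p
    simp only [hpv, Matrix.mulVec, dotProduct, Fintype.sum_prod_type, Matrix.kroneckerMap_apply,
      Finset.sum_mul_sum]
    exact Finset.sum_congr rfl fun i _ => Finset.sum_congr rfl fun j _ => by ring
  set col : Fin 2 → (Fin 2 → F) := fun l => fun a => (X : Matrix (Fin 2) (Fin 2) F) a l with hcol
  let L : Fin 2 → (Fin b → F) →ₗ[F] (Fin n → F) := fun l =>
    { toFun := fun y => (P : Matrix (Fin n) (Fin n) F) *ᵥ (pv (col l) y ∘ e)
      map_add' := fun u v => by
        rw [← Matrix.mulVec_add]; congr 1; funext p; simp [hpv, mul_add]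
      map_smul' := fun c v => by
        rw [RingHom.id_apply, ← Matrix.mulVec_smul]; congr 1; funext p; simp [hpv, mul_left_comm] }
  have hL : ∀ l m y z, D.form (L l y) (L m z) =
      if l = m then sesqForm (qAut hF).toRingHom S y z else 0 := by
    intro l m y z
    show D.form ((P : Matrix (Fin n) (Fin n) F) *ᵥ _) ((P : Matrix (Fin n) (Fin n) F) *ᵥ _) = _
    rw [D.form_pull, hpull, hermData_τ, show (qAut hF ∘ pv (col m) z) =
      pv (qAut hF ∘ col m) (qAut hF ∘ z) from funext fun p => by simp [hpv], hmul]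
    have h1 : col l ⬝ᵥ G *ᵥ (qAut hF ∘ col m) = if l = m then 1 else 0 := by
      have h2 := congrFun (congrFun hX l) m
      rw [Matrix.one_apply, mul_assoc] at h2
      rw [← h2]
      rfl
    have h3 : pv (col l) y ⬝ᵥ pv (G *ᵥ (qAut hF ∘ col m)) (S *ᵥ (qAut hF ∘ z)) =
        (col l ⬝ᵥ G *ᵥ (qAut hF ∘ col m)) * sesqForm (qAut hF).toRingHom S y z := by
      simp only [dotProduct, sesqForm, RingEquiv.toRingHom_eq_coe, RingEquiv.coe_toRingHom]
      rw [Finset.sum_mul_sum, Fintype.sum_prod_type]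
      exact Finset.sum_congr rfl fun i _ => Finset.sum_congr rfl fun j _ => by simp [hpv]; ring
    rw [h3, h1]
    split_ifs <;> simp
  have hinj : ∀ l, Function.Injective (L l) := fun l => by
    rw [← LinearMap.ker_eq_bot, LinearMap.ker_eq_bot']
    intro y hy
    by_contra h0
    obtain ⟨z, hz⟩ := ((isNondegenerateForm_sesqForm (qAut hF).toRingHom hS) y h0).2
    apply hz
    have := hL l l y z
    rw [if_pos rfl, hy, D.form_zero_left] at this
    exact this.symm
  set E : Fin 2 → Submodule F (Fin n → F) := fun l => LinearMap.range (L l) with hE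
  have hnd : ∀ l, IsNondegenerateOn (Cfsg.hermForm n F q) (E l) := by
    rintro l _ ⟨y, rfl⟩ hy0
    have h0 : y ≠ 0 := fun h => hy0 (by rw [h, map_zero])
    obtain ⟨z, hz⟩ := ((isNondegenerateForm_sesqForm (qAut hF).toRingHom hS) y h0).2
    rw [← hermData_form hF]
    refine ⟨⟨L l z, ⟨z, rfl⟩, fun h => hz ?_⟩, ⟨L l z, ⟨z, rfl⟩, fun h => hz ?_⟩⟩
    · have h1 := congrArg (qAut hF) h
      rw [map_zero, ← hermData_swap hF, hL, if_pos rfl] at h1
      exact h1
    · rw [hL, if_pos rfl] at h; exact h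
  have horth : ∀ l m, l ≠ m → AreOrthogonalFor (Cfsg.hermForm n F q) (E l) (E m) := by
    rintro l m hlm _ ⟨y, rfl⟩ _ ⟨z, rfl⟩
    rw [← hermData_form hF, hL, if_neg hlm]
  have hrank : ∀ l, Module.finrank F (E l) = b := fun l => by
    rw [hE, LinearMap.finrank_range_of_inj (hinj l), Module.finrank_fintype_fun_eq_card, Fintype.card_fin]
  have hdisj : E 0 ⊓ E 1 = ⊥ := by
    rw [eq_bot_iff]
    intro x hx
    by_contra hx0
    obtain ⟨y, hy, hne⟩ := (hnd 0 x hx.1 hx0).2
    exact hne (horth 1 0 (by decide) x hx.2 y hy)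
  have hsup : E 0 ⊔ E 1 = ⊤ := by
    apply Submodule.eq_top_of_finrank_eq
    have h1 := Submodule.finrank_sup_add_finrank_inf_eq (E 0) (E 1)
    rw [hdisj, finrank_bot, hrank, hrank] at h1
    have hnb : n = 2 * b := by simpa using Fintype.card_congr e
    rw [Module.finrank_fintype_fun_eq_card, Fintype.card_fin]
    omega
  refine ⟨E, ⟨⟨le_rfl, hb, hrank, ?_, ?_⟩, hnd, horth⟩, ?_⟩
  · rw [iSupIndep_def]
    intro i
    rw [disjoint_iff]
    fin_cases i
    · refine le_bot_iff.1 (le_trans (inf_le_inf_left _ (iSup₂_le fun j hj => ?_)) hdisj.le)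
      fin_cases j
      · exact absurd rfl hj
      · exact le_rfl
    · refine le_bot_iff.1 (le_trans (inf_le_inf_left _ (iSup₂_le fun j hj => ?_))
        ((inf_comm (E 1) (E 0)).trans hdisj).le)
      fin_cases j
      · exact le_rfl
      · exact absurd rfl hj
  · rw [eq_top_iff, ← hsup]
    exact sup_le (le_iSup E 0) (le_iSup E 1)
  rintro g ⟨hgT, hgU⟩
  obtain ⟨a, a', hab⟩ := exists_kronecker_of_mem hgT
  have hiso := D.pull_isometry e P g ((mem_GU hF).1 hgU)
  rw [hpull, hermData_τ, hab, show ((a : Matrix (Fin 2) (Fin 2) F) ⊗ₖ (a' : Matrix (Fin b) (Fin b) F)).map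
      (qAut hF) = (a : Matrix (Fin 2) (Fin 2) F).map (qAut hF) ⊗ₖ (a' : Matrix (Fin b) (Fin b) F).map (qAut hF)
      from kronecker_map (qAut hF).toRingHom _ _, ← Matrix.kroneckerMap_transpose,
    ← Matrix.mul_kronecker_mul, ← Matrix.mul_kronecker_mul] at hiso
  obtain ⟨l, hl, hla, -⟩ := exists_smul_of_kronecker_eq (D := S) hG hS hiso
  set Xm : Matrix (Fin 2) (Fin 2) F := (X : Matrix (Fin 2) (Fin 2) F) with hXm
  set Xi : Matrix (Fin 2) (Fin 2) F := ((X⁻¹ : GL (Fin 2) F) : Matrix (Fin 2) (Fin 2) F) with hXi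
  set A : Matrix (Fin 2) (Fin 2) F := Xi * (a : Matrix (Fin 2) (Fin 2) F) * Xm with hA
  have haX : (a : Matrix (Fin 2) (Fin 2) F) * Xm = Xm * A := by
    rw [hA, ← mul_assoc, ← mul_assoc, hXm, hXi, Units.mul_inv, one_mul]
  clear_value A
  have hAA : Aᵀ * A.map (qAut hF) = l • 1 := by
    calc Aᵀ * A.map (qAut hF) = Aᵀ * (Xmᵀ * G * Xm.map (qAut hF)) * A.map (qAut hF) := by rw [hX, mul_one]
      _ = (Xm * A)ᵀ * G * (Xm * A).map (qAut hF) := by
          rw [Matrix.transpose_mul, Matrix.map_mul]; simp only [mul_assoc]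
      _ = Xmᵀ * ((a : Matrix (Fin 2) (Fin 2) F)ᵀ * G * (a : Matrix (Fin 2) (Fin 2) F).map (qAut hF)) *
            Xm.map (qAut hF) := by
          rw [← haX, Matrix.transpose_mul, Matrix.map_mul]; simp only [mul_assoc]
      _ = l • 1 := by rw [hla, Matrix.mul_smul, Matrix.smul_mul, hX]
  have hmon : ∀ m : Fin 2, ∃ j : Fin 2, ∀ i, i ≠ j → A i m = 0 := by
    intro m
    have h1 := congrFun (congrFun hAA m) m
    simp only [Matrix.mul_apply, Fin.sum_univ_two, Matrix.transpose_apply, Matrix.map_apply, qAut_apply,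
      Matrix.smul_apply, Matrix.one_apply_eq, smul_eq_mul, mul_one, ← pow_succ', ← pow_succ] at h1
    by_cases h0 : A 0 m = 0
    · exact ⟨1, fun i hi => by fin_cases i; exacts [h0, absurd rfl hi]⟩
    refine ⟨0, fun i hi => ?_⟩
    by_contra hne
    obtain rfl : i = 1 := by fin_cases i; exacts [absurd rfl hi, rfl]
    rw [pow_three_eq_one_of_four hq hF h0, pow_three_eq_one_of_four hq hF hne,
      two_eq_zero_of_four hq hF] at h1
    exact hl h1.symm
  choose π hπ using hmon
  have hcolA : ∀ m, (a : Matrix (Fin 2) (Fin 2) F) *ᵥ col m = A (π m) m • col (π m) := by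
    intro m
    funext i
    have h1 := congrFun (congrFun haX i) m
    simp only [Matrix.mul_apply] at h1
    rw [show ((a : Matrix (Fin 2) (Fin 2) F) *ᵥ col m) i = ∑ k, (a : Matrix (Fin 2) (Fin 2) F) i k * Xm k m from rfl,
      h1, Finset.sum_eq_single (π m) (fun k _ hk => by rw [hπ m k hk, mul_zero]) (by simp)]
    simp [hcol, hXm, mul_comm]
  have hA0 : ∀ m, A (π m) m ≠ 0 := fun m h0 => by
    have h1 := congrFun (congrFun hAA m) m
    rw [Matrix.mul_apply, Finset.sum_eq_zero (fun i _ => ?_), Matrix.smul_apply, Matrix.one_apply_eq,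
      smul_eq_mul, mul_one] at h1
    · exact hl h1.symm
    · rw [Matrix.transpose_apply]
      by_cases hi : i = π m
      · rw [hi, h0, zero_mul]
      · rw [hπ m i hi, zero_mul]
  have hπinj : Function.Injective π := fun m m' h => by
    by_contra hne
    have h1 := congrFun (congrFun hAA m) m'
    rw [Matrix.mul_apply, Finset.sum_eq_single (π m) (fun k _ hk => by
        rw [Matrix.transpose_apply, hπ m k hk, zero_mul]) (by simp),
      Matrix.transpose_apply, Matrix.map_apply, Matrix.smul_apply, Matrix.one_apply_ne hne, smul_zero] at h1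
    refine mul_ne_zero (hA0 m) ?_ h1
    rw [h]
    exact (map_ne_zero _).2 (hA0 m')
  refine ⟨Equiv.ofBijective π (Finite.injective_iff_bijective.1 hπinj), fun m => ?_⟩
  refine Submodule.eq_of_le_of_finrank_le ?_ ?_
  · rintro _ ⟨_, ⟨y, rfl⟩, rfl⟩
    refine ⟨A (π m) m • (a' : Matrix (Fin b) (Fin b) F) *ᵥ y, ?_⟩
    rw [Equiv.ofBijective_apply, Matrix.toLin'_apply]
    show (P : Matrix (Fin n) (Fin n) F) *ᵥ (pv (col (π m)) _ ∘ e) = (g : Matrix (Fin n) (Fin n) F) *ᵥ
      ((P : Matrix (Fin n) (Fin n) F) *ᵥ (pv (col m) y ∘ e))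
    rw [← glCoord_mulVec e P g, hab, hmul, hcolA]
    congr 2
    funext p
    simp [hpv]
    ring
  · rw [← (Submodule.equivMapOfInjective (Matrix.toLin' (g : Matrix (Fin n) (Fin n) F))
      (fun u v h => ?_) (E m)).finrank_eq, hrank, hrank]
    have := congrArg (fun z => ((g⁻¹ : GL (Fin n) F) : Matrix (Fin n) (Fin n) F) *ᵥ z) h
    simpa [Matrix.toLin'_apply, Matrix.mulVec_mulVec] using this

end Cfsg.Agent.Aschbacher
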