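/-
Maximal subgroups of SU_n(q), 3 ≤ n ≤ 12: the members that can occur.
-/
import Mathlib
import Cfsg.Agent.Aschbacher.Un.Lists.SmallQ
import Cfsg.Agent.Aschbacher.Un.Main
import Cfsg.Agent.Aschbacher.Lists.Numerics

set_option autoImplicit false
set_option linter.style.haveILetI false

namespace Cfsg.Agent.Aschbacher

open Matrix
open Cfsg.Geo
open Cfsg.Agent.Classical

variable {F : Type*} [Field F] [Fintype F] {n q : ℕ}

/-- The members that can contain a maximal subgroup of SU. -/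
def IsUnGood (n : ℕ) (F : Type*) [Field F] [Fintype F] (q : ℕ) (M : Subgroup (GL (Fin n) F)) : Prop :=
  let f := Cfsg.hermForm n F q
  (∃ W : Submodule F (Fin n → F), W ≠ ⊥ ∧ IsTotallySingularFor f W ∧ M = subspaceStabilizer W) ∨
  (∃ W : Submodule F (Fin n → F), W ≠ ⊥ ∧ IsNondegenerateOn f W ∧ 2 * Module.finrank F W < n ∧
      M = subspaceStabilizer W) ∨
  (∃ (t k : ℕ) (D : Fin t → Submodule F (Fin n → F)), IsNondegenerateMDecomposition f k D ∧ t * k = n ∧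
      2 ≤ t ∧ (k = 2 → 3 ≤ q) ∧ M = decompositionStabilizer D) ∨
  (∃ (k : ℕ) (D : Fin 2 → Submodule F (Fin n → F)), 2 * k = n ∧ IsMDecomposition k D ∧
      (∀ i, IsTotallySingularFor f (D i)) ∧ M = decompositionStabilizer D) ∨
  (∃ (F₀ : Subfield F) (r : ℕ) (P : GL (Fin n) F), r.Prime ∧ Odd r ∧ Fintype.card F = Nat.card F₀ ^ r ∧
      IsFormRationalStructure f F₀ 1 P ∧ M = subfieldSubgroup F₀ P) ∨
  (∃ (F₀ : Subfield F) (P : GL (Fin n) F), Odd q ∧ Fintype.card F = Nat.card F₀ ^ 2 ∧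
      IsFormRationalStructure f F₀ 1 P ∧ M = subfieldSubgroup F₀ P) ∨
  (∃ (F₀ : Subfield F) (P : GL (Fin n) F) (ζ : F), Even n ∧ Fintype.card F = Nat.card F₀ ^ 2 ∧ ζ ≠ 0 ∧
      ζ + ζ ^ q = 0 ∧ IsFormRationalStructure f F₀ ζ P ∧
      (∀ u : Fin n → F, (∀ i, u i ∈ F₀) →
        f ((P : Matrix (Fin n) (Fin n) F) *ᵥ u) ((P : Matrix (Fin n) (Fin n) F) *ᵥ u) = 0) ∧
      M = subfieldSubgroup F₀ P) ∨
  (∃ (r : ℕ) (R : Subgroup (GL (Fin n) F)) (p e k : ℕ), IsSymplecticTypeGroup r R ∧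
      ActsAbsolutelyIrreducibly (matrixSet R) ∧ R ≤ similarityGroup f ∧ r ≠ p ∧
      IsMinimalFieldFor (Nat.card (Subgroup.center R)) p e F ∧
      ((Odd r ∧ Nat.card (Subgroup.center R) = r ∧ 1 ≤ k ∧ Nat.card R = r ^ (1 + 2 * k)) ∨
       (r = 2 ∧ e = 2 ∧ Nat.card (Subgroup.center R) = 4 ∧ Nat.card R = 2 ^ (2 + 2 * k))) ∧
      n = r ^ k ∧ M = subgroupNormalizer R) ∨
  (∃ (r : ℕ) (K : Subalgebra F (Matrix (Fin n) (Fin n) F)), r.Prime ∧ Odd r ∧ r ∣ n ∧ IsFieldSubalgebra r K ∧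
      IsAdjointClosedFor f K ∧ M = subalgebraNormalizer K) ∨
  (∃ (n₁ n₂ : ℕ) (e : Fin n ≃ Fin n₁ × Fin n₂) (P : GL (Fin n) F)
      (f₁ : (Fin n₁ → F) → (Fin n₁ → F) → F) (f₂ : (Fin n₂ → F) → (Fin n₂ → F) → F),
      2 ≤ n₁ ∧ n₁ < n₂ ∧ n₁ * n₂ = n ∧ (n₁ = 2 → 3 ≤ q) ∧ IsUnitaryFormPow q f₁ ∧ IsUnitaryFormPow q f₂ ∧
      IsTensorFormStructure (fun x : F => x ^ q) f f₁ f₂ e P ∧ M = tensorProductSubgroup n₁ n₂ e P) ∨
  (∃ (k t : ℕ) (e : Fin n ≃ (Fin t → Fin k)) (P : GL (Fin n) F) (f₁ : (Fin k → F) → (Fin k → F) → F),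
      k = 3 ∧ t = 2 ∧ n = 9 ∧ 3 ≤ q ∧ IsUnitaryFormPow q f₁ ∧
      IsTensorPowerFormStructure (fun x : F => x ^ q) f f₁ e P ∧ M = tensorWreathSubgroup k t e P)

variable (hF : Fintype.card F = q ^ 2)

include hF in
/-- Every member lies, on the special unitary group, in a good one. -/
theorem exists_unGood_of_member (hn : 3 ≤ n) (hn12 : n ≤ 12) {M : Subgroup (GL (Fin n) F)}
    (h : IsUnMember n F q M) :
    ∃ M', IsUnMember n F q M' ∧ IsUnGood n F q M' ∧ M ⊓ suGL n F q ≤ M' := by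
  have hq : 2 ≤ q := UnitaryCount.one_lt_q hF
  have hdec : ∀ (t k : ℕ) (D : Fin t → Submodule F (Fin n → F)),
      IsNondegenerateMDecomposition (Cfsg.hermForm n F q) k D → (k = 2 → 3 ≤ q) →
      IsUnMember n F q (decompositionStabilizer D) ∧ IsUnGood n F q (decompositionStabilizer D) :=
    fun t k D hD h2 => ⟨Or.inr (Or.inr (Or.inl ⟨t, k, D, hD, rfl⟩)),
      Or.inr (Or.inr (Or.inl ⟨t, k, D, hD, card_of_decomposition hD.decomp, hD.decomp.two_le, h2, rfl⟩))⟩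
  have hM := h
  unfold IsUnMember at h
  rcases h with ⟨W, h1, h2, rfl⟩ | ⟨W, h1, h2, h3, rfl⟩ | ⟨t, k, D, h1, rfl⟩ | ⟨k, D, h1, h2, h3, rfl⟩ |
    ⟨F₀, r, P, h1, h2, h3, h4, rfl⟩ | ⟨F₀, P, h1, h2, h3, rfl⟩ | ⟨F₀, P, ζ, h1, h2, h3, h4, h5, h6, rfl⟩ |
    ⟨r, R, p, e, k, h1, h2, h3, h4, h5, h6, h7, -, rfl⟩ | ⟨r, K, h1, h2, h3, h4, rfl⟩ |
    ⟨n₁, n₂, e, P, f₁, f₂, h1, h2, h3, h4, h5, rfl⟩ | ⟨k, t, e, P, f₁, h1, h2, h3, h4, h5, rfl⟩
  · exact ⟨_, hM, Or.inl ⟨W, h1, h2, rfl⟩, inf_le_left⟩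
  · exact ⟨_, hM, Or.inr (Or.inl ⟨W, h1, h2, h3, rfl⟩), inf_le_left⟩
  · by_cases hk : k = 2 ∧ q = 2
    · obtain ⟨rfl, h22⟩ := hk
      obtain ⟨E, hE, hle⟩ := exists_lines_of_planes hF (by omega) h22 h1
      exact ⟨_, (hdec _ _ E hE (fun h => absurd h (by norm_num))).1,
        (hdec _ _ E hE (fun h => absurd h (by norm_num))).2, (inf_le_inf_left _ inf_le_left).trans hle⟩
    · exact ⟨_, (hdec _ _ D h1 (fun h => by omega)).1, (hdec _ _ D h1 (fun h => by omega)).2, inf_le_left⟩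
  · exact ⟨_, hM, Or.inr (Or.inr (Or.inr (Or.inl ⟨k, D, h1, h2, h3, rfl⟩))), inf_le_left⟩
  · exact ⟨_, hM, Or.inr (Or.inr (Or.inr (Or.inr (Or.inl ⟨F₀, r, P, h1, h2, h3, h4, rfl⟩)))), inf_le_left⟩
  · exact ⟨_, hM, Or.inr (Or.inr (Or.inr (Or.inr (Or.inr (Or.inl ⟨F₀, P, h1, h2, h3, rfl⟩))))), inf_le_left⟩
  · exact ⟨_, hM, Or.inr (Or.inr (Or.inr (Or.inr (Or.inr (Or.inr (Or.inl
      ⟨F₀, P, ζ, h1, h2, h3, h4, h5, h6, rfl⟩)))))), inf_le_left⟩
  · exact ⟨_, hM, Or.inr (Or.inr (Or.inr (Or.inr (Or.inr (Or.inr (Or.inr (Or.inl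
      ⟨r, R, p, e, k, h1, h2, h3, h4, h5, h6, h7, rfl⟩))))))), inf_le_left⟩
  · exact ⟨_, hM, Or.inr (Or.inr (Or.inr (Or.inr (Or.inr (Or.inr (Or.inr (Or.inr (Or.inl
      ⟨r, K, h1, h2, dvd_of_isFieldSubalgebra (by omega) h1 h3, h3, h4, rfl⟩)))))))), inf_le_left⟩
  · have hnn : n₁ * n₂ = n := by simpa using (Fintype.card_congr e).symm
    by_cases hk : n₁ = 2 ∧ q = 2
    · obtain ⟨rfl, h22⟩ := hk
      obtain ⟨E, hE, hle⟩ := exists_halves_of_tensor hF h22 (by omega) h3 h5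
      by_cases hb : n₂ = 2
      · omega
      · exact ⟨_, (hdec _ _ E hE (fun h => absurd h hb)).1, (hdec _ _ E hE (fun h => absurd h hb)).2,
          (inf_le_inf_left _ inf_le_left).trans hle⟩
    · exact ⟨_, hM, Or.inr (Or.inr (Or.inr (Or.inr (Or.inr (Or.inr (Or.inr (Or.inr (Or.inr (Or.inl
        ⟨n₁, n₂, e, P, f₁, f₂, h1, h2, hnn, fun h => by omega, h3, h4, h5, rfl⟩))))))))), inf_le_left⟩
  · obtain ⟨h9, rfl, rfl⟩ := wreath_small (n := n) (by simpa using Fintype.card_congr e) h1 h2 hn12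
    exact ⟨_, hM, Or.inr (Or.inr (Or.inr (Or.inr (Or.inr (Or.inr (Or.inr (Or.inr (Or.inr (Or.inr
      ⟨3, 2, e, P, f₁, rfl, rfl, h9, by omega, h4, h5, rfl⟩))))))))), inf_le_left⟩

include hF in
/-- A maximal subgroup of SU is residual or cut out by a good member. -/
theorem maximal_unGood (hn : 3 ≤ n) (hn12 : n ≤ 12) (h32 : ¬ (n = 3 ∧ q = 2))
    {H : Subgroup (GL (Fin n) F)} (hH : IsMaximalIn (suGL n F q) H) :
    InUnitaryResidualClass H ∨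
      ∃ M, IsUnMember n F q M ∧ IsUnGood n F q M ∧ H = M ⊓ suGL n F q := by
  rcases unitary_class_or_residual hF (by omega) (hH.1.le.trans inf_le_left) with ⟨M, hM, hle⟩ | h
  · obtain ⟨M', hM', hg, hle'⟩ := exists_unGood_of_member hF hn hn12 hM
    exact Or.inr ⟨M', hM', hg, eq_inf_of_le_unMember hF hn hn12 h32 hH hM'
      ((le_inf hle hH.1.le).trans hle')⟩
  · exact Or.inl h

/-! ### Arithmetic of the minimal field -/

include hF in
lemma exists_half_exponent {p e : ℕ} (hp : p.Prime) (h : Fintype.card F = p ^ e) :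
    ∃ b, q = p ^ b ∧ e = 2 * b ∧ 0 < b := by
  obtain ⟨b, -, hb⟩ := (Nat.dvd_prime_pow hp).1 (show q ∣ p ^ e by
    rw [← h, hF]; exact dvd_pow_self q two_ne_zero)
  have h1 : p ^ e = p ^ (2 * b) := by rw [← h, hF, hb, ← pow_mul, mul_comm]
  have hb0 : b ≠ 0 := fun h0 => by
    have := UnitaryCount.one_lt_q hF
    rw [hb, h0, pow_zero] at this
    omega
  exact ⟨b, hb, Nat.pow_right_injective hp.two_le h1, Nat.pos_of_ne_zero hb0⟩

include hF in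
theorem unSymplectic_odd {r p e : ℕ} (hr : r.Prime) (hrp : r ≠ p) (hmin : IsMinimalFieldFor r p e F) :
    ∃ b, p.Prime ∧ CharP F p ∧ q = p ^ b ∧ 0 < b ∧ 2 * b ∣ r - 1 ∧ (p ^ b) % r = r - 1 ∧
      (1 < b → p % r ≠ r - 1) := by
  obtain ⟨hp, hchar, hcard, hz, hmin⟩ := hmin
  obtain ⟨b, hqb, rfl, hb⟩ := exists_half_exponent hF hp hcard
  haveI : Fact r.Prime := ⟨hr⟩
  have hp0 : (p : ZMod r) ≠ 0 := by
    rw [Ne, ZMod.natCast_eq_zero_iff]
    exact fun hd => hrp ((Nat.prime_dvd_prime_iff_eq hr hp).1 hd)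
  have hiff : ∀ d, r ∣ p ^ d - 1 ↔ ((p : ZMod r)) ^ d = 1 := by
    intro d
    rw [← Nat.modEq_iff_dvd' (Nat.one_le_pow _ _ hp.pos), ← ZMod.natCast_eq_natCast_iff,
      Nat.cast_pow, Nat.cast_one, eq_comm]
  have hlast : ∀ j, ((p : ZMod r)) ^ j = -1 → (p ^ j) % r = r - 1 := fun j hj => by
    have h1 := ZMod.val_natCast r (p ^ j)
    rw [Nat.cast_pow, hj] at h1
    obtain ⟨m, rfl⟩ : ∃ m, r = m + 1 := ⟨r - 1, by have := hr.pos; omega⟩
    rw [ZMod.val_neg_one] at h1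
    omega
  have hpow : ((p : ZMod r)) ^ b = -1 := by
    have h1 : ((p : ZMod r)) ^ b * (p : ZMod r) ^ b = 1 := by
      rw [← pow_add, ← two_mul]; exact (hiff _).1 hz
    rcases mul_self_eq_one_iff.1 h1 with h2 | h2
    · exact absurd ((hiff b).2 h2) (hmin b hb (by omega))
    · exact h2
  have hord : orderOf (p : ZMod r) = 2 * b := by
    have hdvd := orderOf_dvd_of_pow_eq_one ((hiff _).1 hz)
    have hle := Nat.le_of_dvd (by omega) hdvd
    by_contra hne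
    exact hmin (orderOf (p : ZMod r)) (Nat.pos_of_dvd_of_pos hdvd (by omega)) (by omega)
      ((hiff _).2 (pow_orderOf_eq_one _))
  refine ⟨b, hp, hchar, hqb, hb, ?_, hlast b hpow, fun h1 hmod => ?_⟩
  · rw [← hord]
    exact orderOf_dvd_of_pow_eq_one (ZMod.pow_card_sub_one_eq_one hp0)
  · refine hmin 2 two_pos (by omega) ((hiff 2).2 ?_)
    have h2 : (p : ZMod r) = ((r - 1 : ℕ) : ZMod r) := by rw [← ZMod.natCast_mod p r, hmod]
    rw [h2, Nat.cast_sub hr.pos, ZMod.natCast_self]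
    ring

include hF in
theorem unSymplectic_two {p : ℕ} (hmin : IsMinimalFieldFor 4 p 2 F) :
    p.Prime ∧ q = p ∧ p % 4 = 3 := by
  obtain ⟨hp, -, hcard, hz, hmin⟩ := hmin
  obtain ⟨b, hqb, hb2, -⟩ := exists_half_exponent hF hp hcard
  obtain rfl : b = 1 := by omega
  rw [pow_one] at hqb
  refine ⟨hp, hqb, ?_⟩
  have h1 := hmin 1 one_pos (by norm_num)
  rw [pow_one] at h1
  have h2 := hp.two_le
  have h4 : p % 4 = 0 ∨ p % 4 = 1 ∨ p % 4 = 2 ∨ p % 4 = 3 := by omega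
  have hsq : (p ^ 2) % 4 = (p % 4) ^ 2 % 4 := Nat.pow_mod _ _ _
  have hp2 : 1 ≤ p ^ 2 := Nat.one_le_pow _ _ hp.pos
  rcases h4 with h | h | h | h <;> rw [h] at hsq <;> norm_num at hsq <;> omega

include hF in
theorem unSymplectic_three {p e : ℕ} (hp3 : 3 ≠ p) (hmin : IsMinimalFieldFor 3 p e F) :
    p.Prime ∧ q = p ∧ p % 3 = 2 := by
  obtain ⟨b, hp, -, hqb, hb, hd, hmod, -⟩ := unSymplectic_odd hF Nat.prime_three hp3 hmin
  have := Nat.le_of_dvd (by norm_num) hd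
  obtain rfl : b = 1 := by omega
  rw [pow_one] at hqb hmod
  exact ⟨hp, hqb, hmod⟩

include hF in
theorem unSymplectic_five {p e : ℕ} (hp5 : 5 ≠ p) (hmin : IsMinimalFieldFor 5 p e F) :
    p.Prime ∧ CharP F p ∧ ((q = p ∧ p % 5 = 4) ∨ (q = p ^ 2 ∧ (p % 5 = 2 ∨ p % 5 = 3))) := by
  obtain ⟨b, hp, hchar, hqb, hb, hd, hmod, hne⟩ := unSymplectic_odd hF Nat.prime_five hp5 hmin
  have hle := Nat.le_of_dvd (by norm_num) hd
  refine ⟨hp, hchar, ?_⟩
  obtain rfl | rfl : b = 1 ∨ b = 2 := by omega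
  · rw [pow_one] at hqb hmod
    exact Or.inl ⟨hqb, hmod⟩
  · refine Or.inr ⟨hqb, ?_⟩
    have h1 := hne (by norm_num)
    rw [Nat.pow_mod] at hmod
    have hlt := Nat.mod_lt p (show 5 > 0 by decide)
    interval_cases h5 : p % 5 <;> simp_all

include hF in
theorem unSymplectic_seven {p e : ℕ} (hp7 : 7 ≠ p) (hmin : IsMinimalFieldFor 7 p e F) :
    p.Prime ∧ CharP F p ∧ ((q = p ∧ p % 7 = 6) ∨ (q = p ^ 3 ∧ (p % 7 = 3 ∨ p % 7 = 5))) := by
  obtain ⟨b, hp, hchar, hqb, hb, hd, hmod, hne⟩ :=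
    unSymplectic_odd hF (by norm_num) hp7 hmin
  have hle := Nat.le_of_dvd (by norm_num) hd
  refine ⟨hp, hchar, ?_⟩
  have hb' : b ≤ 3 := by omega
  obtain rfl | rfl : b = 1 ∨ b = 3 := by
    interval_cases b <;> first | omega | (exfalso; revert hd; decide)
  · rw [pow_one] at hqb hmod
    exact Or.inl ⟨hqb, hmod⟩
  · refine Or.inr ⟨hqb, ?_⟩
    have h1 := hne (by norm_num)
    rw [Nat.pow_mod] at hmod
    have hlt := Nat.mod_lt p (show 7 > 0 by decide)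
    interval_cases h7 : p % 7 <;> simp_all

include hF in
theorem unSymplectic_eleven {p e : ℕ} (hp11 : 11 ≠ p) (hmin : IsMinimalFieldFor 11 p e F) :
    p.Prime ∧ CharP F p ∧ q % 11 = 10 ∧
      ((q = p ∧ p % 11 = 10) ∨ (q = p ^ 5 ∧ (p % 11 = 2 ∨ p % 11 = 6 ∨ p % 11 = 7 ∨ p % 11 = 8))) := by
  obtain ⟨b, hp, hchar, hqb, hb, hd, hmod, hne⟩ :=
    unSymplectic_odd hF (by norm_num) hp11 hmin
  have hle := Nat.le_of_dvd (by norm_num) hd
  refine ⟨hp, hchar, hqb ▸ hmod, ?_⟩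
  have hb' : b ≤ 5 := by omega
  obtain rfl | rfl : b = 1 ∨ b = 5 := by
    interval_cases b <;> first | omega | (exfalso; revert hd; decide)
  · rw [pow_one] at hqb hmod
    exact Or.inl ⟨hqb, hmod⟩
  · refine Or.inr ⟨hqb, ?_⟩
    have h1 := hne (by norm_num)
    rw [Nat.pow_mod] at hmod
    have hlt := Nat.mod_lt p (show 11 > 0 by decide)
    interval_cases h11 : p % 11 <;> simp_all

include hF in
/-- Similitudes of order prime to `q - 1` are isometries. -/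
theorem le_GU_of_coprime (hn : 0 < n) {R : Subgroup (GL (Fin n) F)} {r : ℕ}
    (hsim : R ≤ similarityGroup (Cfsg.hermForm n F q)) (hexp : ∀ x ∈ R, x ^ r = 1)
    (hcop : Nat.Coprime r (q - 1)) : R ≤ Cfsg.GU n F q := by
  intro g hg
  obtain ⟨μ, hμ⟩ := hsim hg
  set v : Fin n → F := Pi.single ⟨0, hn⟩ 1
  have hv : Cfsg.hermForm n F q v v = 1 := by
    simp only [v, Unitary.H_single_single hF, if_true]
  have hpow : ∀ j : ℕ, ∀ u w, Cfsg.hermForm n F q (((g ^ j : GL (Fin n) F) : Matrix (Fin n) (Fin n) F) *ᵥ u)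
      (((g ^ j : GL (Fin n) F) : Matrix (Fin n) (Fin n) F) *ᵥ w) = (μ : F) ^ j * Cfsg.hermForm n F q u w := by
    intro j
    induction j with
    | zero => intro u w; simp
    | succ j ih =>
      intro u w
      rw [pow_succ', Units.val_mul, ← Matrix.mulVec_mulVec, ← Matrix.mulVec_mulVec, hμ, ih, ← mul_assoc,
        pow_succ']
  have h1 : (μ : F) ^ r = 1 := by
    have := hpow r v v
    rw [hexp g hg, Units.val_one, Matrix.one_mulVec, hv, mul_one] at this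
    exact this.symm
  have h2 : (μ : F) ^ q = μ := by
    have h3 := Unitary.H_conj hF ((g : Matrix (Fin n) (Fin n) F) *ᵥ v) ((g : Matrix (Fin n) (Fin n) F) *ᵥ v)
    rw [hμ, hv, mul_one] at h3
    exact h3
  have h4 : (μ : F) ^ (q - 1) = 1 := by
    have hq : 1 ≤ q := (UnitaryCount.one_lt_q hF).le
    obtain ⟨j, rfl⟩ := Nat.exists_eq_add_of_le hq
    rw [Nat.add_sub_cancel_left]
    rw [add_comm, pow_succ] at h2
    exact (mul_eq_right₀ μ.ne_zero).1 h2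
  have h5 := pow_gcd_eq_one.2 ⟨h1, h4⟩
  rw [Nat.Coprime.gcd_eq_one hcop, pow_one] at h5
  refine (mem_GU hF).2 fun u w => ?_
  rw [hermData_form]
  rw [hμ, h5, one_mul]

end Cfsg.Agent.Aschbacher
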