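/-
SU_6(2): the normaliser of a cubic field lies in a subfield group of symplectic type.
-/
import Mathlib
import Cfsg.Agent.Aschbacher.Un.Lists.Main
import Cfsg.Agent.Lib.Classical.UnitaryTwo

set_option autoImplicit false
set_option linter.style.haveILetI false

namespace Cfsg.Agent.Aschbacher

open Matrix
open Cfsg.Geo
open Cfsg.Agent.Classical

/-- A bijective map commuting with an injective semilinear map has determinant one over four elements. -/
lemma det_eq_one_of_commute_sq {F : Type*} [Field F] [Fintype F] (hF : Fintype.card F = 2 ^ 2) {W : Type*}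
    [AddCommGroup W] [Module F W] [FiniteDimensional F W] (f : W →ₗ[F] W) (hf : Function.Bijective f)
    (φ : W →+ W) (hφi : Function.Injective φ) (hφ : ∀ (c : F) x, φ (c • x) = c ^ 2 • φ x)
    (hcomm : ∀ x, f (φ x) = φ (f x)) : LinearMap.det f = 1 := by
  classical
  have h4 : ∀ c : F, (c ^ 2) ^ 2 = c := fun c => by
    have := FiniteField.pow_card c
    rw [hF] at this
    rw [← pow_mul]
    exact this
  set b := Module.finBasis F W with hb
  set d := Module.finrank F W
  have hli : LinearIndependent F (fun i => φ (b i)) := by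
    rw [Fintype.linearIndependent_iff]
    intro c hc j
    have h1 : φ (∑ i, c i ^ 2 • b i) = 0 := by
      rw [map_sum]; simp only [hφ, h4]; exact hc
    have h2 := Fintype.linearIndependent_iff.1 b.linearIndependent _
      (hφi (h1.trans φ.map_zero.symm)) j
    exact pow_eq_zero_iff two_ne_zero |>.1 h2
  let b' := Module.Basis.mk hli (hli.span_eq_top_of_card_eq_finrank' (Fintype.card_fin _)).ge
  set A := LinearMap.toMatrix b b f with hA
  have hA' : LinearMap.toMatrix b' b' f = A.map (fun c => c ^ 2) := by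
    ext i j
    rw [LinearMap.toMatrix_apply, Module.Basis.mk_apply, hcomm]
    have h1 : φ (f (b j)) = ∑ k, (A k j) ^ 2 • b' k := by
      conv_lhs => rw [← b.sum_repr (f (b j)), map_sum]
      simp only [hφ, b', Module.Basis.mk_apply, hA, LinearMap.toMatrix_apply]
    rw [h1, b'.repr_sum_self]
    rfl
  have hdet : LinearMap.det f = LinearMap.det f ^ 2 := by
    conv_lhs => rw [← LinearMap.det_toMatrix b', hA']
    rw [← LinearMap.det_toMatrix b, ← hA]
    haveI : CharP F 2 := (CharP.charP_iff_prime_eq_zero Nat.prime_two).2 (by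
      have := two_eq_zero_of_four (q := 2) rfl hF
      push_cast
      rwa [← one_add_one_eq_two])
    exact (RingHom.map_det (frobenius F 2) A).symm
  have hne : LinearMap.det f ≠ 0 := by
    intro h0
    obtain ⟨x, hx, hx0⟩ := Submodule.exists_mem_ne_zero_of_ne_bot (LinearMap.bot_lt_ker_of_det_eq_zero h0).ne'
    exact hx0 (hf.1 (by rw [LinearMap.mem_ker.1 hx, map_zero]))
  rw [sq] at hdet
  exact (mul_eq_left₀ hne).1 hdet.symm

variable {F : Type*} [Field F] [Fintype F] (hF : Fintype.card F = 2 ^ 2)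

local notation "⟪" u ", " v "⟫" => Cfsg.hermForm 6 F 2 u v

include hF in
theorem field_le_subfield_aux {K : Type*} [Field K] [Algebra F K] (hK3 : Module.finrank F K = 3)
    (ρ : K →ₐ[F] Matrix (Fin 6) (Fin 6) F) (τ : K → K)
    (hτ : ∀ k u v, ⟪ρ k *ᵥ u, v⟫ = ⟪u, ρ (τ k) *ᵥ v⟫) :
    ∃ (F₀ : Subfield F) (P : GL (Fin 6) F), Fintype.card F = Nat.card F₀ ^ 2 ∧
      IsFormRationalStructure (Cfsg.hermForm 6 F 2) F₀ 1 P ∧
      (∀ u : Fin 6 → F, (∀ i, u i ∈ F₀) →
        ⟪(P : Matrix (Fin 6) (Fin 6) F) *ᵥ u, (P : Matrix (Fin 6) (Fin 6) F) *ᵥ u⟫ = 0) ∧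
      ∀ g : GL (Fin 6) F, g ∈ suGL 6 F 2 →
        (∀ k, ∃ k', (g : Matrix (Fin 6) (Fin 6) F) * ρ k = ρ k' * (g : Matrix (Fin 6) (Fin 6) F)) →
        g ∈ subfieldSubgroup F₀ P := by
  classical
  haveI : Module.Finite F K := Module.finite_of_finrank_pos (by omega)
  haveI : Finite K := Module.finite_of_finite F
  letI : Fintype K := Fintype.ofFinite K
  have hK64 : Fintype.card K = 64 := by
    rw [Module.card_eq_pow_finrank (K := F) (V := K), hF, hK3]; rfl
  have h11 : (1 : F) + 1 = 0 := two_eq_zero_of_four (q := 2) rfl hF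
  have h4 : ∀ c : F, (c ^ 2) ^ 2 = c := fun c => by
    have := FiniteField.pow_card c
    rw [hF] at this
    rw [← pow_mul]
    exact this
  have h11K : (1 : K) + 1 = 0 := by
    rw [← map_one (algebraMap F K), ← map_add, h11, map_zero]
  haveI hchar : CharP K 2 := (CharP.charP_iff_prime_eq_zero Nat.prime_two).2 (by
    push_cast; rwa [← one_add_one_eq_two])
  have hρi : Function.Injective ρ := ρ.toRingHom.injective
  have huniq : ∀ x y : K, (∀ u v, ⟪u, ρ x *ᵥ v⟫ = ⟪u, ρ y *ᵥ v⟫) → x = y := by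
    intro x y h
    apply hρi
    refine Matrix.ext_iff_mulVec.2 fun v => sub_eq_zero.1 (Unitary.eq_zero_of_H hF fun u => ?_)
    rw [← Unitary.H_conj hF, Unitary.H_sub_right hF, h u v, sub_self, zero_pow two_ne_zero]
  -- the adjoint map
  have τadd : ∀ x y, τ (x + y) = τ x + τ y := fun x y => huniq _ _ fun u v => by
    rw [← hτ, map_add, map_add, Matrix.add_mulVec, Matrix.add_mulVec, Unitary.H_add_left,
      Unitary.H_add_right hF, hτ, hτ]
  have τone : τ 1 = 1 := huniq _ _ fun u v => by rw [← hτ, map_one, Matrix.one_mulVec, Matrix.one_mulVec]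
  have τmul : ∀ x y, τ (x * y) = τ x * τ y := fun x y => huniq _ _ fun u v => by
    rw [← hτ, map_mul, mul_comm (τ x), map_mul, ← Matrix.mulVec_mulVec, ← Matrix.mulVec_mulVec, hτ, hτ]
  have τalg : ∀ c : F, τ (algebraMap F K c) = algebraMap F K (c ^ 2) := fun c => huniq _ _ fun u v => by
    rw [← hτ, AlgHom.commutes, AlgHom.commutes, Algebra.algebraMap_eq_smul_one, Algebra.algebraMap_eq_smul_one,
      Matrix.smul_mulVec, Matrix.smul_mulVec, Matrix.one_mulVec, Matrix.one_mulVec, Unitary.H_smul_left,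
      Unitary.H_smul_right, h4]
  have τsmul : ∀ (c : F) x, τ (c • x) = c ^ 2 • τ x := fun c x => by
    rw [Algebra.smul_def, τmul, τalg, ← Algebra.smul_def]
  have ττ : ∀ x, τ (τ x) = x := fun x => huniq _ _ fun u v => by
    rw [← hτ, ← Unitary.H_conj hF, ← hτ, Unitary.H_conj hF]
  have hgal : ∀ ψ : K →ₐ[F] K, ∃ i : ℕ, i < 3 ∧ ∀ x, ψ x = x ^ (4 ^ i) := fun ψ => by
    haveI : Algebra.IsAlgebraic F K := Algebra.IsAlgebraic.of_finite F K
    obtain ⟨i, hi⟩ := (FiniteField.bijective_frobeniusAlgHom_pow F K).2 ψ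
    refine ⟨i.1, hK3 ▸ i.2, fun x => ?_⟩
    rw [← hi, AlgHom.coe_pow, FiniteField.coe_frobeniusAlgHom, pow_iterate, hF]
    rfl
  have h64 : ∀ x : K, x ^ 64 = x := fun x => hK64 ▸ FiniteField.pow_card x
  have hnot4 : ¬ ∀ x : K, x ^ 4 = x := fun h => by
    have hle : (Finset.univ : Finset K).card ≤
        (Polynomial.X ^ 4 - Polynomial.X : Polynomial K).roots.toFinset.card :=
      Finset.card_le_card fun y _ => by
        rw [Multiset.mem_toFinset, Polynomial.mem_roots (FiniteField.X_pow_card_sub_X_ne_zero K (by norm_num))]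
        simp [h y]
    have h1 := hle.trans ((Multiset.toFinset_card_le _).trans (Polynomial.card_roots' _))
    rw [Finset.card_univ, hK64, FiniteField.X_pow_card_sub_X_natDegree_eq K (by norm_num)] at h1
    omega
  have τ8 : ∀ x, τ x = x ^ 8 := by
    obtain ⟨i, hi, hψ⟩ := hgal
      { toFun := fun x => τ x ^ 8
        map_one' := by rw [τone, one_pow]
        map_mul' := fun x y => by rw [τmul, mul_pow]
        map_zero' := by
          have h0 := τadd 0 0
          rw [add_zero] at h0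
          rw [left_eq_add.1 h0, zero_pow (by norm_num)]
        map_add' := fun x y => by
          rw [τadd, show (8 : ℕ) = 2 ^ 3 from rfl, add_pow_char_pow]
        commutes' := fun c => by
          rw [τalg, ← map_pow, ← pow_mul]
          congr 1
          have := FiniteField.pow_card_pow 2 c
          rwa [hF] at this }
    have hx : ∀ x, τ x = x ^ (8 * 4 ^ i) := fun x => by
      have h1 : τ x ^ 8 = x ^ (4 ^ i) := hψ x
      rw [← h64 (τ x), show (64 : ℕ) = 8 * 8 from rfl, pow_mul, h1, ← pow_mul, mul_comm]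
    have h16 : ∀ x : K, x ^ 1024 = x ^ 16 := fun x => by
      rw [show (1024 : ℕ) = 64 * 16 from rfl, pow_mul, h64]
    rcases (show i = 0 ∨ i = 1 ∨ i = 2 by omega) with rfl | rfl | rfl
    · simpa using hx
    · exfalso
      refine hnot4 fun x => ?_
      have h1 := ττ x
      rw [hx, hx, ← pow_mul] at h1
      have h16' : x ^ 16 = x := by rw [← h16]; exact h1
      conv_rhs => rw [← h64 x, show (64 : ℕ) = 16 * 4 from rfl, pow_mul, h16']
    · exfalso
      refine hnot4 fun x => ?_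
      have h1 := ττ x
      rw [hx, hx, ← pow_mul] at h1
      have h128 : ∀ y : K, y ^ 128 = y ^ 2 := fun y => by
        rw [show (128 : ℕ) = 64 * 2 from rfl, pow_mul, h64]
      rw [show (8 * 4 ^ 2 * (8 * 4 ^ 2) : ℕ) = 128 * 128 from rfl, pow_mul, h128, h128, ← pow_mul] at h1
      exact h1
  -- vectors
  have hT : ∀ v : Fin 6 → F, ∃ T : K →ₗ[F] F, ∀ x, T x = ⟪ρ x *ᵥ v, v⟫ := fun v =>
    ⟨{ toFun := fun x => ⟪ρ x *ᵥ v, v⟫
       map_add' := fun x y => by rw [map_add, Matrix.add_mulVec, Unitary.H_add_left]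
       map_smul' := fun c x => by rw [map_smul, Matrix.smul_mulVec, Unitary.H_smul_left]; rfl },
      fun x => rfl⟩
  have hprod : ∀ (x y : K) (v w : Fin 6 → F), ⟪ρ x *ᵥ v, ρ y *ᵥ w⟫ = ⟪ρ (x * τ y) *ᵥ v, w⟫ := fun x y v w => by
    rw [mul_comm, map_mul, ← Matrix.mulVec_mulVec, hτ (τ y), ττ]
  set e1 : Fin 6 → F := Pi.single 0 1 with he1
  obtain ⟨T, hT1⟩ := hT e1
  have hTone : T 1 = 1 := by rw [hT1, map_one, Matrix.one_mulVec, he1, Unitary.H_single_single hF, if_pos rfl]
  have hTnd : ∀ x, (∀ w, T (x * w) = 0) → x = 0 := fun x h => by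
    by_contra hx
    have h2 := h x⁻¹
    rw [mul_inv_cancel₀ hx, hTone] at h2
    exact one_ne_zero h2
  have hTτ : ∀ x, T (τ x) = T x ^ 2 := fun x => by
    rw [hT1, hT1, Unitary.H_conj hF, hτ, ττ]
  -- the perpendicular space
  let Lm : (Fin 6 → F) →ₗ[F] (K → F) :=
    { toFun := fun v k => ⟪v, ρ k *ᵥ e1⟫
      map_add' := fun v w => funext fun k => Unitary.H_add_left _ _ _
      map_smul' := fun c v => funext fun k => Unitary.H_smul_left _ _ _ }
  set Pp : Submodule F (Fin 6 → F) := LinearMap.ker Lm with hPp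
  have hmemP : ∀ v, v ∈ Pp ↔ ∀ k, ⟪v, ρ k *ᵥ e1⟫ = 0 := fun v => by
    rw [hPp, LinearMap.mem_ker, funext_iff]; rfl
  have hP0 : ∀ v ∈ Pp, ∀ k w, w = ρ k *ᵥ e1 → ⟪w, v⟫ = 0 := fun v hv k w hw => by
    rw [← Unitary.H_conj hF, hw, (hmemP v).1 hv k, zero_pow two_ne_zero]
  obtain ⟨v, hvP, hvv⟩ : ∃ v ∈ Pp, ⟪v, v⟫ ≠ 0 := by
    by_contra hall
    push Not at hall
    have hpp : ∀ v ∈ Pp, ∀ w ∈ Pp, ⟪v, w⟫ = 0 := by
      intro v hv w hw
      obtain ⟨θ, hθ⟩ := exists_qAut_ne hF
      rw [qAut_apply] at hθ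
      have key : ∀ c : F, c ^ 2 * ⟪v, w⟫ + c * ⟪v, w⟫ ^ 2 = 0 := fun c => by
        have h := hall _ (add_mem hv (Pp.smul_mem c hw))
        rw [Unitary.H_add_left, Unitary.H_add_right hF, Unitary.H_add_right hF, Unitary.H_smul_left,
          Unitary.H_smul_left, Unitary.H_smul_right, Unitary.H_smul_right, hall v hv, hall w hw,
          ← Unitary.H_conj hF v w] at h
        linear_combination h
      have h1 := key 1
      have h2 := key θ
      have h3 : (θ ^ 2 - θ) * ⟪v, w⟫ = 0 := by linear_combination h2 - θ * h1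
      exact (mul_eq_zero.1 h3).resolve_left (sub_ne_zero.2 hθ)
    let E1 : K →ₗ[F] (Fin 6 → F) :=
      { toFun := fun k => ρ k *ᵥ e1
        map_add' := fun x y => by rw [map_add, Matrix.add_mulVec]
        map_smul' := fun c x => by rw [map_smul, Matrix.smul_mulVec]; rfl }
    have hdisj : Disjoint (LinearMap.range E1) Pp := by
      rw [Submodule.disjoint_def]
      rintro _ ⟨x, rfl⟩ hx
      have : x = 0 := hTnd x fun w => by
        have h1 := (hmemP _).1 hx (τ w)
        rw [show E1 x = ρ x *ᵥ e1 from rfl, hprod, ττ, ← hT1] at h1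
        exact h1
      rw [this, map_zero]
    have hE1 : Function.Injective E1 := fun x y h => by
      refine sub_eq_zero.1 (hTnd _ fun w => ?_)
      rw [hT1, ← ττ w, ← hprod, map_sub, Matrix.sub_mulVec,
        show ρ x *ᵥ e1 = ρ y *ᵥ e1 from h, sub_self, Unitary.H_zero_left]
    have hker : 3 ≤ Module.finrank F Pp := by
      let b := Module.finBasisOfFinrankEq F K hK3
      let L3 : (Fin 6 → F) →ₗ[F] (Fin 3 → F) :=
        { toFun := fun v j => ⟪v, ρ (b j) *ᵥ e1⟫
          map_add' := fun v w => funext fun k => Unitary.H_add_left _ _ _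
          map_smul' := fun c v => funext fun k => Unitary.H_smul_left _ _ _ }
      have hle : LinearMap.ker L3 ≤ Pp := fun u hu => (hmemP u).2 fun k => by
        rw [← b.sum_repr k, map_sum, Matrix.sum_mulVec, Unitary.H_sum_right hF]
        refine Finset.sum_eq_zero fun j _ => ?_
        rw [map_smul, Matrix.smul_mulVec, Unitary.H_smul_right,
          show ⟪u, ρ (b j) *ᵥ e1⟫ = 0 from congrFun (LinearMap.mem_ker.1 hu) j, mul_zero]
      have h1 := L3.finrank_range_add_finrank_ker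
      have h2 := Submodule.finrank_le (LinearMap.range L3)
      rw [Module.finrank_fin_fun] at h1 h2
      have h3 := Submodule.finrank_mono hle
      omega
    have hsum : LinearMap.range E1 ⊔ Pp = ⊤ := by
      refine Submodule.eq_top_of_finrank_eq ?_
      have h1 := Submodule.finrank_sup_add_finrank_inf_eq (LinearMap.range E1) Pp
      rw [disjoint_iff.1 hdisj, finrank_bot, LinearMap.finrank_range_of_inj hE1, hK3] at h1
      have h2 := Submodule.finrank_le (LinearMap.range E1 ⊔ Pp)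
      rw [Module.finrank_fin_fun] at h2 ⊢
      omega
    have hPbot : Pp = ⊥ := by
      rw [eq_bot_iff]
      intro u hu
      refine Unitary.eq_zero_of_H hF fun z => ?_
      obtain ⟨_, ⟨k, rfl⟩, p, hp, rfl⟩ := Submodule.mem_sup.1 (hsum ▸ Submodule.mem_top : z ∈ LinearMap.range E1 ⊔ Pp)
      rw [Unitary.H_add_right hF, show E1 k = ρ k *ᵥ e1 from rfl, (hmemP u).1 hu k, hpp u hu p hp, add_zero]
    rw [hPbot, finrank_bot] at hker
    omega
  obtain ⟨T2, hT2⟩ := hT v
  -- normalise the second vector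
  obtain ⟨c, hc⟩ : ∃ c : K, ∀ x, T2 x = T (c * x) := by
    let dual : K →ₗ[F] Module.Dual F K :=
      { toFun := fun c => T ∘ₗ LinearMap.mulLeft F c
        map_add' := fun a b => LinearMap.ext fun x => by simp [add_mul]
        map_smul' := fun a b => LinearMap.ext fun x => by simp }
    have hinj : Function.Injective dual := fun a b h => sub_eq_zero.1 (hTnd _ fun w => by
      have := LinearMap.congr_fun h w
      simp only [dual, LinearMap.coe_mk, AddHom.coe_mk, LinearMap.comp_apply, LinearMap.mulLeft_apply] at this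
      rw [sub_mul, map_sub, this, sub_self])
    obtain ⟨c, hc⟩ := (LinearMap.injective_iff_surjective_of_finrank_eq_finrank
      Subspace.dual_finrank_eq.symm).1 hinj T2
    exact ⟨c, fun x => by rw [← hc]; rfl⟩
  have hcτ : τ c = c := by
    refine sub_eq_zero.1 (hTnd _ fun w => ?_)
    have h1 : T2 (τ (τ w)) = T2 (τ w) ^ 2 := by
      rw [hT2, hT2, Unitary.H_conj hF, hτ, ττ (τ w)]
    rw [ττ, hc, hc, ← hTτ, τmul, ττ] at h1
    rw [sub_mul, map_sub, h1, sub_self]
  have hc0 : c ≠ 0 := fun h => hvv (by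
    have h1 := hc 1
    rw [hT2, map_one, Matrix.one_mulVec, h, zero_mul, map_zero] at h1
    exact h1)
  obtain ⟨k, hk⟩ : ∃ k : K, k * τ k = c⁻¹ := by
    let τh : K →+* K := { toFun := τ, map_one' := τone, map_mul' := τmul
                          map_zero' := by rw [τ8, zero_pow (by norm_num)], map_add' := τadd }
    obtain ⟨a₀, ha₀⟩ : ∃ a₀ : K, τh a₀ ≠ a₀ := by
      obtain ⟨θ, hθ⟩ := exists_qAut_ne hF
      rw [qAut_apply] at hθ
      exact ⟨algebraMap F K θ, fun h => hθ ((algebraMap F K).injective ((τalg θ).symm.trans h))⟩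
    exact exists_mul_map_eq τh ττ ha₀ (l := c⁻¹) (by rw [map_inv₀]; exact congrArg _ hcτ) (inv_ne_zero hc0)
  set e2 : Fin 6 → F := ρ k *ᵥ v with he2
  have hT2' : ∀ x, ⟪ρ x *ᵥ e2, e2⟫ = T x := fun x => by
    rw [he2, Matrix.mulVec_mulVec, ← map_mul, hprod, ← hT2, hc, mul_assoc x, hk, mul_comm x,
      ← mul_assoc, mul_inv_cancel₀ hc0, one_mul]
  have horth : ∀ x, ⟪ρ x *ᵥ e1, e2⟫ = 0 := fun x => by
    rw [he2, hprod]
    exact hP0 v hvP _ _ rfl
  have horth' : ∀ x, ⟪ρ x *ᵥ e2, e1⟫ = 0 := fun x => by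
    rw [hτ, ← Unitary.H_conj hF, horth, zero_pow two_ne_zero]
  let ε : (Fin 2 → K) →ₗ[F] (Fin 6 → F) :=
    { toFun := fun z => ρ (z 0) *ᵥ e1 + ρ (z 1) *ᵥ e2
      map_add' := fun z w => by simp only [Pi.add_apply, map_add, Matrix.add_mulVec]; abel
      map_smul' := fun a z => by
        simp only [Pi.smul_apply, map_smul, Matrix.smul_mulVec, RingHom.id_apply, smul_add] }
  have hεε : ∀ z w : Fin 2 → K, ⟪ε z, ε w⟫ = T (z 0 * τ (w 0) + z 1 * τ (w 1)) := fun z w => by
    simp only [ε, LinearMap.coe_mk, AddHom.coe_mk, Unitary.H_add_left, Unitary.H_add_right hF, hprod, map_add]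
    rw [horth, horth', hT2', ← hT1, zero_add, add_zero]
  have hεinj : Function.Injective ε := by
    intro z w h
    have h0 : ∀ u : Fin 2 → K, T ((z 0 - w 0) * τ (u 0) + (z 1 - w 1) * τ (u 1)) = 0 := fun u => by
      have := hεε (z - w) u
      rw [map_sub, h, sub_self, Unitary.H_zero_left] at this
      exact this.symm
    funext j
    refine sub_eq_zero.1 (hTnd _ fun x => ?_)
    fin_cases j
    · simpa [ττ, τ8 0] using h0 ![τ x, 0]
    · simpa [ττ, τ8 0] using h0 ![0, τ x]
  have hεsurj : Function.Surjective ε := (LinearMap.injective_iff_surjective_of_finrank_eq_finrank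
    (by rw [Module.finrank_pi_fintype]; simp [hK3])).1 hεinj
  -- the real structure
  let L : K → (Fin 6 → F) := fun x => ε ![x, τ x]
  set F₀ : Subfield F := Unitary.fixField hF with hF₀
  have hmem : ∀ a : F, a ∈ F₀ ↔ a ^ 2 = a := fun a => Unitary.mem_fixField hF
  have hLadd : ∀ x y, L (x + y) = L x + L y := fun x y => by
    simp only [L, τadd]
    rw [← map_add]
    congr 1
    funext j; fin_cases j <;> simp
  have hLsmul : ∀ a ∈ F₀, ∀ x, L (a • x) = a • L x := fun a ha x => by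
    simp only [L, τsmul, (hmem a).1 ha]
    rw [← map_smul]
    congr 1
    funext j; fin_cases j <;> simp
  have hLL : ∀ x y, ⟪L x, L y⟫ = T (x * τ y) + T (x * τ y) ^ 2 := fun x y => by
    simp only [L, hεε, Matrix.cons_val_zero, Matrix.cons_val_one, map_add]
    rw [← hTτ, τmul]
  obtain ⟨θ, hθ⟩ := exists_qAut_ne hF
  rw [qAut_apply] at hθ
  have hθ1 : θ + θ ^ 2 = 1 := by
    have h0 : θ ≠ 0 := fun h => hθ (by rw [h, zero_pow two_ne_zero])
    have h3 := pow_three_eq_one_of_four (q := 2) rfl hF h0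
    have h5 : (θ - 1) * (θ ^ 2 + θ + 1) = 0 := by linear_combination h3
    have h6 := (mul_eq_zero.1 h5).resolve_left (fun h => hθ (by rw [sub_eq_zero.1 h, one_pow]))
    linear_combination h6 - h11
  have hdecomp : ∀ a : F, ∃ r s, r ∈ F₀ ∧ s ∈ F₀ ∧ a = r + θ * s := fun a => by
    have hsq : ∀ x y : F, (x + y) ^ 2 = x ^ 2 + y ^ 2 := fun x y => by linear_combination (x * y) * h11
    have hs : a + a ^ 2 ∈ F₀ := by rw [hmem, hsq, h4, add_comm]
    refine ⟨a + θ * (a + a ^ 2), a + a ^ 2, ?_, hs, ?_⟩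
    · rw [hmem, hsq, mul_pow, (hmem _).1 hs]
      linear_combination (a + a ^ 2) * hθ1 + (a ^ 2 - θ * (a + a ^ 2)) * h11
    · linear_combination (-(θ * (a + a ^ 2))) * h11
  let b := Module.finBasisOfFinrankEq F K hK3
  let kk : Fin 6 → K := ![b 0, b 1, b 2, θ • b 0, θ • b 1, θ • b 2]
  set Pm : Matrix (Fin 6) (Fin 6) F := Matrix.of fun i j => L (kk j) i with hPm
  have hPv : ∀ z : Fin 6 → F, (∀ i, z i ∈ F₀) → Pm *ᵥ z = L (∑ j, z j • kk j) := fun z hz => by
    have hsum : L (∑ j, z j • kk j) = ∑ j, z j • L (kk j) := by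
      simp only [Fin.sum_univ_six, hLadd, hLsmul _ (hz _)]
    rw [hsum]
    funext i
    simp only [Matrix.mulVec, dotProduct, hPm, Matrix.of_apply, Finset.sum_apply, Pi.smul_apply, smul_eq_mul]
    exact Finset.sum_congr rfl fun j _ => mul_comm _ _
  have hLmem : ∀ x : K, ∃ z : Fin 6 → F₀, Pm *ᵥ (fun i => ((z i : F₀) : F)) = L x := fun x => by
    choose r s hr hs hrs using fun j => hdecomp (b.repr x j)
    refine ⟨![⟨r 0, hr 0⟩, ⟨r 1, hr 1⟩, ⟨r 2, hr 2⟩, ⟨s 0, hs 0⟩, ⟨s 1, hs 1⟩, ⟨s 2, hs 2⟩], ?_⟩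
    rw [hPv _ fun i => SetLike.coe_mem _]
    congr 1
    conv_rhs => rw [← b.sum_repr x]
    simp only [Fin.sum_univ_six, Fin.sum_univ_three, hrs]
    simp [kk, add_smul, smul_smul, mul_comm]
    abel
  have hPdet : Pm.det ≠ 0 := by
    have hsurj : LinearMap.range (Matrix.toLin' Pm) = ⊤ := by
      rw [eq_top_iff]
      intro u _
      have hL : ∀ x, L x ∈ LinearMap.range (Matrix.toLin' Pm) := fun x => by
        obtain ⟨z, hz⟩ := hLmem x
        exact ⟨_, (Matrix.toLin'_apply _ _).trans hz⟩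
      obtain ⟨w, rfl⟩ := hεsurj u
      -- both coordinates are reached
      have h2 : ∀ x, ε ![0, τ x] ∈ LinearMap.range (Matrix.toLin' Pm) := fun x => by
        have h := sub_mem (hL (θ • x)) (Submodule.smul_mem _ θ (hL x))
        convert h using 1
        simp only [L, τsmul]
        rw [← map_smul, ← map_sub]
        congr 1
        funext j
        fin_cases j
        · simp
        · simp only [Pi.sub_apply, Pi.smul_apply, Fin.isValue, Fin.mk_one, Matrix.cons_val_one,
            Matrix.cons_val_fin_one]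
          rw [← sub_smul, show θ ^ 2 - θ = 1 by linear_combination hθ1 - θ * h11, one_smul]
      have h1 : ∀ x, ε ![x, 0] ∈ LinearMap.range (Matrix.toLin' Pm) := fun x => by
        have h := sub_mem (hL x) (h2 x)
        convert h using 1
        simp only [L]
        rw [← map_sub]
        congr 1
        funext j; fin_cases j <;> simp
      have := add_mem (h1 (w 0)) (h2 (τ (w 1)))
      convert this using 1
      rw [← map_add]
      congr 1
      funext j; fin_cases j <;> simp [ττ]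
    intro h0
    have h1 := (Matrix.toLin' Pm).finrank_range_add_finrank_ker
    rw [hsurj, finrank_top] at h1
    obtain ⟨z, hz0, hz⟩ := Matrix.exists_mulVec_eq_zero_iff.2 h0
    have h2 : z ∈ LinearMap.ker (Matrix.toLin' Pm) := by rwa [LinearMap.mem_ker, Matrix.toLin'_apply]
    rw [Submodule.finrank_eq_zero.1 (show Module.finrank F (LinearMap.ker (Matrix.toLin' Pm)) = 0 by omega)] at h2
    exact hz0 ((Submodule.mem_bot F).1 h2)
  set P : GL (Fin 6) F := Matrix.GeneralLinearGroup.mkOfDetNeZero Pm hPdet with hP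
  refine ⟨F₀, P, ?_, fun x y hx hy => ?_, fun x hx => ?_, fun g hg hnorm => ?_⟩
  · rw [hF, hF₀, Unitary.natCard_fixField hF]
  · show 1 * ⟪Pm *ᵥ x, Pm *ᵥ y⟫ ∈ F₀
    rw [one_mul, hPv x hx, hPv y hy, hLL, hmem]
    linear_combination h4 (T ((∑ j, x j • kk j) * τ (∑ j, y j • kk j))) +
      (T ((∑ j, x j • kk j) * τ (∑ j, y j • kk j)) ^ 3) * h11
  · show ⟪Pm *ᵥ x, Pm *ᵥ x⟫ = 0
    rw [hPv x hx, hLL]
    set t := (∑ j, x j • kk j) * τ (∑ j, x j • kk j) with ht
    have : τ t = t := by rw [ht, τmul, ττ, mul_comm]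
    rw [← hTτ, this]
    linear_combination T t * h11
  obtain ⟨hgU, hgdet⟩ := hg
  have hiso : ∀ u v, ⟪(g : Matrix (Fin 6) (Fin 6) F) *ᵥ u, (g : Matrix (Fin 6) (Fin 6) F) *ᵥ v⟫ = ⟪u, v⟫ := fun u v => by
    have := (mem_GU hF).1 hgU u v
    rwa [hermData_form] at this
  choose σ hσ using hnorm
  have hgi : ∀ A B : Matrix (Fin 6) (Fin 6) F, A * (g : Matrix (Fin 6) (Fin 6) F) = B * g → A = B := fun A B h => by
    have := congrArg (· * ((g⁻¹ : GL (Fin 6) F) : Matrix (Fin 6) (Fin 6) F)) h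
    simpa [mul_assoc, ← Units.val_mul] using this
  let σh : K →ₐ[F] K :=
    { toFun := σ
      map_one' := hρi (hgi _ _ (by rw [← hσ, map_one, mul_one, one_mul]))
      map_mul' := fun x y => hρi (hgi _ _ (by
        rw [← hσ, map_mul, map_mul, ← mul_assoc, hσ, mul_assoc, hσ, mul_assoc]))
      map_zero' := hρi (hgi _ _ (by rw [← hσ, map_zero, mul_zero, zero_mul]))
      map_add' := fun x y => hρi (hgi _ _ (by rw [← hσ, map_add, map_add, mul_add, hσ, hσ, add_mul]))
      commutes' := fun a => hρi (hgi _ _ (by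
        rw [← hσ, AlgHom.commutes, Algebra.commutes])) }
  obtain ⟨i, -, hσi⟩ := hgal σh
  have hσi' : ∀ x, σ x = x ^ (4 ^ i) := hσi
  have hστ : ∀ x, σ (τ x) = τ (σ x) := fun x => by rw [hσi', τ8, τ8, hσi', ← pow_mul, ← pow_mul, mul_comm]
  have hσbij : Function.Bijective σ := σh.bijective
  obtain ⟨A1, hA1⟩ := hεsurj ((g : Matrix (Fin 6) (Fin 6) F) *ᵥ e1)
  obtain ⟨A2, hA2⟩ := hεsurj ((g : Matrix (Fin 6) (Fin 6) F) *ᵥ e2)
  let Mk : Matrix (Fin 2) (Fin 2) K := !![A1 0, A2 0; A1 1, A2 1]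
  let S : (Fin 2 → K) →ₗ[F] (Fin 2 → K) := LinearMap.pi fun j => σh.toLinearMap ∘ₗ LinearMap.proj j
  have hgε : ∀ z, (g : Matrix (Fin 6) (Fin 6) F) *ᵥ ε z = ε (Mk *ᵥ S z) := fun z => by
    have hco : ∀ (x : K) (A : Fin 2 → K), ρ x *ᵥ ε A = ε ![x * A 0, x * A 1] := fun x A => by
      simp only [ε, LinearMap.coe_mk, AddHom.coe_mk, Matrix.mulVec_add, Matrix.mulVec_mulVec, ← map_mul,
        Matrix.cons_val_zero, Matrix.cons_val_one]
    show (g : Matrix (Fin 6) (Fin 6) F) *ᵥ (ρ (z 0) *ᵥ e1 + ρ (z 1) *ᵥ e2) = _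
    rw [Matrix.mulVec_add, Matrix.mulVec_mulVec, Matrix.mulVec_mulVec, hσ, hσ, ← Matrix.mulVec_mulVec,
      ← Matrix.mulVec_mulVec, ← hA1, ← hA2, hco, hco, ← map_add]
    congr 1
    funext j
    fin_cases j <;> simp [Mk, S, σh, Matrix.mulVec, dotProduct, mul_comm]
  set a := A1 0
  set c' := A1 1
  set b' := A2 0
  set d := A2 1
  have hgram : ∀ z w, T ((Mk *ᵥ S z) 0 * τ ((Mk *ᵥ S w) 0) + (Mk *ᵥ S z) 1 * τ ((Mk *ᵥ S w) 1)) =
      T (z 0 * τ (w 0) + z 1 * τ (w 1)) := fun z w => by rw [← hεε, ← hεε, ← hgε, ← hgε, hiso]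
  have τzero : τ 0 = 0 := by rw [τ8, zero_pow (by norm_num)]
  have σzero : σh 0 = 0 := map_zero σh
  have σone : σh 1 = 1 := map_one σh
  have hN1 : ∀ x, T (σh x * (a * τ a + c' * τ c')) = T x := fun x => by
    have := hgram ![x, 0] ![1, 0]
    simp [Mk, S, Matrix.mulVec, dotProduct, σzero, σone, τzero, τone] at this
    rw [← this, ← map_add]; congr 1; ring
  have hN2 : ∀ x, T (σh x * (b' * τ b' + d * τ d)) = T x := fun x => by
    have := hgram ![0, x] ![0, 1]
    simp [Mk, S, Matrix.mulVec, dotProduct, σzero, σone, τzero, τone] at this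
    rw [← this, ← map_add]; congr 1; ring
  have hN12 : a * τ b' + c' * τ d = 0 := hTnd _ fun w => by
    obtain ⟨x, rfl⟩ := hσbij.2 w
    have := hgram ![x, 0] ![0, 1]
    simp [Mk, S, Matrix.mulVec, dotProduct, σzero, σone, τzero, τone] at this
    rw [← this, ← map_add]; congr 1; show _ * σh x = _; ring
  set N := a * τ a + c' * τ c' with hN
  have hNN : b' * τ b' + d * τ d = N := sub_eq_zero.1 (hTnd _ fun w => by
    obtain ⟨x, rfl⟩ := hσbij.2 w
    show T ((_ - _) * σh x) = 0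
    rw [sub_mul, mul_comm, mul_comm N, map_sub, hN1, hN2, sub_self])
  have hN0 : N ≠ 0 := fun h => by
    have := hN1 1
    rw [h, mul_zero, map_zero, hTone] at this
    exact zero_ne_one this
  set Dd := a * d + b' * c' with hDd
  have hN21 : τ a * b' + τ c' * d = 0 := by
    have h := congrArg τ hN12
    rwa [τadd, τmul, τmul, ττ, ττ, τzero] at h
  have hDb : Dd * τ b' = c' * N := by
    rw [← hNN, hDd]; linear_combination d * hN12 + (-(c' * d * τ d)) * h11K
  have hDa : Dd * τ a = d * N := by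
    rw [hDd, hN]; linear_combination c' * hN21 + (-(c' * d * τ c')) * h11K
  have hDD : Dd * τ Dd = N * N := by
    have : N * N = (a * τ a + c' * τ c') * (b' * τ b' + d * τ d) := by rw [hNN]
    rw [this, hDd, τadd, τmul, τmul]
    linear_combination (τ a * b' + τ c' * d) * hN12 -
      (a * b' * τ a * τ b' + c' * d * τ c' * τ d) * h11K
  -- the determinant
  have hnorm : Algebra.norm F Dd = 1 := by
    have hSdet : LinearMap.det S = 1 := by
      refine det_eq_one_of_commute_sq hF S ⟨fun z w h => funext fun j => hσbij.1 (congrFun h j), fun w => ?_⟩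
        (AddMonoidHom.mk' (fun z j => z j ^ 2) fun z w => funext fun j => by
          simp only [Pi.add_apply]; linear_combination (z j * w j) * h11K)
        (fun z w h => funext fun j => by
          have h2' : z j ^ 2 = w j ^ 2 := congrFun h j
          have h2 : (z j - w j) ^ 2 = 0 := by
            linear_combination h2' - (z j * w j - w j ^ 2) * h11K
          exact sub_eq_zero.1 (pow_eq_zero_iff two_ne_zero |>.1 h2))
        (fun a' z => funext fun j => by simp [Algebra.smul_def, mul_pow])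
        (fun z => funext fun j => by
          simp only [S, LinearMap.pi_apply, AddMonoidHom.mk'_apply, LinearMap.comp_apply, LinearMap.proj_apply,
            AlgHom.toLinearMap_apply, map_pow])
      choose z hz using fun j => hσbij.2 (w j)
      exact ⟨z, funext hz⟩
    let εe := LinearEquiv.ofBijective ε ⟨hεinj, hεsurj⟩
    have hconj : Matrix.toLin' (g : Matrix (Fin 6) (Fin 6) F) =
        (εe : (Fin 2 → K) →ₗ[F] (Fin 6 → F)) ∘ₗ ((Matrix.toLin' Mk).restrictScalars F ∘ₗ S) ∘ₗ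
          (εe.symm : (Fin 6 → F) →ₗ[F] (Fin 2 → K)) := by
      refine LinearMap.ext fun u => ?_
      obtain ⟨z, rfl⟩ := hεsurj u
      rw [Matrix.toLin'_apply, hgε]
      simp only [LinearMap.comp_apply, LinearEquiv.coe_coe]
      rw [show εe.symm (ε z) = z from εe.symm_apply_apply z]
      rfl
    have hdet := congrArg LinearMap.det hconj
    rw [LinearMap.det_toLin', mem_specialLinear.1 hgdet, LinearMap.det_conj, LinearMap.det_comp, hSdet,
      mul_one, LinearMap.det_restrictScalars, LinearMap.det_toLin', Matrix.det_fin_two] at hdet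
    rw [hdet, hDd]
    congr 1
    simp only [Mk, Matrix.of_apply, Matrix.cons_val', Matrix.cons_val_zero, Matrix.cons_val_one,
      Matrix.cons_val_fin_one, Matrix.empty_val']
    linear_combination (b' * c') * h11K
  have hD0 : Dd ≠ 0 := fun h => by rw [h, Algebra.norm_zero] at hnorm; exact zero_ne_one hnorm
  have hD21 : Dd ^ 21 = 1 := by
    have := FiniteField.algebraMap_norm_eq_pow (K := F) (x := Dd)
    rw [hnorm, map_one, Nat.card_eq_fintype_card, Nat.card_eq_fintype_card, hK64, hF] at this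
    exact this.symm
  have hτN : τ N = N := by rw [hN, τadd, τmul, τmul, ττ, ττ, mul_comm, mul_comm (τ c')]
  set δ := N / Dd with hδ
  have hδ9 : δ ^ 9 = 1 := by
    have h1 : δ * τ δ = 1 := by
      have h2 : τ δ * τ Dd = N := by rw [← τmul, hδ, div_mul_cancel₀ _ hD0, hτN]
      have hτD : τ Dd ≠ 0 := fun h => mul_ne_zero hN0 hN0 (by rw [← hDD, h, mul_zero])
      rw [hδ] at h2 ⊢
      rw [eq_div_of_mul_eq hτD h2, div_mul_div_comm, hDD, div_self (mul_ne_zero hN0 hN0)]
    rw [τ8, ← pow_succ'] at h1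
    exact h1
  have hδ21 : δ ^ 21 = 1 := by
    have h7 : N ^ 7 = 1 := by
      rw [τ8, pow_succ] at hτN
      exact (mul_eq_right₀ hN0).1 hτN
    rw [hδ, div_pow, hD21, div_one, show (21 : ℕ) = 7 * 3 from rfl, pow_mul, h7, one_pow]
  have hδ3 : δ ^ 3 = 1 := by
    rw [show (21 : ℕ) = 9 * 2 + 3 from rfl, pow_add, pow_mul, hδ9, one_pow, one_mul] at hδ21
    exact hδ21
  obtain ⟨c0, hc0'⟩ : ∃ c0 : F, algebraMap F K c0 = δ := by
    have hθ0 : θ ≠ 0 := fun h => hθ (by rw [h, zero_pow two_ne_zero])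
    have h3 := pow_three_eq_one_of_four (q := 2) rfl hF hθ0
    have hfac : (δ - 1) * (δ - algebraMap F K θ) * (δ - algebraMap F K (θ ^ 2)) = 0 := by
      have e1 : algebraMap F K θ + algebraMap F K (θ ^ 2) = 1 := by rw [← map_add, hθ1, map_one]
      have e2 : algebraMap F K θ * algebraMap F K (θ ^ 2) = 1 := by
        rw [← map_mul, ← pow_succ', h3, map_one]
      linear_combination hδ3 + (-(δ - 1) * δ) * e1 + (δ - 1) * e2 + (-(δ ^ 2) + δ) * h11K
    rcases mul_eq_zero.1 hfac with h | h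
    · rcases mul_eq_zero.1 h with h | h
      · exact ⟨1, by rw [map_one, sub_eq_zero.1 h]⟩
      · exact ⟨θ, (sub_eq_zero.1 h).symm⟩
    · exact ⟨θ ^ 2, (sub_eq_zero.1 h).symm⟩
  have hc00 : c0 ≠ 0 := fun h => by
    rw [h, map_zero] at hc0'
    rw [← hc0', zero_pow three_ne_zero] at hδ3
    exact zero_ne_one hδ3
  set μ : F := c0⁻¹ with hμ
  have hμ0 : μ ≠ 0 := inv_ne_zero hc00
  have hkey : ∀ x, ∃ y, μ • ((g : Matrix (Fin 6) (Fin 6) F) *ᵥ L x) = L y := fun x => by
    refine ⟨μ • (a * σh x + b' * τ (σh x)), ?_⟩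
    show μ • ((g : Matrix (Fin 6) (Fin 6) F) *ᵥ ε ![x, τ x]) = ε _
    rw [hgε, ← map_smul]
    congr 1
    have hb : τ b' = δ * c' := by
      rw [hδ, div_mul_eq_mul_div, eq_div_iff hD0, mul_comm N, ← hDb, mul_comm]
    have ha : τ a = δ * d := by
      rw [hδ, div_mul_eq_mul_div, eq_div_iff hD0, mul_comm N, ← hDa, mul_comm]
    have hμδ : algebraMap F K μ * δ = 1 := by
      rw [← hc0', ← map_mul, hμ, inv_mul_cancel₀ hc00, map_one]
    have hstx : σh (τ x) = τ (σh x) := hστ x
    funext j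
    fin_cases j
    · simp [Mk, S, Matrix.mulVec, dotProduct, hstx]
      rfl
    · simp only [Fin.mk_one, Fin.isValue, Pi.smul_apply, Matrix.cons_val_one, Matrix.cons_val_fin_one]
      rw [τsmul, τadd, τmul, τmul, ττ, ha, hb]
      simp [Mk, S, Matrix.mulVec, dotProduct, hstx, Algebra.smul_def]
      linear_combination (-(algebraMap F K μ) * (c' * σh x + d * τ (σh x))) * hμδ
  have hcol : ∀ j : Fin 6, ∃ z : Fin 6 → F₀, Pm *ᵥ (fun i => ((z i : F₀) : F)) =
      μ • ((g : Matrix (Fin 6) (Fin 6) F) *ᵥ (Pm *ᵥ Pi.single j 1)) := by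
    intro j
    rw [hPv _ fun i => by by_cases h : i = j <;> simp [h, zero_mem, one_mem]]
    obtain ⟨y, hy⟩ := hkey (∑ l, (Pi.single j 1 : Fin 6 → F) l • kk l)
    rw [hy]
    exact hLmem y
  choose Z hZ using hcol
  set M₀ : Matrix (Fin 6) (Fin 6) F₀ := Matrix.of fun i j => Z j i with hM₀
  have hM : Pm * M₀.map (F₀.subtype) = μ • ((g : Matrix (Fin 6) (Fin 6) F) * Pm) := by
    apply Matrix.ext_col
    intro j
    rw [← Matrix.mulVec_single_one _ j, ← Matrix.mulVec_single_one _ j, ← Matrix.mulVec_mulVec,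
      Matrix.smul_mulVec, ← Matrix.mulVec_mulVec, ← hZ j]
    congr 1
    rw [Matrix.mulVec_single_one]
    rfl
  have hM0 : M₀.det ≠ 0 := by
    intro h0
    have h1 := congrArg Matrix.det hM
    rw [Matrix.det_mul, show (M₀.map F₀.subtype).det = F₀.subtype M₀.det from
      (RingHom.map_det F₀.subtype _).symm, h0, map_zero, mul_zero, Matrix.det_smul, Matrix.det_mul] at h1
    have hg1 : (g : Matrix (Fin 6) (Fin 6) F).det = 1 := mem_specialLinear.1 hgdet
    rw [hg1, one_mul, Fintype.card_fin] at h1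
    exact mul_ne_zero (pow_ne_zero 6 hμ0) hPdet h1.symm
  refine ⟨Matrix.GeneralLinearGroup.map (F₀.subtype : F₀ →+* F)
    (Matrix.GeneralLinearGroup.mkOfDetNeZero M₀ hM0) * scalarUnit (Fin 6) F (Units.mk0 μ hμ0)⁻¹,
    Subgroup.mul_mem _ (Subgroup.mem_sup_left ⟨_, rfl⟩) (Subgroup.mem_sup_right (scalarUnit_mem _)), ?_⟩
  rw [MulEquiv.coe_toMonoidHom, MulAut.conj_apply, mul_inv_eq_iff_eq_mul]
  apply Units.ext
  rw [Units.val_mul, Units.val_mul, Units.val_mul, scalarUnit_coe, Matrix.mul_smul, mul_one,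
    Matrix.mul_smul]
  show ((Units.mk0 μ hμ0)⁻¹ : Fˣ).val • (Pm * M₀.map F₀.subtype) = (g : Matrix (Fin 6) (Fin 6) F) * Pm
  rw [hM, smul_smul, Units.val_inv_eq_inv_val, Units.val_mk0, inv_mul_cancel₀ hμ0, one_smul]

include hF in
/-- The normaliser of a cubic field lies in a subfield group of symplectic type. -/
theorem field_le_subfield_six {K : Subalgebra F (Matrix (Fin 6) (Fin 6) F)} (hK : IsFieldSubalgebra 3 K)
    (hadj : IsAdjointClosedFor (Cfsg.hermForm 6 F 2) K) :
    ∃ (F₀ : Subfield F) (P : GL (Fin 6) F), Fintype.card F = Nat.card F₀ ^ 2 ∧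
      IsFormRationalStructure (Cfsg.hermForm 6 F 2) F₀ 1 P ∧
      (∀ u : Fin 6 → F, (∀ i, u i ∈ F₀) →
        ⟪(P : Matrix (Fin 6) (Fin 6) F) *ᵥ u, (P : Matrix (Fin 6) (Fin 6) F) *ᵥ u⟫ = 0) ∧
      subalgebraNormalizer K ⊓ suGL 6 F 2 ≤ subfieldSubgroup F₀ P := by
  classical
  have hf : IsField K :=
    ⟨⟨0, 1, fun h => zero_ne_one (congrArg Subtype.val h)⟩, fun x y => Subtype.ext (hK.comm x x.2 y y.2),
      fun {x} hx => by
        obtain ⟨y, hy, hxy⟩ := hK.inv x x.2 fun h => hx (Subtype.ext h)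
        exact ⟨⟨y, hy⟩, Subtype.ext hxy⟩⟩
  letI : Field K := hf.toField
  choose τ hτK hτ using fun k : K => hadj k k.2
  obtain ⟨F₀, P, h1, h2, h3, h4⟩ := field_le_subfield_aux hF (K := K) hK.finrank_eq K.val
    (fun k => ⟨τ k, hτK k⟩) (fun k u v => hτ k u v)
  refine ⟨F₀, P, h1, h2, h3, fun g hg => h4 g hg.2 fun k => ?_⟩
  refine ⟨⟨_, (hg.1 k).1 k.2⟩, ?_⟩
  show _ = (g : Matrix (Fin 6) (Fin 6) F) * (k : Matrix (Fin 6) (Fin 6) F) *
    ((g⁻¹ : GL (Fin 6) F) : Matrix (Fin 6) (Fin 6) F) * (g : Matrix (Fin 6) (Fin 6) F)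
  rw [mul_assoc _ ((g⁻¹ : GL (Fin 6) F) : Matrix (Fin 6) (Fin 6) F), Units.inv_mul, mul_one]
  rfl

end Cfsg.Agent.Aschbacher
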