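/-
SU_5(2): the normaliser of a quintic field is not maximal; an explicit point set of size 55 separates
its overgroup (of order 660).
-/
import Mathlib
import Cfsg.Agent.Aschbacher.Un.Lists.Main
import Cfsg.Agent.Aschbacher.Un.Lists.FieldSix
import Cfsg.Agent.Aschbacher.Un.Lists.FieldFiveCode
import Cfsg.Agent.Lib.Classical.UnitaryTwo

set_option autoImplicit false
set_option linter.style.haveILetI false

namespace Cfsg.Agent.Aschbacher

open Matrix
open Cfsg.Geo
open Cfsg.Agent.Classical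


open FieldFive

variable {F : Type*} [Field F] [Fintype F] (hF : Fintype.card F = 2 ^ 2)

local notation "⟪" u ", " v "⟫" => Cfsg.hermForm 5 F 2 u v

set_option maxHeartbeats 2000000 in
include hF in
theorem not_maximal_field_five_aux {K : Type*} [Field K] [Algebra F K] (hK5 : Module.finrank F K = 5)
    (ρ : K →ₐ[F] Matrix (Fin 5) (Fin 5) F) (τ : K → K)
    (hτ : ∀ k u v, ⟪ρ k *ᵥ u, v⟫ = ⟪u, ρ (τ k) *ᵥ v⟫) {N : Subgroup (GL (Fin 5) F)}
    (hN : N ≤ suGL 5 F 2) (hnorm : ∀ g ∈ N, ∀ k, ∃ k',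
      (g : Matrix (Fin 5) (Fin 5) F) * ρ k = ρ k' * (g : Matrix (Fin 5) (Fin 5) F)) :
    ¬ IsMaximalIn (suGL 5 F 2) N := by
  classical
  intro hmax
  haveI : Module.Finite F K := Module.finite_of_finrank_pos (by omega)
  haveI : Finite K := Module.finite_of_finite F
  letI : Fintype K := Fintype.ofFinite K
  have hK1024 : Fintype.card K = 1024 := by
    rw [Module.card_eq_pow_finrank (K := F) (V := K), hF, hK5]; rfl
  have h11 : (1 : F) + 1 = 0 := two_eq_zero_of_four (q := 2) rfl hF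
  have h4 : ∀ c : F, (c ^ 2) ^ 2 = c := fun c => by
    have := FiniteField.pow_card c
    rw [hF] at this
    rw [← pow_mul]
    exact this
  have h11K : (1 : K) + 1 = 0 := by
    rw [← map_one (algebraMap F K), ← map_add, h11, map_zero]
  haveI hchar : CharP K 2 := (CharP.charP_iff_prime_eq_zero Nat.prime_two).2 (by
    push_cast; rwa [← one_add_one_eq_two])
  have hρi : Function.Injective ρ := ρ.toRingHom.injective
  have huniq : ∀ x y : K, (∀ u v, ⟪u, ρ x *ᵥ v⟫ = ⟪u, ρ y *ᵥ v⟫) → x = y := by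
    intro x y h
    apply hρi
    refine Matrix.ext_iff_mulVec.2 fun v => sub_eq_zero.1 (Unitary.eq_zero_of_H hF fun u => ?_)
    rw [← Unitary.H_conj hF, Unitary.H_sub_right hF, h u v, sub_self, zero_pow two_ne_zero]
  -- the adjoint map
  have τadd : ∀ x y, τ (x + y) = τ x + τ y := fun x y => huniq _ _ fun u v => by
    rw [← hτ, map_add, map_add, Matrix.add_mulVec, Matrix.add_mulVec, Unitary.H_add_left,
      Unitary.H_add_right hF, hτ, hτ]
  have τone : τ 1 = 1 := huniq _ _ fun u v => by rw [← hτ, map_one, Matrix.one_mulVec, Matrix.one_mulVec]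
  have τmul : ∀ x y, τ (x * y) = τ x * τ y := fun x y => huniq _ _ fun u v => by
    rw [← hτ, map_mul, mul_comm (τ x), map_mul, ← Matrix.mulVec_mulVec, ← Matrix.mulVec_mulVec, hτ, hτ]
  have τalg : ∀ c : F, τ (algebraMap F K c) = algebraMap F K (c ^ 2) := fun c => huniq _ _ fun u v => by
    rw [← hτ, AlgHom.commutes, AlgHom.commutes, Algebra.algebraMap_eq_smul_one, Algebra.algebraMap_eq_smul_one,
      Matrix.smul_mulVec, Matrix.smul_mulVec, Matrix.one_mulVec, Matrix.one_mulVec, Unitary.H_smul_left,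
      Unitary.H_smul_right, h4]
  have τsmul : ∀ (c : F) x, τ (c • x) = c ^ 2 • τ x := fun c x => by
    rw [Algebra.smul_def, τmul, τalg, ← Algebra.smul_def]
  have ττ : ∀ x, τ (τ x) = x := fun x => huniq _ _ fun u v => by
    rw [← hτ, ← Unitary.H_conj hF, ← hτ, Unitary.H_conj hF]
  have hgal : ∀ ψ : K →ₐ[F] K, ∃ i : ℕ, i < 5 ∧ ∀ x, ψ x = x ^ (4 ^ i) := fun ψ => by
    haveI : Algebra.IsAlgebraic F K := Algebra.IsAlgebraic.of_finite F K
    obtain ⟨i, hi⟩ := (FiniteField.bijective_frobeniusAlgHom_pow F K).2 ψ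
    refine ⟨i.1, hK5 ▸ i.2, fun x => ?_⟩
    rw [← hi, AlgHom.coe_pow, FiniteField.coe_frobeniusAlgHom, pow_iterate, hF]
    rfl
  have h1024 : ∀ x : K, x ^ 2 ^ 10 = x := fun x => by
    have := FiniteField.pow_card x
    rw [hK1024] at this
    exact this
  have hnot4 : ¬ ∀ x : K, x ^ 2 ^ 2 = x := fun h => by
    have hle : (Finset.univ : Finset K).card ≤
        (Polynomial.X ^ 4 - Polynomial.X : Polynomial K).roots.toFinset.card :=
      Finset.card_le_card fun y _ => by
        rw [Multiset.mem_toFinset, Polynomial.mem_roots (FiniteField.X_pow_card_sub_X_ne_zero K (by norm_num))]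
        have h' : y ^ 4 = y := h y
        simp [h']
    have h1 := hle.trans ((Multiset.toFinset_card_le _).trans (Polynomial.card_roots' _))
    rw [Finset.card_univ, hK1024, FiniteField.X_pow_card_sub_X_natDegree_eq K (by norm_num)] at h1
    omega
  have hmodten : ∀ (x : K) (m : ℕ), x ^ 2 ^ m = x ^ 2 ^ (m % 10) := fun x m => by
    conv_lhs => rw [← Nat.mod_add_div m 10, pow_add, pow_mul]
    generalize x ^ 2 ^ (m % 10) = y
    induction m / 10 with
    | zero => simp
    | succ d ih => rw [Nat.mul_succ, pow_add, pow_mul, ih, h1024]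
  have τ32 : ∀ x, τ x = x ^ 32 := by
    obtain ⟨i, hi, hψ⟩ := hgal
      { toFun := fun x => τ x ^ 2
        map_one' := by rw [τone, one_pow]
        map_mul' := fun x y => by rw [τmul, mul_pow]
        map_zero' := by
          have h0 := τadd 0 0
          rw [add_zero] at h0
          rw [left_eq_add.1 h0, zero_pow two_ne_zero]
        map_add' := fun x y => by rw [τadd]; linear_combination (τ x * τ y) * h11K
        commutes' := fun c => by rw [τalg, ← map_pow, h4] }
    have hx : ∀ x, τ x = x ^ 2 ^ (2 * i + 9) := fun x => by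
      have h1 : τ x ^ 2 = x ^ (4 ^ i) := hψ x
      rw [← h1024 (τ x), show (2 : ℕ) ^ 10 = 2 * 2 ^ 9 from rfl, pow_mul, h1, ← pow_mul,
        show (4 : ℕ) ^ i * 2 ^ 9 = 2 ^ (2 * i + 9) by rw [pow_add, pow_mul]; norm_num]
    have hsq : ∀ x : K, x ^ 2 ^ ((4 * i + 18) % 10) = x := fun x => by
      have h1 := ττ x
      rw [hx, hx, ← pow_mul, ← pow_add, show 2 * i + 9 + (2 * i + 9) = 4 * i + 18 by ring, hmodten] at h1
      exact h1
    by_cases h3 : i = 3
    · intro x
      rw [hx, h3, hmodten]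
      norm_num
    · refine absurd (fun x => ?_) hnot4
      have hit : ∀ j, x ^ 2 ^ ((4 * i + 18) % 10 * j) = x := fun j => by
        induction j with
        | zero => simp
        | succ j ih => rw [Nat.mul_succ, pow_add, pow_mul, ih, hsq]
      obtain ⟨j, hj⟩ : ∃ j, (4 * i + 18) % 10 * j % 10 = 2 := by
        obtain rfl | rfl | rfl | rfl : i = 0 ∨ i = 1 ∨ i = 2 ∨ i = 4 := by omega
        exacts [⟨4, rfl⟩, ⟨1, rfl⟩, ⟨2, rfl⟩, ⟨3, rfl⟩]
      have h1 := hit j
      rwa [hmodten, hj] at h1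
  -- the trace
  have hTr : ∀ x : K, algebraMap F K (Algebra.trace F K x) = x + x ^ 4 + x ^ 16 + x ^ 64 + x ^ 256 := fun x => by
    rw [FiniteField.algebraMap_trace_eq_sum_pow, hK5, Nat.card_eq_fintype_card, hF]
    simp [Finset.sum_range_succ]
  set Tr := Algebra.trace F K with hTrdef
  have hTrone : Tr 1 = 1 := by
    apply (algebraMap F K).injective
    rw [hTr, map_one]
    simp only [one_pow]
    linear_combination (2 : K) * h11K
  have hTrnd : ∀ x, (∀ w, Tr (x * w) = 0) → x = 0 := fun x h => by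
    by_contra hx
    have h2 := h x⁻¹
    rw [mul_inv_cancel₀ hx, hTrone] at h2
    exact one_ne_zero h2
  have hTrsq : ∀ x, Tr (x ^ 2) = Tr x ^ 2 := fun x => by
    apply (algebraMap F K).injective
    rw [hTr, map_pow, hTr]
    simp only [← pow_mul]
    linear_combination (-(x * x ^ 4 + x * x ^ 16 + x * x ^ 64 + x * x ^ 256 + x ^ 4 * x ^ 16 + x ^ 4 * x ^ 64 +
      x ^ 4 * x ^ 256 + x ^ 16 * x ^ 64 + x ^ 16 * x ^ 256 + x ^ 64 * x ^ 256)) * h11K
  have hprod : ∀ (x y : K) (v w : Fin 5 → F), ⟪ρ x *ᵥ v, ρ y *ᵥ w⟫ = ⟪ρ (x * τ y) *ᵥ v, w⟫ := fun x y v w => by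
    rw [mul_comm, map_mul, ← Matrix.mulVec_mulVec, hτ (τ y), ττ]
  -- a vector with the trace as its functional
  obtain ⟨v0, hv0⟩ : ∃ v0 : Fin 5 → F, ∀ x, ⟪ρ x *ᵥ v0, v0⟫ = Tr x := by
    set e1 : Fin 5 → F := Pi.single 0 1 with he1
    let T : K →ₗ[F] F :=
      { toFun := fun x => ⟪ρ x *ᵥ e1, e1⟫
        map_add' := fun x y => by rw [map_add, Matrix.add_mulVec, Unitary.H_add_left]
        map_smul' := fun c x => by rw [map_smul, Matrix.smul_mulVec, Unitary.H_smul_left]; rfl }
    let dual : K →ₗ[F] Module.Dual F K :=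
      { toFun := fun c => Tr ∘ₗ LinearMap.mulLeft F c
        map_add' := fun a b => LinearMap.ext fun x => by simp [add_mul]
        map_smul' := fun a b => LinearMap.ext fun x => by simp }
    have hinj : Function.Injective dual := fun a b h => sub_eq_zero.1 (hTrnd _ fun w => by
      have := LinearMap.congr_fun h w
      simp only [dual, LinearMap.coe_mk, AddHom.coe_mk, LinearMap.comp_apply, LinearMap.mulLeft_apply] at this
      rw [sub_mul, map_sub, this, sub_self])
    obtain ⟨c, hc⟩ := (LinearMap.injective_iff_surjective_of_finrank_eq_finrank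
      Subspace.dual_finrank_eq.symm).1 hinj T
    have hc' : ∀ x, T x = Tr (c * x) := fun x => by rw [← hc]; rfl
    have hTτ : ∀ x, T (τ x) = T x ^ 2 := fun x => by
      show ⟪ρ (τ x) *ᵥ e1, e1⟫ = ⟪ρ x *ᵥ e1, e1⟫ ^ 2
      rw [Unitary.H_conj hF, hτ, ττ]
    have hTrτ : ∀ x, Tr (τ x) = Tr x ^ 2 := fun x => by
      have h16 : ∀ a : F, (((a ^ 2) ^ 2) ^ 2) ^ 2 = a := fun a => by rw [h4, h4]
      rw [τ32, show (32 : ℕ) = 2 * 2 * 2 * 2 * 2 from rfl, pow_mul, pow_mul, pow_mul, pow_mul, hTrsq, hTrsq, hTrsq,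
        hTrsq, hTrsq, h4, h4]
    have hcτ : τ c = c := by
      refine sub_eq_zero.1 (hTrnd _ fun w => ?_)
      have h1 := hTτ (τ w)
      rw [ττ, hc', hc', ← hTrτ, τmul, ττ] at h1
      rw [sub_mul, map_sub, h1, sub_self]
    have hc0 : c ≠ 0 := fun h => by
      have h1 : T 1 = 1 := by
        show ⟪ρ 1 *ᵥ e1, e1⟫ = 1
        rw [map_one, Matrix.one_mulVec, he1, Unitary.H_single_single hF, if_pos rfl]
      rw [hc', h, zero_mul, map_zero] at h1
      exact zero_ne_one h1
    let τh : K →+* K := { toFun := τ, map_one' := τone, map_mul' := τmul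
                          map_zero' := by rw [τ32, zero_pow (by norm_num)], map_add' := τadd }
    obtain ⟨a₀, ha₀⟩ : ∃ a₀ : K, τh a₀ ≠ a₀ := by
      obtain ⟨θ, hθ⟩ := exists_qAut_ne hF
      rw [qAut_apply] at hθ
      exact ⟨algebraMap F K θ, fun h => hθ ((algebraMap F K).injective ((τalg θ).symm.trans h))⟩
    obtain ⟨k, hk⟩ := exists_mul_map_eq τh ττ ha₀ (l := c⁻¹) (by rw [map_inv₀]; exact congrArg _ hcτ)
      (inv_ne_zero hc0)
    refine ⟨ρ k *ᵥ e1, fun x => ?_⟩
    rw [Matrix.mulVec_mulVec, ← map_mul, hprod]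
    show T _ = _
    rw [hc', mul_assoc x, show k * τ k = c⁻¹ from hk, mul_comm x, ← mul_assoc, mul_inv_cancel₀ hc0, one_mul]
  let ε : K →ₗ[F] (Fin 5 → F) :=
    { toFun := fun x => ρ x *ᵥ v0
      map_add' := fun x y => by rw [map_add, Matrix.add_mulVec]
      map_smul' := fun c x => by rw [map_smul, Matrix.smul_mulVec]; rfl }
  have hεε : ∀ x y, ⟪ε x, ε y⟫ = Tr (x * τ y) := fun x y => by
    show ⟪ρ x *ᵥ v0, ρ y *ᵥ v0⟫ = _
    rw [hprod, hv0]
  have hεinj : Function.Injective ε := fun x y h => sub_eq_zero.1 (hTrnd _ fun w => by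
    have h1 := hεε (x - y) (τ w)
    rw [map_sub, h, sub_self, Unitary.H_zero_left, ττ] at h1
    exact h1.symm)
  have hεsurj : Function.Surjective ε := (LinearMap.injective_iff_surjective_of_finrank_eq_finrank
    (by rw [hK5, Module.finrank_fin_fun])).1 hεinj
  -- an element of order eleven
  haveI : Fact (Nat.Prime 11) := ⟨by norm_num⟩
  obtain ⟨zu, hzu⟩ := exists_prime_orderOf_dvd_card' (G := Kˣ) 11 (by
    rw [Nat.card_units, Nat.card_eq_fintype_card, hK1024]; norm_num)
  set z : K := (zu : K) with hzdef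
  have hzprim : IsPrimitiveRoot z 11 := by
    rw [← hzu]; exact IsPrimitiveRoot.coe_units_iff.2 (IsPrimitiveRoot.orderOf zu)
  have hz11 : z ^ 11 = 1 := hzprim.pow_eq_one
  have hz1 : z ≠ 1 := hzprim.ne_one (by norm_num)
  have hmod : ∀ k, z ^ k = z ^ (k % 11) := fun k => by
    conv_lhs => rw [← Nat.mod_add_div k 11, pow_add, pow_mul, hz11, one_pow, mul_one]
  have hphi : 1 + z + z ^ 2 + z ^ 3 + z ^ 4 + z ^ 5 + z ^ 6 + z ^ 7 + z ^ 8 + z ^ 9 + z ^ 10 = 0 := by
    have h := hzprim.geom_sum_eq_zero (by norm_num)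
    simpa [Finset.sum_range_succ] using h
  have hTrz : ∀ k, algebraMap F K (Tr (z ^ k)) =
      z ^ (k % 11) + z ^ (k * 4 % 11) + z ^ (k * 5 % 11) + z ^ (k * 9 % 11) + z ^ (k * 3 % 11) := fun k => by
    rw [hTr, ← pow_mul, ← pow_mul, ← pow_mul, ← pow_mul, hmod k, hmod (k * 4), hmod (k * 16), hmod (k * 64),
      hmod (k * 256)]
    rw [show k * 16 % 11 = k * 5 % 11 by omega, show k * 64 % 11 = k * 9 % 11 by omega,
      show k * 256 % 11 = k * 3 % 11 by omega]
  set θ : F := Tr z with hθdef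
  have hθK : algebraMap F K θ = z + z ^ 3 + z ^ 4 + z ^ 5 + z ^ 9 := by
    have := hTrz 1
    rw [pow_one] at this
    rw [hθdef, this]
    norm_num
    ring
  have hθ2 : θ ^ 2 = θ + 1 := by
    apply (algebraMap F K).injective
    have h2 : algebraMap F K (θ ^ 2) = z ^ 2 + z ^ 6 + z ^ 7 + z ^ 8 + z ^ 10 := by
      have := hTrz 2
      rw [hTrsq] at this
      rw [this]
      norm_num
      ring
    rw [h2, map_add, map_one, hθK]
    linear_combination hphi - (1 + z + z ^ 3 + z ^ 4 + z ^ 5 + z ^ 9) * h11K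
  have hθ0 : θ ≠ 0 := fun h => by
    rw [h, zero_pow two_ne_zero, zero_add] at hθ2
    exact zero_ne_one hθ2
  have hθ1 : θ + 1 ≠ 0 := by rw [← hθ2]; exact pow_ne_zero _ hθ0
  have hθne : θ ≠ 1 := fun h => hθ1 (by rw [h, h11])
  let ι : Fin 4 → F := ![0, 1, θ, θ + 1]
  have hιadd : ∀ a b, ι (fAdd a b) = ι a + ι b := by
    intro a b
    fin_cases a <;> fin_cases b <;> simp [ι, fAdd] <;>
      first
        | ring1
        | linear_combination h11
        | linear_combination (-1 : F) * h11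
        | linear_combination θ * h11
        | linear_combination (-θ) * h11
        | linear_combination (1 + θ) * h11
        | linear_combination (-(1 + θ)) * h11
  have hιmul : ∀ a b, ι (fMul a b) = ι a * ι b := by
    intro a b
    fin_cases a <;> fin_cases b <;> simp [ι, fMul] <;>
      first
        | linear_combination hθ2
        | linear_combination (-1 : F) * hθ2
        | linear_combination hθ2 + (1 + θ) * h11
        | linear_combination (-1 : F) * hθ2 - (1 + θ) * h11
        | linear_combination (-1 : F) * hθ2 - θ * h11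
        | linear_combination hθ2 + θ * h11
  have hιbar : ∀ a, ι (fBar a) = ι a ^ 2 := by
    intro a
    fin_cases a <;> simp [ι, fBar] <;>
      first
        | linear_combination (-1 : F) * hθ2
        | linear_combination (-1 : F) * hθ2 - (θ + 1) * h11
  have hιinj : Function.Injective ι := by
    intro a b h
    fin_cases a <;> fin_cases b <;> simp [ι] at h ⊢ <;>
      first
        | exact one_ne_zero h
        | exact one_ne_zero h.symm
        | exact hθ0 h
        | exact hθ0 h.symm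
        | exact hθ1 h
        | exact hθ1 h.symm
        | exact hθne h
        | exact hθne h.symm
  -- coordinates
  have hrel : z ^ 5 = 1 + (algebraMap F K θ + 1) * z + z ^ 2 + z ^ 3 + algebraMap F K θ * z ^ 4 := by
    rw [hθK]
    linear_combination (1 + z ^ 2 + z ^ 3) * hphi +
      (-(z ^ 3 + z ^ 4 + z ^ 6 + z ^ 7 + z ^ 8 + z ^ 9 + z ^ 10 + z ^ 11 + z ^ 12) -
        (1 + (z + z ^ 3 + z ^ 4 + z ^ 5 + z ^ 9 + 1) * z + z ^ 2 + z ^ 3 +
          (z + z ^ 3 + z ^ 4 + z ^ 5 + z ^ 9) * z ^ 4)) * h11K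
  let pol : (Fin 5 → Fin 4) → K := fun v => ∑ i : Fin 5, algebraMap F K (ι (v i)) * z ^ (i : ℕ)
  have hstep : ∀ v, z * pol v = pol (cstep v) := fun v => by
    have hι1 : ι 1 = 1 := rfl
    have hι2 : ι 2 = θ := rfl
    have hι3 : ι 3 = θ + 1 := rfl
    simp [pol, cstep, Fin.sum_univ_five, hιadd, hιmul, hι2, hι3]
    linear_combination algebraMap F K (ι (v 4)) * hrel
  have hpow : ∀ k, pol (cPow k) = z ^ k := by
    intro k
    induction k with
    | zero => simp [pol, cPow, fUnit, Fin.sum_univ_five, show ι 0 = 0 from rfl, show ι 1 = 1 from rfl]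
    | succ k ih => rw [cPow, ← hstep, ih, pow_succ, mul_comm]
  set B : Matrix (Fin 5) (Fin 5) F := Matrix.of fun x i => ε (z ^ (i : ℕ)) x with hB
  have hBv : ∀ v : Fin 5 → Fin 4, B *ᵥ (ι ∘ v) = ε (pol v) := fun v => by
    simp only [pol, map_sum, ← Algebra.smul_def, map_smul]
    funext x
    simp [Matrix.mulVec, dotProduct, hB, mul_comm]
  have hli : LinearIndependent F (fun i : Fin 5 => z ^ (i : ℕ)) := by
    haveI : Algebra.IsAlgebraic F K := Algebra.IsAlgebraic.of_finite F K
    have hd : (minpoly F z).natDegree = 5 := by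
      have h1 : (minpoly F z).natDegree ∣ 5 := hK5 ▸ minpoly.degree_dvd (Algebra.IsIntegral.isIntegral z)
      refine ((Nat.dvd_prime (by norm_num)).1 h1).resolve_left fun h => ?_
      obtain ⟨a, ha⟩ := minpoly.natDegree_eq_one_iff.1 h
      have ha0 : a ≠ 0 := fun h0 => by
        rw [h0, map_zero] at ha; exact hzprim.ne_zero (by norm_num) ha.symm
      have h3 := pow_three_eq_one_of_four (q := 2) rfl hF ha0
      refine hz1 ?_
      have h3' : z ^ 3 = 1 := by rw [← ha, ← map_pow, h3, map_one]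
      calc z = z ^ (11 + 1) := by rw [pow_succ, hz11, one_mul]
        _ = 1 := by rw [show 11 + 1 = 3 * 4 from rfl, pow_mul, h3', one_pow]
    have h := linearIndependent_pow (K := F) z
    exact h.comp (Fin.cast hd.symm) (Fin.cast_injective _)
  have hBdet : B.det ≠ 0 := by
    intro h0
    obtain ⟨y, hy0, hy⟩ := Matrix.exists_mulVec_eq_zero_iff.2 h0
    have h1 : ε (∑ i : Fin 5, y i • z ^ (i : ℕ)) = 0 := by
      rw [← hy, map_sum]
      simp only [map_smul]
      funext x
      simp [Matrix.mulVec, dotProduct, hB, mul_comm]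
    exact hy0 (funext (Fintype.linearIndependent_iff.1 hli y (hεinj (h1.trans ε.map_zero.symm))))
  have hBinj : ∀ u v : Fin 5 → Fin 4, B *ᵥ (ι ∘ u) = B *ᵥ (ι ∘ v) → u = v := fun u v h => by
    have h1 : ι ∘ u = ι ∘ v := by
      by_contra hne
      refine hBdet (Matrix.exists_mulVec_eq_zero_iff.1 ⟨ι ∘ u - ι ∘ v, sub_ne_zero.2 hne, ?_⟩)
      rw [Matrix.mulVec_sub, h, sub_self]
    exact funext fun i => hιinj (congrFun h1 i)
  have hιapp : ∀ (A : Fin 5 → Fin 5 → Fin 4) (v : Fin 5 → Fin 4),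
      (Matrix.of fun i j => ι (A i j)) *ᵥ (ι ∘ v) = ι ∘ fApp A v := fun A v => by
    funext i
    simp [Matrix.mulVec, dotProduct, Fin.sum_univ_five, fApp, hιadd, hιmul]
  let T : Set (Fin 5 → F) := {u | ∃ p, InPts p ∧ u = B *ᵥ (ι ∘ p)}
  have hTfin : T.Finite := Set.toFinite _
  let St : Subgroup (GL (Fin 5) F) :=
    { carrier := {g | ∀ v ∈ T, (g : Matrix (Fin 5) (Fin 5) F) *ᵥ v ∈ T}
      one_mem' := fun v hv => by rwa [Units.val_one, Matrix.one_mulVec]
      mul_mem' := fun {a b} ha hb v hv => by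
        rw [Units.val_mul, ← Matrix.mulVec_mulVec]; exact ha _ (hb v hv)
      inv_mem' := fun {a} ha v hv => by
        have hinj : Set.InjOn (fun u => (a : Matrix (Fin 5) (Fin 5) F) *ᵥ u) T := fun x _ y _ h => by
          simpa [Matrix.mulVec_mulVec, ← Units.val_mul] using
            congrArg (((a⁻¹ : GL (Fin 5) F) : Matrix (Fin 5) (Fin 5) F) *ᵥ ·) h
        obtain ⟨u, hu, rfl⟩ := ((hTfin.injOn_iff_bijOn_of_mapsTo ha).1 hinj).surjOn hv
        rwa [Matrix.mulVec_mulVec, ← Units.val_mul, inv_mul_cancel, Units.val_one, Matrix.one_mulVec] }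
  -- the transposed coordinates of a group element
  have hle : N ≤ St ⊓ suGL 5 F 2 := by
    intro g hg
    refine ⟨?_, hN hg⟩
    obtain ⟨hgU, hgdet⟩ := hN hg
    have hiso : ∀ u v, ⟪(g : Matrix (Fin 5) (Fin 5) F) *ᵥ u, (g : Matrix (Fin 5) (Fin 5) F) *ᵥ v⟫ = ⟪u, v⟫ := fun u v => by
      have := (mem_GU hF).1 hgU u v
      rwa [hermData_form] at this
    choose σ hσ using hnorm g hg
    have hgi : ∀ A C : Matrix (Fin 5) (Fin 5) F, A * (g : Matrix (Fin 5) (Fin 5) F) = C * g → A = C := fun A C h => by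
      have := congrArg (· * ((g⁻¹ : GL (Fin 5) F) : Matrix (Fin 5) (Fin 5) F)) h
      simpa [mul_assoc, ← Units.val_mul] using this
    let σh : K →ₐ[F] K :=
      { toFun := σ
        map_one' := hρi (hgi _ _ (by rw [← hσ, map_one, mul_one, one_mul]))
        map_mul' := fun x y => hρi (hgi _ _ (by
          rw [← hσ, map_mul, map_mul, ← mul_assoc, hσ, mul_assoc, hσ, mul_assoc]))
        map_zero' := hρi (hgi _ _ (by rw [← hσ, map_zero, mul_zero, zero_mul]))
        map_add' := fun x y => hρi (hgi _ _ (by rw [← hσ, map_add, map_add, mul_add, hσ, hσ, add_mul]))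
        commutes' := fun a => hρi (hgi _ _ (by
          rw [← hσ, AlgHom.commutes, Algebra.commutes])) }
    obtain ⟨i, -, hσi⟩ := hgal σh
    obtain ⟨a, ha⟩ := hεsurj ((g : Matrix (Fin 5) (Fin 5) F) *ᵥ v0)
    have hgε : ∀ x, (g : Matrix (Fin 5) (Fin 5) F) *ᵥ ε x = ε (σh x * a) := fun x => by
      show (g : Matrix (Fin 5) (Fin 5) F) *ᵥ (ρ x *ᵥ v0) = ρ (σ x * a) *ᵥ v0
      rw [Matrix.mulVec_mulVec, hσ, ← Matrix.mulVec_mulVec, ← ha, map_mul, ← Matrix.mulVec_mulVec]
      rfl
    have hσbij : Function.Bijective σh := σh.bijective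
    have hTrσ : ∀ x, Tr (σh x) = Tr x := fun x => by
      apply (algebraMap F K).injective
      rw [hσi]
      induction i with
      | zero => simp
      | succ d _ =>
        clear hσi
        induction d + 1 with
        | zero => simp
        | succ e ih =>
          rw [pow_succ, pow_mul, show (4 : ℕ) = 2 * 2 from rfl, pow_mul, hTrsq, hTrsq, h4, ih]
    have haτ : a * τ a = 1 := sub_eq_zero.1 (hTrnd _ fun w => by
      obtain ⟨x, rfl⟩ := hσbij.2 w
      have h1 := hεε (σh x * a) (σh 1 * a)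
      rw [← hgε, ← hgε, hiso, hεε, map_one, one_mul, τone, mul_one] at h1
      rw [sub_mul, one_mul, map_sub, hTrσ, sub_eq_zero, h1]
      congr 1
      ring)
    have ha33 : a ^ 33 = 1 := by rw [pow_succ', ← τ32]; exact haτ
    have ha0 : a ≠ 0 := left_ne_zero_of_mul_eq_one haτ
    have hnorm1 : Algebra.norm F a = 1 := by
      have hSdet : LinearMap.det σh.toLinearMap = 1 :=
        det_eq_one_of_commute_sq hF σh.toLinearMap hσbij
          (AddMonoidHom.mk' (fun x => x ^ 2) fun x y => by linear_combination (x * y) * h11K)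
          (fun x y h => by
            have h2' : x ^ 2 = y ^ 2 := h
            have h2 : (x - y) ^ 2 = 0 := by linear_combination h2' - (x * y - y ^ 2) * h11K
            exact sub_eq_zero.1 (pow_eq_zero_iff two_ne_zero |>.1 h2))
          (fun c x => by simp [Algebra.smul_def, mul_pow])
          (fun x => by simp)
      let εe := LinearEquiv.ofBijective ε ⟨hεinj, hεsurj⟩
      have hconj : Matrix.toLin' (g : Matrix (Fin 5) (Fin 5) F) =
          (εe : K →ₗ[F] (Fin 5 → F)) ∘ₗ (LinearMap.mulLeft F a ∘ₗ σh.toLinearMap) ∘ₗ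
            (εe.symm : (Fin 5 → F) →ₗ[F] K) := by
        refine LinearMap.ext fun u => ?_
        obtain ⟨x, rfl⟩ := hεsurj u
        rw [Matrix.toLin'_apply, hgε]
        simp only [LinearMap.comp_apply, LinearEquiv.coe_coe]
        rw [show εe.symm (ε x) = x from εe.symm_apply_apply x]
        show ε _ = ε (a * σh x)
        rw [mul_comm]
      have hdet := congrArg LinearMap.det hconj
      rw [LinearMap.det_toLin', mem_specialLinear.1 hgdet, LinearMap.det_conj, LinearMap.det_comp, hSdet,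
        mul_one] at hdet
      rw [Algebra.norm_apply]
      exact hdet.symm
    have ha341 : a ^ 341 = 1 := by
      have := FiniteField.algebraMap_norm_eq_pow (K := F) (x := a)
      rw [hnorm1, map_one, Nat.card_eq_fintype_card, Nat.card_eq_fintype_card, hK1024, hF] at this
      exact this.symm
    have ha11 : a ^ 11 = 1 := by
      rw [show (341 : ℕ) = 33 * 10 + 11 from rfl, pow_add, pow_mul, ha33, one_pow, one_mul] at ha341
      exact ha341
    obtain ⟨m, -, hm⟩ := hzprim.eq_pow_of_pow_eq_one ha11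
    have hσz : ∀ j, σh (z ^ j) = z ^ (4 ^ i * j) := fun j => by rw [hσi, ← pow_mul, mul_comm]
    -- the images of the coded vectors
    let sIter : ℕ → (Fin 5 → Fin 4) → (Fin 5 → Fin 4) := fun d v => (fApp sMat)^[d] v
    have hcIter : ∀ d v, pol (cstep^[d] v) = z ^ d * pol v := fun d v => by
      induction d with
      | zero => simp
      | succ d ih => rw [Function.iterate_succ_apply', ← hstep, ih, pow_succ, mul_left_comm, ← mul_assoc]
    have hs1 : ∀ v, pol (fApp sMat v) = (pol v) ^ 4 := fun v => by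
      have hj : ∀ j : Fin 5, pol (fun i => sMat i j) = (z ^ (j : ℕ)) ^ 4 := fun j => by
        show pol (cPow (4 * (j : ℕ) % 11)) = _
        rw [hpow, ← pow_mul, mul_comm _ 4, hmod (4 * _)]
      have hc4 : ∀ c : F, (algebraMap F K c) ^ 4 = algebraMap F K c := fun c => by
        rw [← map_pow]; congr 1
        have := h4 c; rw [← pow_mul] at this; exact this
      have hfr : ∀ x y : K, (x + y) ^ 4 = x ^ 4 + y ^ 4 := fun x y => by
        rw [show (4 : ℕ) = 2 ^ 2 from rfl, add_pow_char_pow]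
      have e : pol (fApp sMat v) = ∑ j : Fin 5, algebraMap F K (ι (v j)) * pol (fun i => sMat i j) := by
        simp only [pol, fApp, Fin.sum_univ_five, hιadd, hιmul, map_add, map_mul]
        ring
      rw [e]
      simp only [hj]
      simp only [pol, Fin.sum_univ_five, hfr, mul_pow, hc4]
    have hsIter : ∀ d v, pol (sIter d v) = (pol v) ^ (4 ^ d) := fun d v => by
      induction d with
      | zero => simp [sIter]
      | succ d ih =>
        show pol ((fApp sMat)^[d + 1] v) = _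
        rw [Function.iterate_succ_apply', hs1, show (fApp sMat)^[d] v = sIter d v from rfl, ih, ← pow_mul, pow_succ]
    rintro _ ⟨p, hp, rfl⟩
    refine ⟨cstep^[m] (sIter i p), ?_, ?_⟩
    · have h1 : InPts (sIter i p) := by
        show InPts ((fApp sMat)^[i] p)
        clear hσi hσz hsIter
        induction i with
        | zero => exact hp
        | succ d ih => rw [Function.iterate_succ_apply']; exact sMat_mem _ ih
      generalize sIter i p = p' at h1 ⊢
      clear hm hcIter
      induction m with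
      | zero => exact h1
      | succ d ih => rw [Function.iterate_succ_apply']; exact cstep_mem _ ih
    · rw [hBv, hBv, hgε, hcIter, hsIter, hσi, hm, mul_comm]
  -- the extra element
  set Xm : Matrix (Fin 5) (Fin 5) F := Matrix.of fun i j => ι (xMat i j) with hXm
  have hXX : Xm * Xm = 1 := by
    ext i j
    rw [show (Xm * Xm) i j = (Xm *ᵥ (ι ∘ fun k => xMat k j)) i from rfl, hXm, hιapp, Function.comp_apply,
      xMat_sq, fUnit, Matrix.one_apply]
    split_ifs <;> rfl
  have hBu : IsUnit B.det := isUnit_iff_ne_zero.2 hBdet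
  set Bu : GL (Fin 5) F := Matrix.GeneralLinearGroup.mkOfDetNeZero B hBdet with hBudef
  set Xu : GL (Fin 5) F := ⟨Xm, Xm, hXX, hXX⟩ with hXu
  set t : GL (Fin 5) F := Bu * Xu * Bu⁻¹ with ht
  have htB : (t : Matrix (Fin 5) (Fin 5) F) * B = B * Xm := by
    rw [show B = ((Bu : GL (Fin 5) F) : Matrix (Fin 5) (Fin 5) F) from rfl,
      show Xm = ((Xu : GL (Fin 5) F) : Matrix (Fin 5) (Fin 5) F) from rfl, ← Units.val_mul, ← Units.val_mul,
      ht, inv_mul_cancel_right]
  have htv : ∀ v : Fin 5 → Fin 4, (t : Matrix (Fin 5) (Fin 5) F) *ᵥ (B *ᵥ (ι ∘ v)) = B *ᵥ (ι ∘ fApp xMat v) :=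
    fun v => by rw [Matrix.mulVec_mulVec, htB, ← Matrix.mulVec_mulVec, hXm, hιapp]
  have hgTr : ∀ k, Tr (z ^ k) = ι (gTr k) := fun k => by
    apply (algebraMap F K).injective
    rw [hmod k, hTrz]
    have : gTr k = gTr (k % 11) := by simp [gTr]
    rw [this]
    have h0 : k % 11 < 11 := Nat.mod_lt _ (by norm_num)
    generalize k % 11 = l at h0 ⊢
    have hι3 : algebraMap F K (θ + 1) = z ^ 2 + z ^ 6 + z ^ 7 + z ^ 8 + z ^ 10 := by
      rw [map_add, map_one, hθK]
      linear_combination hphi - (z ^ 2 + z ^ 6 + z ^ 7 + z ^ 8 + z ^ 10) * h11K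
    interval_cases l <;> simp [gTr, ι, -map_add, hι3, hθK] <;>
      first
        | ring1
        | linear_combination (2 : K) * h11K
        | linear_combination h11K
  have hgram : Bᵀ * B.map (qAut hF) = Matrix.of fun i j => ι (gMat i j) := by
    ext i j
    rw [Matrix.of_apply, gMat, ← hgTr]
    show ⟪ε (z ^ (i : ℕ)), ε (z ^ (j : ℕ))⟫ = _
    rw [hεε, τ32, ← pow_mul, ← pow_add, hmod ((i : ℕ) + (j : ℕ) * 32), hmod ((i : ℕ) + 10 * (j : ℕ))]
    congr 2
    omega
  have htG : Xmᵀ * (Matrix.of fun i j => ι (gMat i j)) * Xm.map (qAut hF) = Matrix.of fun i j => ι (gMat i j) := by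
    ext a b
    rw [mul_assoc, Matrix.mul_apply, Fin.sum_univ_five]
    have h1 : ∀ k, ((Matrix.of fun i j => ι (gMat i j)) * Xm.map (qAut hF)) k b =
        ι (fApp gMat (fun l => fBar (xMat l b)) k) := fun k => by
      simp [Matrix.mul_apply, Fin.sum_univ_five, fApp, hιadd, hιmul, hιbar, hXm, qAut_apply]
    simp only [h1]
    simp only [Matrix.transpose_apply, hXm, Matrix.of_apply, ← hιmul, ← hιadd, xMat_gram]
  have htU : t ∈ Cfsg.GU 5 F 2 := by
    rw [mem_GU_matrix hF]
    set tm := (t : Matrix (Fin 5) (Fin 5) F) with htm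
    have h1 : Bᵀ * (tmᵀ * tm.map (qAut hF)) * B.map (qAut hF) = Bᵀ * 1 * B.map (qAut hF) := by
      rw [mul_one, hgram]
      calc Bᵀ * (tmᵀ * tm.map (qAut hF)) * B.map (qAut hF)
          = (tm * B)ᵀ * (tm * B).map (qAut hF) := by
            rw [Matrix.transpose_mul, Matrix.map_mul, mul_assoc, mul_assoc, mul_assoc]
        _ = Xmᵀ * (Bᵀ * B.map (qAut hF)) * Xm.map (qAut hF) := by
            rw [htB, Matrix.transpose_mul, Matrix.map_mul, mul_assoc, mul_assoc, mul_assoc]
        _ = _ := by rw [hgram, htG]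
    have hu1 : IsUnit Bᵀ := by rw [Matrix.isUnit_iff_isUnit_det, Matrix.det_transpose]; exact hBu
    have hu2 : IsUnit (B.map (qAut hF)) := by
      rw [Matrix.isUnit_iff_isUnit_det, show (B.map (qAut hF)).det = qAut hF B.det from
        (RingHom.map_det (qAut hF).toRingHom B).symm]
      exact hBu.map _
    exact hu1.mul_left_cancel (hu2.mul_right_cancel h1)
  have htdet : t ∈ specialLinear (Fin 5) F := by
    rw [mem_specialLinear]
    have h1 : (t : Matrix (Fin 5) (Fin 5) F) * t = 1 := by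
      rw [← Units.val_mul, ht, show Bu * Xu * Bu⁻¹ * (Bu * Xu * Bu⁻¹) = Bu * (Xu * Xu) * Bu⁻¹ by group,
        show Xu * Xu = 1 from Units.ext hXX, mul_one, mul_inv_cancel, Units.val_one]
    have h2 := congrArg Matrix.det h1
    rw [Matrix.det_mul, Matrix.det_one] at h2
    rcases mul_self_eq_one_iff.1 h2 with h | h
    · exact h
    · rw [h]; linear_combination -h11
  have htnot : t ∉ N := by
    intro htN
    choose σ hσ using hnorm t htN
    obtain ⟨a, ha⟩ := hεsurj ((t : Matrix (Fin 5) (Fin 5) F) *ᵥ v0)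
    have hv : ∀ j : Fin 5, B *ᵥ (ι ∘ fUnit j) = ε (z ^ (j : ℕ)) := fun j => by
      rw [hBv]
      congr 1
      simp [pol, fUnit, apply_ite ι, show ι 0 = 0 from rfl, show ι 1 = 1 from rfl, apply_ite (algebraMap F K),
        Finset.sum_ite_eq']
    have himg : ∀ j : Fin 5, ∃ l : Fin 11, ε (σ (z ^ (j : ℕ)) * a) = B *ᵥ (ι ∘ fApp xMat (fUnit j)) ∧
        (σ (z ^ (j : ℕ))) = z ^ (l : ℕ) := fun j => by
      have h11' : σ (z ^ (j : ℕ)) ^ 11 = 1 := by
        have hgi : ∀ A C : Matrix (Fin 5) (Fin 5) F, A * (t : Matrix (Fin 5) (Fin 5) F) = C * t → A = C := fun A C h => by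
          have := congrArg (· * ((t⁻¹ : GL (Fin 5) F) : Matrix (Fin 5) (Fin 5) F)) h
          simpa [mul_assoc, ← Units.val_mul] using this
        have hmul : ∀ x y, σ (x * y) = σ x * σ y := fun x y => hρi (hgi _ _ (by
          rw [← hσ, map_mul, map_mul, ← mul_assoc, hσ, mul_assoc, hσ, mul_assoc]))
        have hone' : σ 1 = 1 := hρi (hgi _ _ (by rw [← hσ, map_one, mul_one, one_mul]))
        let σm : K →* K := { toFun := σ, map_one' := hone', map_mul' := hmul }
        have h1 := map_pow σm (z ^ (j : ℕ)) 11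
        rw [← pow_mul, mul_comm, pow_mul, hz11, one_pow, map_one] at h1
        exact h1.symm
      obtain ⟨l, hl, hlz⟩ := hzprim.eq_pow_of_pow_eq_one h11'
      refine ⟨⟨l, hl⟩, ?_, hlz.symm⟩
      rw [← htv, hv]
      show ρ (σ (z ^ (j : ℕ)) * a) *ᵥ v0 = (t : Matrix (Fin 5) (Fin 5) F) *ᵥ (ρ (z ^ (j : ℕ)) *ᵥ v0)
      rw [Matrix.mulVec_mulVec, hσ, ← Matrix.mulVec_mulVec, ← ha, map_mul, ← Matrix.mulVec_mulVec]
      rfl
    obtain ⟨l0, h0, hl0⟩ := himg 0
    obtain ⟨l1, h1, hl1⟩ := himg 1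
    have hx0 : fApp xMat (fUnit 0) = cPow 0 := by decide +kernel
    rw [hx0, hBv, hpow, hl0] at h0
    rw [hl1] at h1
    have ha' : a = z ^ ((11 - (l0 : ℕ)) % 11) := by
      have h2 := hεinj h0
      rw [pow_zero] at h2
      rw [← hmod]
      calc a = z ^ (l0 : ℕ) * a * z ^ (11 - (l0 : ℕ)) := by
            rw [mul_right_comm, ← pow_add, show (l0 : ℕ) + (11 - (l0 : ℕ)) = 11 by omega, hz11, one_mul]
        _ = _ := by rw [h2, one_mul]
    rw [ha', ← pow_add, hmod, ← hpow, ← hBv] at h1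
    exact xMat_not_normalising.2 ⟨_, Nat.mod_lt _ (by norm_num)⟩ (hBinj _ _ h1)
  rcases hmax.2 _ hle inf_le_right with h | h
  · refine htnot (h ▸ (⟨?_, htU, htdet⟩ : t ∈ St ⊓ suGL 5 F 2))
    rintro _ ⟨p, hp, rfl⟩
    exact ⟨_, xMat_mem p hp, htv p⟩
  · set u : Fin 5 → F := B *ᵥ (ι ∘ ![0, 0, 0, 1, 3]) with hu
    have hH : ∀ x y : Fin 5 → Fin 4, ⟪B *ᵥ (ι ∘ x), B *ᵥ (ι ∘ y)⟫ =
        ι (fAdd (fAdd (fAdd (fAdd (fMul (x 0) (fApp gMat (fun l => fBar (y l)) 0))
          (fMul (x 1) (fApp gMat (fun l => fBar (y l)) 1))) (fMul (x 2) (fApp gMat (fun l => fBar (y l)) 2)))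
          (fMul (x 3) (fApp gMat (fun l => fBar (y l)) 3))) (fMul (x 4) (fApp gMat (fun l => fBar (y l)) 4))) := by
      intro x y
      have e : ∀ v : Fin 5 → Fin 4, B *ᵥ (ι ∘ v) = ∑ i, ι (v i) • ε (z ^ (i : ℕ)) := fun v => by
        funext w
        simp [Matrix.mulVec, dotProduct, hB, mul_comm]
      have hG : ∀ a b : Fin 5, ⟪ε (z ^ (a : ℕ)), ε (z ^ (b : ℕ))⟫ = ι (gMat a b) := fun a b =>
        congrFun (congrFun hgram a) b
      rw [e, e]
      simp only [Fin.sum_univ_five, Unitary.H_add_left, Unitary.H_add_right hF, Unitary.H_smul_left,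
        Unitary.H_smul_right, hG, fApp, hιadd, hιmul, hιbar]
      ring
    have huu : ⟪u, u⟫ = 0 := by
      rw [hu, hH, show (0 : F) = ι 0 from rfl]
      congr 1
    have hc1 : (1 : F) + 1 ^ 2 = 0 := by rw [one_pow]; exact h11
    have hs : suEmb (Unitary.tvu hF huu hc1) ∈ St ⊓ suGL 5 F 2 := by rw [h]; exact suEmb_mem _
    obtain ⟨p, hp, hpe⟩ := hs.1 _ ⟨_, sample_point.1, rfl⟩
    rw [suEmb_coe, Unitary.tvu_mulVec, one_mul, hu, hH] at hpe
    have hval : ∀ c, B *ᵥ (ι ∘ ![0, 1, 0, 2, 1]) + ι c • (B *ᵥ (ι ∘ ![0, 0, 0, 1, 3])) =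
        B *ᵥ (ι ∘ fun i => fAdd (![0, 1, 0, 2, 1] i) (fMul c (![0, 0, 0, 1, 3] i))) := fun c => by
      rw [← Matrix.mulVec_smul, ← Matrix.mulVec_add]
      congr 1
      funext i
      simp [hιadd, hιmul]
    rw [hval] at hpe
    rw [← hBinj _ _ hpe] at hp
    exact sample_point.2 (by convert hp using 1; decide +kernel)

include hF in
/-- The normaliser of a quintic field is not maximal in SU_5(2). -/
theorem not_maximal_field_five {K : Subalgebra F (Matrix (Fin 5) (Fin 5) F)} (hK : IsFieldSubalgebra 5 K)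
    (hadj : IsAdjointClosedFor (Cfsg.hermForm 5 F 2) K) :
    ¬ IsMaximalIn (suGL 5 F 2) (subalgebraNormalizer K ⊓ suGL 5 F 2) := by
  classical
  have hf : IsField K :=
    ⟨⟨0, 1, fun h => zero_ne_one (congrArg Subtype.val h)⟩, fun x y => Subtype.ext (hK.comm x x.2 y y.2),
      fun {x} hx => by
        obtain ⟨y, hy, hxy⟩ := hK.inv x x.2 fun h => hx (Subtype.ext h)
        exact ⟨⟨y, hy⟩, Subtype.ext hxy⟩⟩
  letI : Field K := hf.toField
  choose τ hτK hτ using fun k : K => hadj k k.2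
  refine not_maximal_field_five_aux hF (K := K) hK.finrank_eq K.val
    (fun k => ⟨τ k, hτK k⟩) (fun k u v => hτ k u v) inf_le_right fun g hg k => ?_
  refine ⟨⟨_, (hg.1 k).1 k.2⟩, ?_⟩
  show _ = (g : Matrix (Fin 5) (Fin 5) F) * (k : Matrix (Fin 5) (Fin 5) F) *
    ((g⁻¹ : GL (Fin 5) F) : Matrix (Fin 5) (Fin 5) F) * (g : Matrix (Fin 5) (Fin 5) F)
  rw [mul_assoc _ ((g⁻¹ : GL (Fin 5) F) : Matrix (Fin 5) (Fin 5) F), Units.inv_mul, mul_one]
  rfl

end Cfsg.Agent.Aschbacher
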