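/-
SU_6(2): the stabiliser of an orthonormal frame is not maximal.
-/
import Mathlib
import Cfsg.Agent.Aschbacher.Un.Lists.Main
import Cfsg.Agent.Lib.Classical.UnitaryTwo

set_option autoImplicit false
set_option linter.style.haveILetI false

namespace Cfsg.Agent.Aschbacher

open Matrix
open Cfsg.Geo
open Cfsg.Agent.Classical

namespace MonomialSix

/-- Sum in the field of four elements, on the codes `0, 1, 2, 3`. -/
def gAdd (a b : Fin 4) : Fin 4 := ![![0, 1, 2, 3], ![1, 0, 3, 2], ![2, 3, 0, 1], ![3, 2, 1, 0]] a b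

/-- Product in the field of four elements, on the codes `0, 1, 2, 3`. -/
def gMul (a b : Fin 4) : Fin 4 := ![![0, 0, 0, 0], ![0, 1, 2, 3], ![0, 2, 3, 1], ![0, 3, 1, 2]] a b

/-- Sum of six codes. -/
def gSum (k : Fin 6 → Fin 4) : Fin 4 :=
  gAdd (gAdd (gAdd (gAdd (gAdd (k 0) (k 1)) (k 2)) (k 3)) (k 4)) (k 5)

/-- The points: two non-zero coordinates, or six of product one. -/
def Tcode (k : Fin 6 → Fin 4) : Prop :=
  (Finset.univ.filter fun i => k i ≠ 0).card = 2 ∨
    ((∀ i, k i ≠ 0) ∧ gMul (gMul (gMul (gMul (gMul (k 0) (k 1)) (k 2)) (k 3)) (k 4)) (k 5) = 1)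

instance : DecidablePred Tcode := fun k => by unfold Tcode; infer_instance

theorem tcode_transvection : ∀ a b c d e f : Fin 4, Tcode ![a, b, c, d, e, f] →
    Tcode (fun i => gAdd (![a, b, c, d, e, f] i) (gSum ![a, b, c, d, e, f])) := by decide +kernel

end MonomialSix

open MonomialSix

variable {F : Type*} [Field F] [Fintype F] (hF : Fintype.card F = 2 ^ 2)

local notation "⟪" u ", " v "⟫" => Cfsg.hermForm 6 F 2 u v

include hF in
/-- The stabiliser of an orthonormal frame is not maximal in SU_6(2). -/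
theorem not_maximal_monomial_six {D : Fin 6 → Submodule F (Fin 6 → F)}
    (hD : IsNondegenerateMDecomposition (Cfsg.hermForm 6 F 2) 1 D) :
    ¬ IsMaximalIn (suGL 6 F 2) (decompositionStabilizer D ⊓ suGL 6 F 2) := by
  classical
  intro hmax
  have h11 : (1 : F) + 1 = 0 := two_eq_zero_of_four (q := 2) rfl hF
  have hneg : (-1 : F) = 1 := by linear_combination -h11
  -- an orthonormal frame
  have hframe : ∀ i, ∃ w ∈ D i, ⟪w, w⟫ = 1 := by
    intro i
    obtain ⟨v, hv, hv0⟩ := Submodule.exists_mem_ne_zero_of_ne_bot (p := D i) (fun h => by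
      have := hD.decomp.finrank_eq i; rw [h, finrank_bot] at this; omega)
    obtain ⟨x, hx, hxv⟩ := (hD.nondegenerate i v hv hv0).1
    have hspan : D i = Submodule.span F {v} := by
      refine (Submodule.eq_of_le_of_finrank_le ((Submodule.span_singleton_le_iff_mem _ _).2 hv) ?_).symm
      rw [hD.decomp.finrank_eq, finrank_span_singleton hv0]
    rw [hspan, Submodule.mem_span_singleton] at hx
    obtain ⟨a, rfl⟩ := hx
    rw [Unitary.H_smul_left] at hxv
    have hvv : ⟪v, v⟫ ≠ 0 := right_ne_zero_of_mul hxv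
    obtain ⟨y, hy⟩ := UnitaryCount.exists_norm_eq hF (μ := ⟪v, v⟫⁻¹) (inv_ne_zero hvv)
      (by rw [inv_pow, Unitary.H_conj hF])
    refine ⟨y • v, (D i).smul_mem _ hv, ?_⟩
    rw [UnitaryCount.hermForm_smul_smul, hy, inv_mul_cancel₀ hvv]
  choose w hwD hww using hframe
  have hw : ∀ i j, ⟪w i, w j⟫ = if i = j then 1 else 0 := fun i j => by
    by_cases h : i = j
    · subst h; simp [hww]
    · rw [if_neg h]; exact hD.orthogonal i j h _ (hwD i) _ (hwD j)
  have hspan : ∀ i, D i = Submodule.span F {w i} := fun i => by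
    have hw0 : w i ≠ 0 := fun h => by have := hww i; rw [h, Unitary.H_zero_left] at this; exact zero_ne_one this
    refine (Submodule.eq_of_le_of_finrank_le ((Submodule.span_singleton_le_iff_mem _ _).2 (hwD i)) ?_).symm
    rw [hD.decomp.finrank_eq, finrank_span_singleton hw0]
  set B : Matrix (Fin 6) (Fin 6) F := Matrix.of fun x i => w i x with hB
  have hBB : Bᵀ * B.map (qAut hF) = 1 := by
    ext i j
    rw [Matrix.one_apply, ← hw i j]
    rfl
  have hBdet : B.det ≠ 0 := fun h => by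
    have h1 := congrArg Matrix.det hBB
    rw [Matrix.det_mul, Matrix.det_transpose, h, zero_mul, Matrix.det_one] at h1
    exact zero_ne_one h1
  have hBi : Function.Injective (fun z : Fin 6 → F => B *ᵥ z) := by
    intro y z h
    by_contra hne
    refine hBdet (Matrix.exists_mulVec_eq_zero_iff.1 ⟨y - z, sub_ne_zero.2 hne, ?_⟩)
    rw [Matrix.mulVec_sub]; exact sub_eq_zero.2 h
  have hBH : ∀ y z, ⟪B *ᵥ y, B *ᵥ z⟫ = ∑ i, y i * z i ^ 2 := by
    intro y z
    have e : ∀ u : Fin 6 → F, B *ᵥ u = ∑ i, u i • w i := fun u => by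
      funext x
      simp only [Matrix.mulVec, dotProduct, hB, Matrix.of_apply, Finset.sum_apply, Pi.smul_apply, smul_eq_mul]
      exact Finset.sum_congr rfl fun i _ => mul_comm _ _
    rw [e, e, Unitary.H_sum_left]
    refine Finset.sum_congr rfl fun i _ => ?_
    rw [Unitary.H_smul_left, Unitary.H_sum_right hF, Finset.sum_eq_single i]
    · rw [Unitary.H_smul_right, hww, mul_one]
    · intro j _ hj
      rw [Unitary.H_smul_right, hw, if_neg (Ne.symm hj), mul_zero]
    · simp
  -- the points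
  let T : Set (Fin 6 → F) := {v | ∃ x : Fin 6 → F, B *ᵥ x = v ∧
    ((Finset.univ.filter fun i => x i ≠ 0).card = 2 ∨ ((∀ i, x i ≠ 0) ∧ ∏ i, x i = 1))}
  let St : Subgroup (GL (Fin 6) F) :=
    { carrier := {g | ∀ v, v ∈ T ↔ (g : Matrix (Fin 6) (Fin 6) F) *ᵥ v ∈ T}
      one_mem' := fun v => by rw [Units.val_one, Matrix.one_mulVec]
      mul_mem' := fun {a b} ha hb v => by
        rw [hb v, ha, Units.val_mul, Matrix.mulVec_mulVec]
      inv_mem' := fun {a} ha v => by
        rw [ha (((a⁻¹ : GL (Fin 6) F) : Matrix (Fin 6) (Fin 6) F) *ᵥ v), Matrix.mulVec_mulVec,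
          ← Units.val_mul, mul_inv_cancel, Units.val_one, Matrix.one_mulVec] }
  have hle : decompositionStabilizer D ⊓ suGL 6 F 2 ≤ St ⊓ suGL 6 F 2 := by
    rintro g ⟨⟨σ, hσ⟩, hgU, hgdet⟩
    refine ⟨?_, hgU, hgdet⟩
    have hc : ∀ i, ∃ c : F, (g : Matrix (Fin 6) (Fin 6) F) *ᵥ w i = c • w (σ i) := fun i => by
      have h1 : (g : Matrix (Fin 6) (Fin 6) F) *ᵥ w i ∈ D (σ i) := by
        rw [← hσ i]; exact Submodule.mem_map_of_mem (hwD i)
      rw [hspan, Submodule.mem_span_singleton] at h1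
      obtain ⟨c, hc⟩ := h1
      exact ⟨c, hc.symm⟩
    choose c hc using hc
    have hgB : (g : Matrix (Fin 6) (Fin 6) F) * B =
        B * ((σ⁻¹ : Equiv.Perm (Fin 6)).permMatrix F * Matrix.diagonal c) := by
      ext x j
      rw [← mul_assoc, Matrix.mul_diagonal,
        show ((g : Matrix (Fin 6) (Fin 6) F) * B) x j = ((g : Matrix (Fin 6) (Fin 6) F) *ᵥ w j) x from rfl,
        hc, Matrix.mul_apply, Finset.sum_eq_single (σ j)]
      · simp [hB, Equiv.Perm.permMatrix, PEquiv.toMatrix_apply, mul_comm]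
      · intro k _ hk
        have h' : σ.symm k ≠ j := fun hh => hk (by rw [← hh, Equiv.apply_symm_apply])
        simp [Equiv.Perm.permMatrix, PEquiv.toMatrix_apply, h']
      · simp
    have hprod : ∏ i, c i = 1 := by
      have h1 := congrArg Matrix.det hgB
      rw [Matrix.det_mul, Matrix.det_mul, Matrix.det_mul, Matrix.det_permutation, Matrix.det_diagonal,
        mem_specialLinear.1 hgdet, one_mul] at h1
      have h2 := (mul_eq_left₀ hBdet).1 h1.symm
      rcases Int.units_eq_one_or (Equiv.Perm.sign σ⁻¹) with hs | hs <;> rw [hs] at h2 <;>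
        push_cast at h2
      · rwa [one_mul] at h2
      · rwa [hneg, one_mul] at h2
    have hc0 : ∀ i, c i ≠ 0 := fun i h0 => by
      rw [Finset.prod_eq_zero (Finset.mem_univ i) h0] at hprod
      exact zero_ne_one hprod
    have himg : ∀ x : Fin 6 → F, (g : Matrix (Fin 6) (Fin 6) F) *ᵥ (B *ᵥ x) =
        B *ᵥ fun i => c (σ.symm i) * x (σ.symm i) := by
      intro x
      rw [Matrix.mulVec_mulVec, hgB, ← Matrix.mulVec_mulVec]
      congr 1
      funext i
      rw [← Matrix.mulVec_mulVec, Matrix.mulVec, dotProduct, Finset.sum_eq_single (σ.symm i)]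
      · simp [Equiv.Perm.permMatrix, PEquiv.toMatrix_apply, Matrix.mulVec_diagonal]
      · intro k _ hk
        simp [Equiv.Perm.permMatrix, PEquiv.toMatrix_apply, Ne.symm hk]
      · simp
    have hcard : ∀ x : Fin 6 → F, (Finset.univ.filter fun i => c (σ.symm i) * x (σ.symm i) ≠ 0).card =
        (Finset.univ.filter fun i => x i ≠ 0).card := fun x =>
      Finset.card_equiv σ.symm fun i => by simp [hc0]
    have hall : ∀ x : Fin 6 → F, (∀ i, c (σ.symm i) * x (σ.symm i) ≠ 0) ↔ ∀ i, x i ≠ 0 := fun x =>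
      ⟨fun h i => by simpa [hc0] using h (σ i), fun h i => mul_ne_zero (hc0 _) (h _)⟩
    have hpr : ∀ x : Fin 6 → F, ∏ i, c (σ.symm i) * x (σ.symm i) = ∏ i, x i := fun x => by
      rw [Equiv.prod_comp σ.symm (fun i => c i * x i), Finset.prod_mul_distrib, hprod, one_mul]
    intro v
    constructor
    · rintro ⟨x, rfl, hx⟩
      exact ⟨_, (himg x).symm, by rw [hcard, hall, hpr]; exact hx⟩
    · rintro ⟨y, hy, hy'⟩
      refine ⟨fun i => y (σ i) / c i, ?_, ?_⟩
      · have h1 := himg fun i => y (σ i) / c i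
        rw [show (fun i => c (σ.symm i) * (y (σ (σ.symm i)) / c (σ.symm i))) = y from funext fun i => by
          rw [Equiv.apply_symm_apply, mul_div_cancel₀ _ (hc0 _)], hy] at h1
        have h2 := congrArg (((g⁻¹ : GL (Fin 6) F) : Matrix (Fin 6) (Fin 6) F) *ᵥ ·) h1
        simpa [Matrix.mulVec_mulVec, ← Units.val_mul] using h2
      · have e : (fun i => c (σ.symm i) * (y (σ (σ.symm i)) / c (σ.symm i))) = y := funext fun i => by
          rw [Equiv.apply_symm_apply, mul_div_cancel₀ _ (hc0 _)]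
        rw [← hcard, ← hall, ← hpr]
        show (Finset.univ.filter fun i => (fun i => c (σ.symm i) * (y (σ (σ.symm i)) / c (σ.symm i))) i ≠ 0).card = 2 ∨
          (∀ i, (fun i => c (σ.symm i) * (y (σ (σ.symm i)) / c (σ.symm i))) i ≠ 0) ∧
            ∏ i, (fun i => c (σ.symm i) * (y (σ (σ.symm i)) / c (σ.symm i))) i = 1
        rw [e]; exact hy'
  -- codes
  obtain ⟨θ, hθ⟩ := exists_qAut_ne hF
  rw [qAut_apply] at hθ
  have hθ0 : θ ≠ 0 := fun h => hθ (by rw [h, zero_pow two_ne_zero])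
  have hθ2 : θ ^ 2 = θ + 1 := by
    have h3 := pow_three_eq_one_of_four (q := 2) rfl hF hθ0
    have h5 : (θ - 1) * (θ ^ 2 + θ + 1) = 0 := by linear_combination h3
    have h6 := (mul_eq_zero.1 h5).resolve_left (fun h => hθ (by rw [sub_eq_zero.1 h, one_pow]))
    linear_combination h6 - (θ + 1) * h11
  have hθ1 : θ + 1 ≠ 0 := by
    rw [← hθ2]; exact pow_ne_zero _ hθ0
  let ι : Fin 4 → F := ![0, 1, θ, θ + 1]
  have hιadd : ∀ a b, ι (gAdd a b) = ι a + ι b := by
    intro a b
    fin_cases a <;> fin_cases b <;> simp [ι, gAdd] <;>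
      first
        | ring1
        | linear_combination h11
        | linear_combination (-1 : F) * h11
        | linear_combination θ * h11
        | linear_combination (-θ) * h11
        | linear_combination (1 + θ) * h11
        | linear_combination (-(1 + θ)) * h11
  have hιmul : ∀ a b, ι (gMul a b) = ι a * ι b := by
    intro a b
    fin_cases a <;> fin_cases b <;> simp [ι, gMul] <;>
      first
        | linear_combination hθ2
        | linear_combination (-1 : F) * hθ2
        | linear_combination hθ2 + (1 + θ) * h11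
        | linear_combination (-1 : F) * hθ2 - (1 + θ) * h11
        | linear_combination (-1 : F) * hθ2 - θ * h11
        | linear_combination hθ2 + θ * h11
  have hιinj : Function.Injective ι := by
    intro a b h
    fin_cases a <;> fin_cases b <;> simp [ι] at h ⊢ <;>
      first
        | exact one_ne_zero h
        | exact one_ne_zero h.symm
        | exact hθ0 h
        | exact hθ0 h.symm
        | exact hθ1 h
        | exact hθ1 h.symm
        | exact hθ (by rw [h, one_pow])
        | exact hθ (by rw [← h, one_pow])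
  have hιsurj : Function.Surjective ι :=
    ((Fintype.bijective_iff_injective_and_card ι).2 ⟨hιinj, by rw [hF, Fintype.card_fin]; rfl⟩).2
  have hιT : ∀ k : Fin 6 → Fin 4, Tcode k ↔
      ((Finset.univ.filter fun i => ι (k i) ≠ 0).card = 2 ∨ ((∀ i, ι (k i) ≠ 0) ∧ ∏ i, ι (k i) = 1)) := fun k => by
    have h0 : ∀ a, ι a = 0 ↔ a = 0 := fun a => ⟨fun h => hιinj (h.trans rfl), fun h => by subst h; rfl⟩
    simp only [Tcode, Ne, h0, Fin.prod_univ_six, ← hιmul]
    rw [show (1 : F) = ι 1 from rfl, hιinj.eq_iff]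
  -- the transvection at the all-one vector
  have hc1 : (1 : F) + 1 ^ 2 = 0 := by rw [one_pow]; exact h11
  have huu : ⟪B *ᵥ (fun _ => (1 : F)), B *ᵥ (fun _ => (1 : F))⟫ = 0 := by
    rw [hBH, Fin.sum_univ_six]
    linear_combination (3 : F) * h11
  set t : GL (Fin 6) F := suEmb (Unitary.tvu hF huu hc1) with ht
  have htB : ∀ x : Fin 6 → F, (t : Matrix (Fin 6) (Fin 6) F) *ᵥ (B *ᵥ x) = B *ᵥ fun i => x i + ∑ l, x l := by
    intro x
    rw [ht, suEmb_coe, Unitary.tvu_mulVec, hBH, one_mul]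
    simp only [one_pow, mul_one]
    rw [← Matrix.mulVec_smul, ← Matrix.mulVec_add]
    congr 1
    funext i; simp
  have hinvo : ∀ v, (t : Matrix (Fin 6) (Fin 6) F) *ᵥ ((t : Matrix (Fin 6) (Fin 6) F) *ᵥ v) = v := by
    intro v
    rw [ht, suEmb_coe, Unitary.tvu_mulVec, Unitary.tvu_mulVec, Unitary.H_add_left, Unitary.H_smul_left, huu,
      mul_zero, add_zero, one_mul, add_assoc, ← add_smul]
    rw [show ⟪v, B *ᵥ fun _ => (1 : F)⟫ + ⟪v, B *ᵥ fun _ => (1 : F)⟫ = 0 by
      linear_combination (⟪v, B *ᵥ fun _ => (1 : F)⟫) * h11, zero_smul, add_zero]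
  have hone : ∀ v ∈ T, (t : Matrix (Fin 6) (Fin 6) F) *ᵥ v ∈ T := by
    rintro _ ⟨x, rfl, hx⟩
    choose k hk using fun i => hιsurj (x i)
    refine ⟨_, (htB x).symm, ?_⟩
    have hsum : ∑ l, x l = ι (gSum k) := by
      simp only [gSum, hιadd, hk, Fin.sum_univ_six]
    have hx' : x = fun i => ι (k i) := funext fun i => (hk i).symm
    have hk' : k = ![k 0, k 1, k 2, k 3, k 4, k 5] := by funext i; fin_cases i <;> rfl
    have h1 : Tcode k := (hιT k).2 (by simp only [hk]; exact hx)
    have h2 := tcode_transvection (k 0) (k 1) (k 2) (k 3) (k 4) (k 5) (hk' ▸ h1)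
    rw [← hk'] at h2
    have h3 := (hιT _).1 h2
    simp only [hιadd, hk, ← hsum] at h3
    exact h3
  have hnot : t ∉ decompositionStabilizer D := by
    rintro ⟨σ, hσ⟩
    have h1 : (t : Matrix (Fin 6) (Fin 6) F) *ᵥ w 0 ∈ D (σ 0) := by
      rw [← hσ 0]; exact Submodule.mem_map_of_mem (hwD 0)
    have e : ∀ i, w i = B *ᵥ Pi.single i 1 := fun i => by
      rw [Matrix.mulVec_single_one]; rfl
    rw [hspan, Submodule.mem_span_singleton] at h1
    obtain ⟨c, hc⟩ := h1
    rw [e 0, htB, e (σ 0), ← Matrix.mulVec_smul] at hc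
    have h2 := hBi hc
    obtain ⟨i, hi1, hi2⟩ : ∃ i : Fin 6, i ≠ σ 0 ∧ i ≠ 0 := by
      generalize σ 0 = j; revert j; decide
    have h3 := congrFun h2 i
    simp [hi1, hi2] at h3
  -- the stabiliser of the points is everything
  rcases hmax.2 (St ⊓ suGL 6 F 2) hle inf_le_right with h | h
  · have ht' : t ∈ St ⊓ suGL 6 F 2 := ⟨fun v => ⟨hone v, fun hv => hinvo v ▸ hone _ hv⟩, suEmb_mem _⟩
    rw [h] at ht'
    exact hnot ht'.1
  · have huu' : ⟪B *ᵥ ![(1 : F), 1, 1, 1, 0, 0], B *ᵥ ![(1 : F), 1, 1, 1, 0, 0]⟫ = 0 := by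
      rw [hBH, Fin.sum_univ_six]
      simp
      linear_combination (2 : F) * h11
    have hs : suEmb (Unitary.tvu hF huu' hc1) ∈ St ⊓ suGL 6 F 2 := by
      rw [h]; exact suEmb_mem _
    have hmem : B *ᵥ ![(1 : F), θ, 0, 0, 0, 0] ∈ T := by
      refine ⟨_, rfl, Or.inl ?_⟩
      have hset : (Finset.univ.filter fun i => (![(1 : F), θ, 0, 0, 0, 0] : Fin 6 → F) i ≠ 0) = {0, 1} := by
        ext i; fin_cases i <;> simp [hθ0]
      rw [hset]; rfl
    have hmem2 := (hs.1 _).1 hmem
    obtain ⟨y, hy, hy'⟩ := hmem2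
    rw [suEmb_coe, Unitary.tvu_mulVec, hBH, one_mul, Fin.sum_univ_six, ← Matrix.mulVec_smul,
      ← Matrix.mulVec_add] at hy
    have hy2 := hBi hy
    subst hy2
    have e1 : (1 : F) + (1 + θ) = θ := by linear_combination h11
    have e2 : θ + (1 + θ) = 1 := by linear_combination θ * h11
    rcases hy' with h' | ⟨h', -⟩
    · have hset : (Finset.univ.filter fun i : Fin 6 => (i : ℕ) < 4) ⊆
          Finset.univ.filter fun i => (![(1 : F), θ, 0, 0, 0, 0] + ((1 : F) * (![(1 : F), 1, 1, 1, 0, 0] 0) ^ 2 +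
            θ * (![(1 : F), 1, 1, 1, 0, 0] 1) ^ 2) • ![(1 : F), 1, 1, 1, 0, 0]) i ≠ 0 := by
        intro i hi
        simp only [Finset.mem_filter, Finset.mem_univ, true_and] at hi ⊢
        fin_cases i <;> simp_all [add_comm (1 : F) θ]
      have h2 := Finset.card_le_card hset
      rw [show (Finset.univ.filter fun i : Fin 6 => (i : ℕ) < 4).card = 4 by decide] at h2
      simp at h' h2
      omega
    · exact h' 4 (by simp)

end Cfsg.Agent.Aschbacher
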