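/-
SU_4(q), q small: monomial groups and pairs of totally isotropic planes lie in larger members.
-/
import Mathlib
import Cfsg.Agent.Aschbacher.Un.Lists.Main
import Cfsg.Agent.Aschbacher.Lists.Monomial5
import Cfsg.Agent.Lib.Classical.UnitaryTwo

set_option autoImplicit false
set_option linter.style.haveILetI false

namespace Cfsg.Agent.Aschbacher

open Matrix
open Cfsg.Geo
open Cfsg.Agent.Classical

variable {F : Type*} [Field F] [Fintype F] {q : ℕ} (hF : Fintype.card F = q ^ 2)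

local notation "⟪" u ", " v "⟫" => Cfsg.hermForm 4 F q u v

omit [Fintype F] in
lemma pauli_transpose_mul (a e : Fin 4) : (pauli F a e)ᵀ * pauli F a e = 1 := by
  ext y z
  rw [Matrix.mul_apply, Finset.sum_eq_single (xo a y)]
  · simp only [Matrix.transpose_apply, pauli, monMat, Matrix.of_apply, if_pos]
    by_cases h : y = z
    · subst h; simp [chi_sq]
    · have hne : xo a y ≠ xo a z := fun he => h (by
        rw [← xo_self_left a y, he, xo_self_left])
      simp [hne, h]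
  · intro x _ hx
    simp [Matrix.transpose_apply, pauli, monMat, hx]
  · simp

include hF in
lemma pauliGroup_le_sim : pauliGroup F ≤ (hermData 4 hF).sim := by
  rintro y ⟨a, e, c, hy⟩
  have hu : scalarUnit (Fin 4) F c⁻¹ * y ∈ Cfsg.GU 4 F q := by
    have hmat : ((scalarUnit (Fin 4) F c⁻¹ * y : GL (Fin 4) F) : Matrix (Fin 4) (Fin 4) F) = pauli F a e := by
      rw [Units.val_mul, scalarUnit_coe, hy, Matrix.smul_mul, one_mul, smul_smul, Units.val_inv_eq_inv_val,
        inv_mul_cancel₀ c.ne_zero, one_smul]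
    rw [mem_GU_matrix hF, hmat]
    have hfix : (pauli F a e).map (qAut hF) = pauli F a e := by
      ext x z
      simp only [Matrix.map_apply, pauli, monMat, Matrix.of_apply]
      split_ifs
      · simp [chi]
      · simp
    rw [hfix, pauli_transpose_mul]
  have h1 := mul_mem (hermData_scalars_le_sim hF (scalarUnit_mem (ι := Fin 4) c)) (GU_le_sim hF hu)
  rwa [← mul_assoc, ← map_mul, mul_inv_cancel, map_one, one_mul] at h1

include hF in
/-- For `q = 3` the stabiliser of an orthogonal frame normalises a group of symplectic type. -/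
theorem monomial_le_symplectic_unitary (hq : q = 3) {t : ℕ} {D : Fin t → Submodule F (Fin 4 → F)}
    (hD : IsNondegenerateMDecomposition (Cfsg.hermForm 4 F q) 1 D) :
    ∃ (p : ℕ) (R : Subgroup (GL (Fin 4) F)), p.Prime ∧ q = p ∧ p % 4 = 3 ∧ IsSymplecticTypeGroup 2 R ∧
      ActsAbsolutelyIrreducibly (matrixSet R) ∧ R ≤ similarityGroup (Cfsg.hermForm 4 F q) ∧
      Nat.card R = 64 ∧ Nat.card (Subgroup.center R) = 4 ∧
      IsUnMember 4 F q (subgroupNormalizer R) ∧
      decompositionStabilizer D ⊓ suGL 4 F q ≤ subgroupNormalizer R := by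
  classical
  obtain rfl : t = 4 := by simpa using card_of_decomposition hD.decomp
  have hcardF : Fintype.card F = 9 := by rw [hF, hq]; rfl
  have h3 : CharP F 3 := by
    obtain ⟨k, hp, hk⟩ := FiniteField.card F (ringChar F)
    have h : ringChar F ∣ 3 ^ 2 := by
      rw [show 3 ^ 2 = Fintype.card F from hcardF.symm, hk]; exact dvd_pow_self _ k.pos.ne'
    exact (Nat.prime_dvd_prime_iff_eq hp Nat.prime_three).1 (hp.dvd_of_dvd_pow h) ▸ ringChar.charP F
  have h2 : (2 : F) ≠ 0 := by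
    intro h
    have := (CharP.cast_eq_zero_iff F 3 2).1 (by exact_mod_cast h)
    omega
  obtain ⟨i, hi⟩ : ∃ i : F, i * i = -1 := by
    obtain ⟨r, hr⟩ := (FiniteField.isSquare_neg_one_iff (F := F)).2 (by rw [hcardF]; decide)
    exact ⟨r, hr.symm⟩
  -- an orthonormal frame
  have hframe : ∀ i, ∃ w ∈ D i, ⟪w, w⟫ = 1 := by
    intro i
    obtain ⟨v, hv, hv0⟩ := Submodule.exists_mem_ne_zero_of_ne_bot (p := D i) (fun h => by
      have := hD.decomp.finrank_eq i; rw [h, finrank_bot] at this; omega)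
    obtain ⟨x, hx, hxv⟩ := (hD.nondegenerate i v hv hv0).1
    have hspan : D i = Submodule.span F {v} := by
      refine (Submodule.eq_of_le_of_finrank_le ((Submodule.span_singleton_le_iff_mem _ _).2 hv) ?_).symm
      rw [hD.decomp.finrank_eq, finrank_span_singleton hv0]
    rw [hspan, Submodule.mem_span_singleton] at hx
    obtain ⟨a, rfl⟩ := hx
    rw [Unitary.H_smul_left] at hxv
    have hvv : ⟪v, v⟫ ≠ 0 := right_ne_zero_of_mul hxv
    obtain ⟨y, hy⟩ := UnitaryCount.exists_norm_eq hF (μ := ⟪v, v⟫⁻¹) (inv_ne_zero hvv)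
      (by rw [inv_pow, Unitary.H_conj hF])
    refine ⟨y • v, (D i).smul_mem _ hv, ?_⟩
    rw [UnitaryCount.hermForm_smul_smul, hy, inv_mul_cancel₀ hvv]
  choose w hwD hww using hframe
  have hw : ∀ i j, ⟪w i, w j⟫ = if i = j then 1 else 0 := fun i j => by
    by_cases h : i = j
    · subst h; simp [hww]
    · rw [if_neg h]; exact hD.orthogonal i j h _ (hwD i) _ (hwD j)
  have hspan : ∀ i, D i = Submodule.span F {w i} := fun i => by
    have hw0 : w i ≠ 0 := fun h => by have := hww i; rw [h, Unitary.H_zero_left] at this; exact zero_ne_one this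
    refine (Submodule.eq_of_le_of_finrank_le ((Submodule.span_singleton_le_iff_mem _ _).2 (hwD i)) ?_).symm
    rw [hD.decomp.finrank_eq, finrank_span_singleton hw0]
  set B : Matrix (Fin 4) (Fin 4) F := Matrix.of fun x i => w i x with hB
  have hBB : Bᵀ * B.map (qAut hF) = 1 := by
    ext i j
    rw [Matrix.one_apply, ← hw i j]
    rfl
  have hBdet : B.det ≠ 0 := fun h => by
    have h1 := congrArg Matrix.det hBB
    rw [Matrix.det_mul, Matrix.det_transpose, h, zero_mul, Matrix.det_one] at h1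
    exact zero_ne_one h1
  set Bu : GL (Fin 4) F := Matrix.GeneralLinearGroup.mkOfDetNeZero B hBdet with hBu
  have hBuGU : Bu ∈ Cfsg.GU 4 F q := (mem_GU_matrix hF).2 hBB
  obtain ⟨G, R, hR, hRN, hcommR, hnormR⟩ := exists_symplectic_conj_pauli Bu h2 hi
  have hsim : R ≤ similarityGroup (Cfsg.hermForm 4 F q) := fun x hx => by
    obtain ⟨y, hy, rfl⟩ := hRN x hx
    rw [← sim_eq hF]
    exact mul_mem (mul_mem (GU_le_sim hF hBuGU) (pauliGroup_le_sim hF hy)) (inv_mem (GU_le_sim hF hBuGU))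
  have habs := absIrred_of_adjoin_eq_top hR.adjoin_top
  obtain ⟨m, hm, hnm, hcardR⟩ := hR.exists_m
  obtain rfl : m = 2 := by
    rw [Fintype.card_fin, show 4 = 2 ^ 2 from rfl] at hnm
    exact (Nat.pow_right_injective le_rfl hnm).symm
  have hz4 : Nat.card (Subgroup.center R) = 4 := by
    rw [hR.card_center, Nat.card_units, Nat.card_eq_fintype_card, hcardF]
    decide
  have hcard64 : Nat.card R = 64 := by rw [hcardR, hz4]; rfl
  have hmin : IsMinimalFieldFor (Nat.card (Subgroup.center R)) 3 2 F :=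
    ⟨Nat.prime_three, h3, by rw [hcardF]; rfl, by rw [hz4]; decide, fun d h0 h1 => by
      obtain rfl : d = 1 := by omega
      rw [hz4]; decide⟩
  refine ⟨3, R, Nat.prime_three, hq, rfl, hR.symplecticType, habs, hsim, hcard64, hz4, ?_, ?_⟩
  · exact Or.inr (Or.inr (Or.inr (Or.inr (Or.inr (Or.inr (Or.inr (Or.inl
      ⟨2, R, 3, 2, 2, hR.symplecticType, habs, hsim, by decide, hmin,
        Or.inr ⟨rfl, rfl, hz4, by rw [hcard64]; rfl⟩, by norm_num, hcommR, rfl⟩)))))))
  rintro g ⟨⟨σ, hσ⟩, hgU, hgdet⟩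
  have hc : ∀ i, ∃ c : F, (g : Matrix (Fin 4) (Fin 4) F) *ᵥ w i = c • w (σ i) := fun i => by
    have h1 : (g : Matrix (Fin 4) (Fin 4) F) *ᵥ w i ∈ D (σ i) := by
      rw [← hσ i]; exact Submodule.mem_map_of_mem (hwD i)
    rw [hspan, Submodule.mem_span_singleton] at h1
    obtain ⟨c, hc⟩ := h1
    exact ⟨c, hc.symm⟩
  choose c hc using hc
  have hc4 : ∀ i, c i * c i * (c i * c i) = 1 := by
    intro i
    have h1 := (mem_GU hF).1 hgU (w i) (w i)
    rw [hermData_form, hc, UnitaryCount.hermForm_smul_smul, hww, hww, mul_one, hq] at h1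
    linear_combination h1
  have hc0 : ∀ i, c i ≠ 0 := fun i h => by have := hc4 i; simp [h] at this
  set g0 := Bu⁻¹ * g * Bu with hg0
  have hgB : (g : Matrix (Fin 4) (Fin 4) F) * B = B * monMat σ c := by
    ext x j
    have h1 := congrFun (hc j) x
    show _ = ∑ k, B x k * monMat σ c k j
    rw [show ((g : Matrix (Fin 4) (Fin 4) F) * B) x j = ((g : Matrix (Fin 4) (Fin 4) F) *ᵥ w j) x from rfl,
      h1, Finset.sum_eq_single (σ j)]
    · simp [monMat, hB, mul_comm]
    · intro k _ hk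
      simp [monMat, hk]
    · simp
  have hg0m : (g0 : Matrix (Fin 4) (Fin 4) F) = monMat σ c := by
    rw [hg0, Units.val_mul, Units.val_mul, mul_assoc,
      show ((Bu : GL (Fin 4) F) : Matrix (Fin 4) (Fin 4) F) = B from rfl, hgB, ← mul_assoc,
      show B = ((Bu : GL (Fin 4) F) : Matrix (Fin 4) (Fin 4) F) from rfl, Units.inv_mul, one_mul]
  have hdet : (monMat σ c).det = 1 := by
    rw [← hg0m, hg0, Units.val_mul, Units.val_mul, Matrix.det_units_conj']
    exact mem_specialLinear.1 hgdet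
  have hprod : (∏ y, c y) * ∏ y, c y = 1 := by
    have h1 : monMat σ c = (σ⁻¹ : Equiv.Perm (Fin 4)).permMatrix F * Matrix.diagonal c := by
      ext x y
      rw [Matrix.mul_diagonal]
      by_cases h : x = σ y
      · subst h; simp [monMat, Equiv.Perm.permMatrix, PEquiv.toMatrix_apply]
      · have h' : σ.symm x ≠ y := fun hh => h (by rw [← hh, Equiv.apply_symm_apply])
        simp [monMat, Equiv.Perm.permMatrix, PEquiv.toMatrix_apply, h, h']
    rw [h1, Matrix.det_mul, Matrix.det_permutation, Matrix.det_diagonal] at hdet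
    rcases Int.units_eq_one_or (Equiv.Perm.sign σ⁻¹) with hs | hs <;> rw [hs] at hdet <;>
      push_cast at hdet
    · linear_combination ((∏ y, c y) + 1) * hdet
    · linear_combination ((-1 : F) * (∏ y, c y) + 1) * hdet
  have := hnormR g0 (monomial_mem_normalizer hg0m hc0 hc4 hprod)
  rwa [hg0, show Bu * (Bu⁻¹ * g * Bu) * Bu⁻¹ = g by group] at this

include hF in
/-- For `q ≤ 3` the stabiliser of two totally isotropic planes lies in a subfield group of symplectic type. -/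
theorem pair_le_subfield (hq : q ≤ 3) {D : Fin 2 → Submodule F (Fin 4 → F)} (hD : IsMDecomposition 2 D)
    (hts : ∀ i, IsTotallySingularFor (Cfsg.hermForm 4 F q) (D i)) :
    ∃ (F₀ : Subfield F) (P : GL (Fin 4) F) (ζ : F), Fintype.card F = Nat.card F₀ ^ 2 ∧ ζ ≠ 0 ∧
      ζ + ζ ^ q = 0 ∧ IsFormRationalStructure (Cfsg.hermForm 4 F q) F₀ ζ P ∧
      (∀ u : Fin 4 → F, (∀ i, u i ∈ F₀) →
        ⟪(P : Matrix (Fin 4) (Fin 4) F) *ᵥ u, (P : Matrix (Fin 4) (Fin 4) F) *ᵥ u⟫ = 0) ∧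
      decompositionStabilizer D ⊓ suGL 4 F q ≤ subfieldSubgroup F₀ P := by
  classical
  have hq2 : 2 ≤ q := UnitaryCount.one_lt_q hF
  have hadd : ∀ x y : F, (x + y) ^ q = x ^ q + y ^ q := Forms.HermStd.add_pow_q hF
  have hqq : ∀ x : F, (x ^ q) ^ q = x := Unitary.pow_qq hF
  -- bases with Gram matrix J
  set u := Module.finBasisOfFinrankEq F (D 0) (hD.finrank_eq 0) with hu_def
  set w := Module.finBasisOfFinrankEq F (D 1) (hD.finrank_eq 1) with hw_def
  set U : Fin 2 → (Fin 4 → F) := fun a => (u a : Fin 4 → F) with hU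
  set W : Fin 2 → (Fin 4 → F) := fun a => (w a : Fin 4 → F) with hW
  set Mg : Matrix (Fin 2) (Fin 2) F := Matrix.of fun a b => ⟪U a, W b⟫ with hMg
  have hsplit : ∀ z : Fin 4 → F, ∃ (x y : Fin 2 → F), z = ∑ a, x a • U a + ∑ a, y a • W a := by
    intro z
    have hz : z ∈ D 0 ⊔ D 1 := by
      have h1 : z ∈ iSup D := hD.iSup_eq_top ▸ Submodule.mem_top
      exact (iSup_le (fun i => by fin_cases i; exacts [le_sup_left, le_sup_right]) : iSup D ≤ D 0 ⊔ D 1) h1
    obtain ⟨a, ha, b, hb, rfl⟩ := Submodule.mem_sup.1 hz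
    refine ⟨fun i => u.repr ⟨a, ha⟩ i, fun i => w.repr ⟨b, hb⟩ i, ?_⟩
    congr 1
    · conv_lhs => rw [show a = ((⟨a, ha⟩ : D 0) : Fin 4 → F) from rfl, ← u.sum_repr ⟨a, ha⟩]
      rw [Submodule.coe_sum]; simp only [Submodule.coe_smul]; rfl
    · conv_lhs => rw [show b = ((⟨b, hb⟩ : D 1) : Fin 4 → F) from rfl, ← w.sum_repr ⟨b, hb⟩]
      rw [Submodule.coe_sum]; simp only [Submodule.coe_smul]; rfl
  have hUU : ∀ a b, ⟪U a, U b⟫ = 0 := fun a b => hts 0 _ (u a).2 _ (u b).2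
  have hWW : ∀ a b, ⟪W a, W b⟫ = 0 := fun a b => hts 1 _ (w a).2 _ (w b).2
  have hMdet : IsUnit Mg.det := by
    rw [isUnit_iff_ne_zero]
    intro h0
    obtain ⟨z, hz0, hz⟩ := Matrix.exists_vecMul_eq_zero_iff.2 h0
    set x : Fin 4 → F := ∑ a, z a • U a with hx
    have hxz : x = 0 := by
      refine Unitary.eq_zero_of_H hF fun v => ?_
      obtain ⟨p, r, rfl⟩ := hsplit v
      simp only [hx, Unitary.H_add_right hF, Unitary.H_sum_left, Unitary.H_sum_right hF,
        Unitary.H_smul_left, Unitary.H_smul_right, hUU, mul_zero, Finset.sum_const_zero, zero_add]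
      refine Finset.sum_eq_zero fun a _ => ?_
      have h1 := congrFun hz a
      simp only [Matrix.vecMul, dotProduct, hMg, Matrix.of_apply, Pi.zero_apply] at h1
      rw [h1, mul_zero]
    exact hz0 (funext fun a => (Fintype.linearIndependent_iff.1 u.linearIndependent z
      (Subtype.ext (by rw [Submodule.coe_sum]; simp only [Submodule.coe_smul]; exact hxz))) a)
  set J : Matrix (Fin 2) (Fin 2) F := !![0, 1; -1, 0] with hJ
  set Y : Matrix (Fin 2) (Fin 2) F := (Mg⁻¹ * J).map (qAut hF) with hY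
  set V : Fin 2 → (Fin 4 → F) := fun b => ∑ c, Y c b • W c with hV
  have hVmem : ∀ b, V b ∈ D 1 := fun b => Submodule.sum_mem _ fun c _ => Submodule.smul_mem _ _ (w c).2
  have hUV : ∀ a b, ⟪U a, V b⟫ = J a b := by
    intro a b
    have h1 : Mg * (Mg⁻¹ * J) = J := by rw [← mul_assoc, Matrix.mul_nonsing_inv _ hMdet, one_mul]
    conv_rhs => rw [← h1]
    rw [hV, Unitary.H_sum_right hF, Matrix.mul_apply]
    refine Finset.sum_congr rfl fun c _ => ?_
    rw [Unitary.H_smul_right, hY, Matrix.map_apply, qAut_apply, hqq, mul_comm]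
    rfl
  have hVV : ∀ a b, ⟪V a, V b⟫ = 0 := fun a b => hts 1 _ (hVmem a) _ (hVmem b)
  have hVU : ∀ a b, ⟪V a, U b⟫ = -J a b := by
    intro a b
    rw [← Unitary.H_conj hF, hUV]
    fin_cases a <;> fin_cases b <;> simp [hJ, zero_pow (Unitary.q_ne_zero hF), ← qAut_apply hF]
  let vec : (Fin 2 → F) → (Fin 2 → F) → (Fin 4 → F) := fun x y => x 0 • U 0 + x 1 • U 1 + (y 0 • V 0 + y 1 • V 1)
  have hvec : ∀ x y x' y', ⟪vec x y, vec x' y'⟫ =
      (x 0 * y' 1 ^ q - x 1 * y' 0 ^ q) - (y 0 * x' 1 ^ q - y 1 * x' 0 ^ q) := by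
    intro x y x' y'
    simp only [vec, Unitary.H_add_left, Unitary.H_add_right hF, Unitary.H_smul_left, Unitary.H_smul_right,
      hUU, hVV, hUV, hVU, hJ, Matrix.of_apply, Matrix.cons_val', Matrix.cons_val_zero, Matrix.cons_val_one,
      Matrix.cons_val_fin_one, Matrix.empty_val', neg_zero, neg_neg, mul_zero, mul_one, mul_neg, add_zero,
      zero_add]
    ring
  let L : (Fin 2 → F) → (Fin 4 → F) := fun x => vec x fun a => x a ^ q
  have hL : ∀ x x', ⟪L x, L x'⟫ = (x 0 * x' 1 - x 1 * x' 0) - (x 0 * x' 1 - x 1 * x' 0) ^ q := by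
    intro x x'
    simp only [L, hvec, hqq]
    have hsub : (x 0 * x' 1 - x 1 * x' 0) ^ q = (x 0 * x' 1) ^ q - (x 1 * x' 0) ^ q := by
      rw [← qAut_apply hF, ← qAut_apply hF, ← qAut_apply hF, map_sub]
    rw [hsub, mul_pow, mul_pow]
  -- the subfield
  set F₀ : Subfield F := Unitary.fixField hF with hF₀
  have hmem : ∀ x : F, x ∈ F₀ ↔ x ^ q = x := fun x => Unitary.mem_fixField hF
  obtain ⟨θ, hθ⟩ := exists_qAut_ne hF
  rw [qAut_apply] at hθ
  set ζ : F := θ - θ ^ q with hζ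
  have hζ0 : ζ ≠ 0 := sub_ne_zero.2 (Ne.symm hθ)
  have hsubq : ∀ x y : F, (x - y) ^ q = x ^ q - y ^ q := fun x y => by
    rw [← qAut_apply hF, ← qAut_apply hF, ← qAut_apply hF, map_sub]
  have hζq : ζ ^ q = -ζ := by rw [hζ, hsubq, hqq]; ring
  set Pm : Matrix (Fin 4) (Fin 4) F :=
    Matrix.of fun i j => (![L ![1, 0], L ![θ, 0], L ![0, 1], L ![0, θ]] j) i with hPm
  have hPv : ∀ z : Fin 4 → F, (∀ i, z i ∈ F₀) → Pm *ᵥ z = L ![z 0 + θ * z 1, z 2 + θ * z 3] := by
    intro z hz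
    funext i
    have hz' : ∀ j, z j ^ q = z j := fun j => (hmem _).1 (hz j)
    simp only [Matrix.mulVec, dotProduct, Fin.sum_univ_four, hPm, Matrix.of_apply, L, vec, Matrix.cons_val_zero,
      Matrix.cons_val_one, Matrix.cons_val_fin_one, Matrix.cons_val_two, Matrix.cons_val_three,
      Matrix.tail_cons, Matrix.head_cons, Pi.add_apply, Pi.smul_apply, smul_eq_mul, one_pow,
      zero_pow (Unitary.q_ne_zero hF), hadd, mul_pow, hz']
    ring
  have hG : Pmᵀ * Pm.map (qAut hF) =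
      !![0, 0, 0, ζ; 0, 0, ζ, θ ^ 2 - (θ ^ 2) ^ q; 0, -ζ, 0, 0; -ζ, -(θ ^ 2 - (θ ^ 2) ^ q), 0, 0] := by
    ext i j
    have h1 : (Pmᵀ * Pm.map (qAut hF)) i j =
        ⟪![L ![1, 0], L ![θ, 0], L ![0, 1], L ![0, θ]] i, ![L ![1, 0], L ![θ, 0], L ![0, 1], L ![0, θ]] j⟫ :=
      rfl
    rw [h1]
    fin_cases i <;> fin_cases j <;>
      simp [hL, hζ, sq, hsubq, zero_pow (Unitary.q_ne_zero hF)] <;>
      simp only [← qAut_apply hF, map_neg, map_one] <;> ring
  have hPdet : Pm.det ≠ 0 := by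
    intro h0
    have h1 : (Pmᵀ * Pm.map (qAut hF)).det = 0 := by rw [Matrix.det_mul, Matrix.det_transpose, h0, zero_mul]
    obtain ⟨z, hz0, hz⟩ := Matrix.exists_mulVec_eq_zero_iff.2 h1
    rw [hG] at hz
    have e0 := congrFun hz 0
    have e1 := congrFun hz 1
    have e2 := congrFun hz 2
    have e3 := congrFun hz 3
    simp [Matrix.mulVec, dotProduct, Fin.sum_univ_four, hζ0] at e0 e1 e2 e3
    simp [e0, hζ0] at e1
    simp [e2, hζ0] at e3
    exact hz0 (funext fun i => by fin_cases i <;> simp [e0, e1, e2, e3])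
  set P : GL (Fin 4) F := Matrix.GeneralLinearGroup.mkOfDetNeZero Pm hPdet with hP
  have hfixs : ∀ s : F, ζ * (s - s ^ q) ∈ F₀ := fun s => by
    rw [hmem, mul_pow, hζq, hsubq, hqq]; ring
  refine ⟨F₀, P, ζ, ?_, hζ0, by rw [hζq]; ring, fun x y hx hy => ?_, fun x hx => ?_, ?_⟩
  · rw [hF, hF₀, Unitary.natCard_fixField hF]
  · show ζ * ⟪Pm *ᵥ x, Pm *ᵥ y⟫ ∈ F₀
    rw [hPv x hx, hPv y hy, hL]
    exact hfixs _
  · show ⟪Pm *ᵥ x, Pm *ᵥ x⟫ = 0
    rw [hPv x hx, hL]
    simp [mul_comm, zero_pow (Unitary.q_ne_zero hF)]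
  -- coordinates
  have hLmem : ∀ x : Fin 2 → F, ∃ z : Fin 4 → F₀, Pm *ᵥ (fun i => ((z i : F₀) : F)) = L x := by
    intro x
    set r : Fin 2 → F := fun a => (x a - x a ^ q) / ζ with hr
    have hr0 : ∀ a, r a ∈ F₀ := fun a => by
      rw [hmem, hr]; simp only [div_pow, hsubq, hqq, hζq]; rw [← neg_sub, neg_div_neg_eq]
    have hs0 : ∀ a, x a - θ * r a ∈ F₀ := fun a => by
      rw [hmem, hsubq, mul_pow, (hmem _).1 (hr0 a), hr]
      field_simp
      rw [hζ]; ring
    refine ⟨![⟨_, hs0 0⟩, ⟨_, hr0 0⟩, ⟨_, hs0 1⟩, ⟨_, hr0 1⟩], ?_⟩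
    rw [hPv _ fun i => SetLike.coe_mem _]
    congr 1
    funext a
    fin_cases a <;> simp
  rintro g ⟨⟨σ, hσ⟩, hgU, hgdet⟩
  have hiso := (mem_GU hF).1 hgU
  rw [hermData_form] at hiso
  have hcoef : ∀ (z : Fin 4 → F) (s : Fin 2), z ∈ D s → ∃ x : Fin 2 → F,
      z = if s = 0 then vec x 0 else vec 0 x := by
    intro z s hz
    fin_cases s
    · refine ⟨fun a => u.repr ⟨z, hz⟩ a, ?_⟩
      conv_lhs => rw [show z = ((⟨z, hz⟩ : D 0) : Fin 4 → F) from rfl, ← u.sum_repr ⟨z, hz⟩]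
      simp only [Fin.sum_univ_two, Submodule.coe_add, Submodule.coe_smul]
      exact (by simp [vec, hU] :
        (u.repr ⟨z, hz⟩) 0 • U 0 + (u.repr ⟨z, hz⟩) 1 • U 1 = vec (fun a => u.repr ⟨z, hz⟩ a) 0)
    · have hVspan : ∀ c, ∃ x : Fin 2 → F, W c = x 0 • V 0 + x 1 • V 1 := by
        intro c
        have hYdet : IsUnit Y.det := by
          rw [hY, show ((Mg⁻¹ * J).map (qAut hF)).det = qAut hF (Mg⁻¹ * J).det from
            (RingHom.map_det (qAut hF).toRingHom _).symm, Matrix.det_mul, map_mul]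
          refine IsUnit.mul ((Matrix.isUnit_nonsing_inv_det _ hMdet).map _) (IsUnit.map _ ?_)
          rw [hJ, Matrix.det_fin_two_of]; simp
        refine ⟨fun b => Y⁻¹ b c, ?_⟩
        have h1 := Matrix.mul_nonsing_inv Y hYdet
        have e : ∀ c', Y⁻¹ 0 c * Y c' 0 + Y⁻¹ 1 c * Y c' 1 = if c' = c then 1 else 0 := fun c' => by
          rw [mul_comm, mul_comm (Y⁻¹ 1 c), ← Matrix.one_apply, ← h1, Matrix.mul_apply, Fin.sum_univ_two]
        simp only [hV, Fin.sum_univ_two, smul_add, smul_smul]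
        rw [add_add_add_comm, ← add_smul, ← add_smul, e 0, e 1]
        fin_cases c <;> simp
      choose X hX using hVspan
      refine ⟨fun b => w.repr ⟨z, hz⟩ 0 * X 0 b + w.repr ⟨z, hz⟩ 1 * X 1 b, ?_⟩
      conv_lhs => rw [show z = ((⟨z, hz⟩ : D 1) : Fin 4 → F) from rfl, ← w.sum_repr ⟨z, hz⟩]
      simp only [Fin.sum_univ_two, Submodule.coe_add, Submodule.coe_smul]
      show _ • W 0 + _ • W 1 = _
      rw [hX 0, hX 1]
      simp only [Fin.isValue, Fin.mk_one, one_ne_zero, if_false, vec, Pi.zero_apply, zero_smul, zero_add, smul_add,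
        smul_smul, add_smul]
      abel
  have himg : ∀ (s : Fin 2) (z : Fin 4 → F), z ∈ D s → (g : Matrix (Fin 4) (Fin 4) F) *ᵥ z ∈ D (σ s) :=
    fun s z hz => by rw [← hσ s]; exact Submodule.mem_map_of_mem hz
  -- it suffices to find a multiple preserving the rational structure
  suffices key : ∃ c : F, c ≠ 0 ∧ ∀ x, ∃ y, c • ((g : Matrix (Fin 4) (Fin 4) F) *ᵥ L x) = L y by
    obtain ⟨c, hc0, hc⟩ := key
    have hcol : ∀ j : Fin 4, ∃ z : Fin 4 → F₀, Pm *ᵥ (fun i => ((z i : F₀) : F)) =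
        c • ((g : Matrix (Fin 4) (Fin 4) F) *ᵥ (Pm *ᵥ Pi.single j 1)) := by
      intro j
      rw [hPv _ fun i => by by_cases h : i = j <;> simp [h, Pi.single_apply, zero_mem, one_mem]]
      obtain ⟨y, hy⟩ := hc (![(Pi.single j 1 : Fin 4 → F) 0 + θ * (Pi.single j 1 : Fin 4 → F) 1,
        (Pi.single j 1 : Fin 4 → F) 2 + θ * (Pi.single j 1 : Fin 4 → F) 3])
      rw [hy]
      exact hLmem y
    choose Z hZ using hcol
    set M₀ : Matrix (Fin 4) (Fin 4) F₀ := Matrix.of fun i j => Z j i with hM₀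
    have hM : Pm * M₀.map (F₀.subtype) = c • ((g : Matrix (Fin 4) (Fin 4) F) * Pm) := by
      apply Matrix.ext_col
      intro j
      rw [← Matrix.mulVec_single_one _ j, ← Matrix.mulVec_single_one _ j, ← Matrix.mulVec_mulVec,
        Matrix.smul_mulVec, ← Matrix.mulVec_mulVec, ← hZ j]
      congr 1
      rw [Matrix.mulVec_single_one]
      rfl
    have hM0 : M₀.det ≠ 0 := by
      intro h0
      have h1 := congrArg Matrix.det hM
      rw [Matrix.det_mul, show (M₀.map F₀.subtype).det = F₀.subtype M₀.det from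
        (RingHom.map_det F₀.subtype _).symm, h0, map_zero, mul_zero, Matrix.det_smul, Matrix.det_mul] at h1
      exact mul_ne_zero (pow_ne_zero _ hc0)
        (mul_ne_zero (Matrix.GeneralLinearGroup.det g).ne_zero hPdet) h1.symm
    refine ⟨Matrix.GeneralLinearGroup.map (F₀.subtype : F₀ →+* F)
      (Matrix.GeneralLinearGroup.mkOfDetNeZero M₀ hM0) * scalarUnit (Fin 4) F (Units.mk0 c hc0)⁻¹,
      Subgroup.mul_mem _ (Subgroup.mem_sup_left ⟨_, rfl⟩) (Subgroup.mem_sup_right (scalarUnit_mem _)), ?_⟩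
    rw [MulEquiv.coe_toMonoidHom, MulAut.conj_apply, mul_inv_eq_iff_eq_mul]
    apply Units.ext
    rw [Units.val_mul, Units.val_mul, Units.val_mul, scalarUnit_coe, Matrix.mul_smul, mul_one,
      Matrix.mul_smul]
    show ((Units.mk0 c hc0)⁻¹ : Fˣ).val • (Pm * M₀.map F₀.subtype) = (g : Matrix (Fin 4) (Fin 4) F) * Pm
    rw [hM, smul_smul, Units.val_inv_eq_inv_val, Units.val_mk0, inv_mul_cancel₀ hc0, one_smul]
  -- the matrix of g in the basis
  set Bm : Matrix (Fin 4) (Fin 4) F := Matrix.of fun i j => (![U 0, U 1, V 0, V 1] j) i with hBm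
  have hBv : ∀ z : Fin 4 → F, Bm *ᵥ z = vec ![z 0, z 1] ![z 2, z 3] := by
    intro z
    funext i
    simp [Matrix.mulVec, dotProduct, Fin.sum_univ_four, hBm, vec]
    ring
  have hBdet : Bm.det ≠ 0 := by
    intro h0
    obtain ⟨z, hz0, hz⟩ := Matrix.exists_mulVec_eq_zero_iff.2 h0
    rw [hBv] at hz
    have e : ∀ x' y', (⟪vec ![z 0, z 1] ![z 2, z 3], vec x' y'⟫ : F) = 0 := fun x' y' => by
      rw [hz, Unitary.H_zero_left]
    have e0 := e 0 ![1, 0]
    have e1 := e 0 ![0, 1]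
    have e2 := e ![1, 0] 0
    have e3 := e ![0, 1] 0
    simp [hvec, zero_pow (Unitary.q_ne_zero hF)] at e0 e1 e2 e3
    exact hz0 (funext fun i => by fin_cases i <;> simp [e0, e1, e2, e3])
  have hconst : ∀ δ : F, δ ≠ 0 → δ ^ q = δ → δ * δ = 1 ∧ δ⁻¹ = δ := by
    intro δ h0 hd
    have h1 : δ ^ (q - 1) = 1 := by
      refine mul_right_cancel₀ h0 ?_
      rw [← pow_succ, show q - 1 + 1 = q by omega, hd, one_mul]
    have h2 : δ * δ = 1 := by
      rcases (show q = 2 ∨ q = 3 by omega) with h | h <;> rw [h] at h1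
      · rw [show δ = 1 by simpa using h1, one_mul]
      · simpa [sq] using h1
    exact ⟨h2, inv_eq_of_mul_eq_one_left h2⟩
  have hDV : ∀ x, vec 0 x ∈ D 1 := fun x => by
    simp only [vec, Pi.zero_apply, zero_smul, zero_add]
    exact add_mem ((D 1).smul_mem _ (hVmem 0)) ((D 1).smul_mem _ (hVmem 1))
  have hDU : ∀ x, vec x 0 ∈ D 0 := fun x => by
    simp only [vec, Pi.zero_apply, zero_smul, add_zero]
    exact add_mem ((D 0).smul_mem _ (u 0).2) ((D 0).smul_mem _ (u 1).2)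
  have hU0 : U 0 = vec ![1, 0] 0 := by simp [vec]
  have hU1 : U 1 = vec ![0, 1] 0 := by simp [vec]
  have hV0 : V 0 = vec 0 ![1, 0] := by simp [vec]
  have hV1 : V 1 = vec 0 ![0, 1] := by simp [vec]
  have hlinvec : ∀ x y : Fin 2 → F, (g : Matrix (Fin 4) (Fin 4) F) *ᵥ vec x y =
      x 0 • ((g : Matrix (Fin 4) (Fin 4) F) *ᵥ U 0) + x 1 • ((g : Matrix (Fin 4) (Fin 4) F) *ᵥ U 1) +
      (y 0 • ((g : Matrix (Fin 4) (Fin 4) F) *ᵥ V 0) + y 1 • ((g : Matrix (Fin 4) (Fin 4) F) *ᵥ V 1)) := by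
    intro x y; simp only [vec, Matrix.mulVec_add, Matrix.mulVec_smul]
  have hgB : ∀ (M : Matrix (Fin 4) (Fin 4) F),
      (g : Matrix (Fin 4) (Fin 4) F) * Bm = Bm * M → M.det = 1 := by
    intro M hM
    have h1 := congrArg Matrix.det hM
    rw [Matrix.det_mul, Matrix.det_mul, mem_specialLinear.1 hgdet, one_mul] at h1
    exact (mul_eq_left₀ hBdet).1 h1.symm
  have hσ' : σ 1 ≠ σ 0 := fun h => absurd (σ.injective h) (by decide)
  rcases (show σ 0 = 0 ∨ σ 0 = 1 by omega) with h0 | h0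
  · have h1 : σ 1 = 1 := by omega
    obtain ⟨a, ha⟩ := hcoef _ _ (himg 0 (U 0) (u 0).2)
    obtain ⟨a', ha'⟩ := hcoef _ _ (himg 0 (U 1) (u 1).2)
    obtain ⟨b, hb⟩ := hcoef _ _ (himg 1 (V 0) (hVmem 0))
    obtain ⟨b', hb'⟩ := hcoef _ _ (himg 1 (V 1) (hVmem 1))
    rw [h0, if_pos rfl] at ha ha'
    rw [h1, if_neg (by decide)] at hb hb'
    have e00 := hiso (U 0) (V 0)
    have e01 := hiso (U 0) (V 1)
    have e10 := hiso (U 1) (V 0)
    have e11 := hiso (U 1) (V 1)
    rw [ha, hb, hUV, hvec] at e00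
    rw [ha, hb', hUV, hvec] at e01
    rw [ha', hb, hUV, hvec] at e10
    rw [ha', hb', hUV, hvec] at e11
    simp [hJ, zero_pow (Unitary.q_ne_zero hF)] at e00 e01 e10 e11
    set δ := a 0 * a' 1 - a 1 * a' 0 with hδ
    have hM : (g : Matrix (Fin 4) (Fin 4) F) * Bm =
        Bm * !![a 0, a' 0, 0, 0; a 1, a' 1, 0, 0; 0, 0, b 0, b' 0; 0, 0, b 1, b' 1] := by
      apply Matrix.ext_col
      intro j
      rw [← Matrix.mulVec_single_one _ j, ← Matrix.mulVec_single_one _ j, ← Matrix.mulVec_mulVec,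
        ← Matrix.mulVec_mulVec, hBv, hlinvec, hBv]
      fin_cases j <;> simp [ha, ha', hb, hb', vec, Matrix.mulVec_single_one, Matrix.col]
    have hdet := hgB _ hM
    have hdet' : δ * (b 0 * b' 1 - b' 0 * b 1) = 1 := by
      rw [← hdet, Matrix.det_succ_row_zero, Fin.sum_univ_four]
      simp [Matrix.det_fin_three, Fin.succAbove]
      rw [hδ]; ring
    have hδ0 : δ ≠ 0 := fun h => by simp [h] at hdet'
    -- the entries of the dual block
    have d0 : δ * b 0 ^ q = a 0 := by rw [hδ]; linear_combination (-a 0) * e10 + a' 0 * e00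
    have d1 : δ * b 1 ^ q = a 1 := by rw [hδ]; linear_combination a' 1 * e00 - a 1 * e10
    have d0' : δ * b' 0 ^ q = a' 0 := by rw [hδ]; linear_combination a' 0 * e01 - a 0 * e11
    have d1' : δ * b' 1 ^ q = a' 1 := by rw [hδ]; linear_combination a' 1 * e01 - a 1 * e11
    have hδq : δ ^ q = δ := by
      have h2 : δ * δ * (b 0 * b' 1 - b' 0 * b 1) ^ q = δ := by
        simp only [hsubq, mul_pow]
        linear_combination (δ * b' 1 ^ q) * d0 + a 0 * d1' - (δ * b 1 ^ q) * d0' - a' 0 * d1 - hδ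
      have h3 := congrArg (fun x => x ^ q) hdet'
      simp only [mul_pow, one_pow] at h3
      have h4 : δ * (δ ^ q - δ) = 0 := by linear_combination (-δ ^ q) * h2 + δ * δ * h3
      exact sub_eq_zero.1 ((mul_eq_zero.1 h4).resolve_left hδ0)
    obtain ⟨hsq, hinv⟩ := hconst δ hδ0 hδq
    have inv : ∀ z x : F, δ * z ^ q = x → z = δ * x ^ q := fun z x h => by
      rw [← h, mul_pow, hqq, hδq, ← mul_assoc, hsq, one_mul]
    obtain ⟨c, hc0, hc⟩ : ∃ c : F, c ≠ 0 ∧ c ^ q = δ * c := by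
      rcases mul_self_eq_one_iff.1 hsq with h | h
      · exact ⟨1, one_ne_zero, by rw [h, one_pow, one_mul]⟩
      · exact ⟨ζ, hζ0, by rw [h, hζq, neg_one_mul]⟩
    refine ⟨c, hc0, fun x => ⟨![c * (a 0 * x 0 + a' 0 * x 1), c * (a 1 * x 0 + a' 1 * x 1)], ?_⟩⟩
    show c • ((g : Matrix (Fin 4) (Fin 4) F) *ᵥ vec x fun i => x i ^ q) = _
    refine (congrArg (c • ·) (hlinvec x fun i => x i ^ q)).trans ?_
    rw [ha, ha', hb, hb']
    funext i
    simp [L, vec, hadd, mul_pow, hc]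
    rw [inv _ _ d0, inv _ _ d1, inv _ _ d0', inv _ _ d1']
    ring
  · have h1 : σ 1 = 0 := by omega
    obtain ⟨a, ha⟩ := hcoef _ _ (himg 0 (U 0) (u 0).2)
    obtain ⟨a', ha'⟩ := hcoef _ _ (himg 0 (U 1) (u 1).2)
    obtain ⟨b, hb⟩ := hcoef _ _ (himg 1 (V 0) (hVmem 0))
    obtain ⟨b', hb'⟩ := hcoef _ _ (himg 1 (V 1) (hVmem 1))
    rw [h1, if_pos rfl] at hb hb'
    rw [h0, if_neg (by decide)] at ha ha'
    have e00 := hiso (U 0) (V 0)
    have e01 := hiso (U 0) (V 1)
    have e10 := hiso (U 1) (V 0)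
    have e11 := hiso (U 1) (V 1)
    rw [ha, hb, hUV, hvec] at e00
    rw [ha, hb', hUV, hvec] at e01
    rw [ha', hb, hUV, hvec] at e10
    rw [ha', hb', hUV, hvec] at e11
    simp [hJ, zero_pow (Unitary.q_ne_zero hF)] at e00 e01 e10 e11
    set δ := a 0 * a' 1 - a 1 * a' 0 with hδ
    have hM : (g : Matrix (Fin 4) (Fin 4) F) * Bm =
        Bm * !![0, 0, b 0, b' 0; 0, 0, b 1, b' 1; a 0, a' 0, 0, 0; a 1, a' 1, 0, 0] := by
      apply Matrix.ext_col
      intro j
      rw [← Matrix.mulVec_single_one _ j, ← Matrix.mulVec_single_one _ j, ← Matrix.mulVec_mulVec,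
        ← Matrix.mulVec_mulVec, hBv, hlinvec, hBv]
      fin_cases j <;> simp [ha, ha', hb, hb', vec, Matrix.mulVec_single_one, Matrix.col]
    have hdet := hgB _ hM
    have hdet' : δ * (b 0 * b' 1 - b' 0 * b 1) = 1 := by
      rw [← hdet, Matrix.det_succ_row_zero, Fin.sum_univ_four]
      simp [Matrix.det_fin_three, Fin.succAbove]
      rw [hδ]; ring
    have hδ0 : δ ≠ 0 := fun h => by simp [h] at hdet'
    have d0 : δ * b 0 ^ q = -a 0 := by rw [hδ]; linear_combination a 0 * e10 - a' 0 * e00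
    have d1 : δ * b 1 ^ q = -a 1 := by rw [hδ]; linear_combination a 1 * e10 - a' 1 * e00
    have d0' : δ * b' 0 ^ q = -a' 0 := by rw [hδ]; linear_combination a 0 * e11 - a' 0 * e01
    have d1' : δ * b' 1 ^ q = -a' 1 := by rw [hδ]; linear_combination a 1 * e11 - a' 1 * e01
    have hδq : δ ^ q = δ := by
      have h2 : δ * δ * (b 0 * b' 1 - b' 0 * b 1) ^ q = δ := by
        simp only [hsubq, mul_pow]
        linear_combination (δ * b' 1 ^ q) * d0 - a 0 * d1' - (δ * b 1 ^ q) * d0' + a' 0 * d1 - hδ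
      have h3 := congrArg (fun x => x ^ q) hdet'
      simp only [mul_pow, one_pow] at h3
      have h4 : δ * (δ ^ q - δ) = 0 := by linear_combination (-δ ^ q) * h2 + δ * δ * h3
      exact sub_eq_zero.1 ((mul_eq_zero.1 h4).resolve_left hδ0)
    obtain ⟨hsq, hinv⟩ := hconst δ hδ0 hδq
    have inv : ∀ z x : F, δ * z ^ q = -x → z = -δ * x ^ q := fun z x h => by
      rw [show x = -(δ * z ^ q) by rw [h, neg_neg], ← qAut_apply hF, map_neg, map_mul, qAut_apply,
        qAut_apply, hδq, hqq]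
      linear_combination (-z) * hsq
    obtain ⟨c, hc0, hc⟩ : ∃ c : F, c ≠ 0 ∧ c ^ q = -δ * c := by
      rcases mul_self_eq_one_iff.1 hsq with h | h
      · exact ⟨ζ, hζ0, by rw [h, hζq, neg_one_mul]⟩
      · exact ⟨1, one_ne_zero, by rw [h, one_pow, neg_neg, one_mul]⟩
    refine ⟨c, hc0, fun x => ⟨![c * (b 0 * x 0 ^ q + b' 0 * x 1 ^ q), c * (b 1 * x 0 ^ q + b' 1 * x 1 ^ q)],
      ?_⟩⟩
    show c • ((g : Matrix (Fin 4) (Fin 4) F) *ᵥ vec x fun i => x i ^ q) = _
    have sq' : δ * δ = 1 := hsq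
    have r0 : a 0 = -δ * b 0 ^ q := by linear_combination d0
    have r1 : a 1 = -δ * b 1 ^ q := by linear_combination d1
    have r0' : a' 0 = -δ * b' 0 ^ q := by linear_combination d0'
    have r1' : a' 1 = -δ * b' 1 ^ q := by linear_combination d1'
    refine (congrArg (c • ·) (hlinvec x fun i => x i ^ q)).trans ?_
    rw [ha, ha', hb, hb']
    funext i
    simp [L, vec, hadd, mul_pow, hc, hqq]
    rw [r0, r1, r0', r1']
    ring

end Cfsg.Agent.Aschbacher
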