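/-
SU_3(3), SU_3(5): a group respecting the coded point sets is not maximal.
-/
import Mathlib
import Cfsg.Agent.Aschbacher.Un.Lists.Main
import Cfsg.Agent.Aschbacher.Un.Lists.UThreeCode

set_option autoImplicit false
set_option linter.style.haveILetI false

namespace Cfsg.Agent.Aschbacher

open Matrix
open Cfsg.Geo
open Cfsg.Agent.Classical

namespace UThree

variable {F : Type*} [Field F] [Fintype F] {p : ℕ}

/-- A root of `X² + X + 2` conjugate to the other one by `x ↦ x^p`. -/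
structure IsEta (p : ℕ) (η : F) : Prop where
  sq : η ^ 2 = -η - 2
  conj : η ^ p = -1 - η

/-- The element with a given code. -/
def ι (p : ℕ) (η : F) (c : ℕ) : F := (c : F) + ((c / p : ℕ) : F) * η

/-- The vector with given codes. -/
def κ (p : ℕ) (η : F) (v : C3) : Fin 3 → F := ![ι p η v.1, ι p η v.2.1, ι p η v.2.2]

/-- The matrix with given codes. -/
def μ (p : ℕ) (η : F) (M : M3) : Matrix (Fin 3) (Fin 3) F :=
  Matrix.of fun i j => ![κ p η M.1, κ p η M.2.1, κ p η M.2.2] j i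

theorem testBit_cMask (l : List ℕ) (n : ℕ) : (cMask l).testBit n = decide (n ∈ l) := by
  induction l with
  | nil => simp [cMask]
  | cons a l ih =>
    rw [show cMask (a :: l) = (1 <<< a) ||| cMask l from rfl, Nat.testBit_or, ih, Nat.one_shiftLeft,
      Nat.testBit_two_pow]
    simp [eq_comm]

theorem cPack_lt (hp : 0 < p) (x y : ℕ) : cPack p x y < p ^ 2 := by
  have h1 := Nat.mod_lt x hp
  have h2 : p * (y % p) + p ≤ p * p := by
    rw [← Nat.mul_succ]; exact Nat.mul_le_mul_left _ (Nat.mod_lt y hp)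
  rw [sq, cPack]
  omega

/-- Reduced code vectors. -/
def Red (p : ℕ) (v : C3) : Prop := v.1 < p ^ 2 ∧ v.2.1 < p ^ 2 ∧ v.2.2 < p ^ 2

theorem red_cSmul (hp : 0 < p) (s : ℕ) (v : C3) : Red p (cSmul p s v) :=
  ⟨cPack_lt hp _ _, cPack_lt hp _ _, cPack_lt hp _ _⟩

theorem red_cAddV (hp : 0 < p) (u v : C3) : Red p (cAddV p u v) :=
  ⟨cPack_lt hp _ _, cPack_lt hp _ _, cPack_lt hp _ _⟩

theorem cIndex_inj {u v : C3} (hu : Red p u) (hv : Red p v) (h : cIndex p u = cIndex p v) : u = v := by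
  obtain ⟨a, b, c⟩ := u
  obtain ⟨a', b', c'⟩ := v
  simp only [Red, cIndex] at hu hv h
  generalize p ^ 2 = Q at hu hv h
  have e1 := congrArg (· % Q) h
  simp only [Nat.add_mul_mod_self_left, Nat.mod_eq_of_lt hu.1, Nat.mod_eq_of_lt hv.1] at e1
  have e2 := congrArg (· / Q) h
  simp only [Nat.add_mul_div_left _ _ (by omega : 0 < Q), Nat.div_eq_of_lt hu.1, Nat.div_eq_of_lt hv.1,
    zero_add] at e2
  have e3 := congrArg (· % Q) e2
  simp only [Nat.add_mul_mod_self_left, Nat.mod_eq_of_lt hu.2.1, Nat.mod_eq_of_lt hv.2.1] at e3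
  have e4 := congrArg (· / Q) e2
  simp only [Nat.add_mul_div_left _ _ (by omega : 0 < Q), Nat.div_eq_of_lt hu.2.1, Nat.div_eq_of_lt hv.2.1,
    zero_add] at e4
  rw [e1, e3, e4]

variable [CharP F p] {η : F}

theorem ι_cast (c : ℕ) : ((c % p : ℕ) : F) = (c : F) := (CharP.cast_eq_mod F p c).symm

theorem ι_pack (hp : 0 < p) (x y : ℕ) : ι p η (cPack p x y) = (x : F) + (y : F) * η := by
  have h : cPack p x y / p = y % p := by
    rw [cPack, Nat.add_mul_div_left _ _ hp, Nat.div_eq_of_lt (Nat.mod_lt x hp), zero_add]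
  rw [ι, h, cPack, Nat.cast_add, Nat.cast_mul, CharP.cast_eq_zero F p, ι_cast, ι_cast, zero_mul, add_zero]

theorem cast_pred (hp : 0 < p) : ((p - 1 : ℕ) : F) = -1 := by
  rw [Nat.cast_sub hp, CharP.cast_eq_zero, Nat.cast_one, zero_sub]

theorem ι_add (hp : 0 < p) (a b : ℕ) : ι p η (cAdd p a b) = ι p η a + ι p η b := by
  rw [cAdd, ι_pack hp, ι, ι]; push_cast; ring

theorem ι_sub (hp : 0 < p) (a b : ℕ) : ι p η (cSub p a b) = ι p η a - ι p η b := by
  rw [cSub, ι_pack hp, ι, ι]; push_cast [cast_pred hp]; ring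

theorem ι_mul (hp : 0 < p) (h : IsEta p η) (a b : ℕ) : ι p η (cMul p a b) = ι p η a * ι p η b := by
  rw [cMul, ι_pack hp, ι, ι]; push_cast [cast_pred hp]
  linear_combination (-(((a / p : ℕ) : F) * ((b / p : ℕ) : F))) * h.sq

theorem ι_zero : ι p η 0 = 0 := by simp [ι]

theorem ι_one (hp : p.Prime) : ι p η 1 = 1 := by simp [ι, Nat.div_eq_of_lt hp.one_lt]

theorem ι_eta (hp : 0 < p) : ι p η p = η := by
  simp [ι, Nat.div_self hp, CharP.cast_eq_zero]

theorem ι_bar (hp : p.Prime) (h : IsEta p η) (a : ℕ) : ι p η (cBar p a) = ι p η a ^ p := by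
  haveI : Fact p.Prime := ⟨hp⟩
  rw [cBar, ι_pack hp.pos, ι, add_pow_char, mul_pow, h.conj]
  have : ∀ n : ℕ, (n : F) ^ p = n := fun n => by rw [← frobenius_def, map_natCast]
  rw [this, this]
  push_cast [cast_pred hp.pos]
  ring

theorem skew_ne_zero (hp : p = 3 ∨ p = 5) (h : IsEta p η) : (1 : F) + 2 * η ≠ 0 := by
  intro h0
  have h7 : ((7 : ℕ) : F) = 0 := by
    push_cast; linear_combination (-(1 + 2 * η)) * h0 + 4 * h.sq
  rw [CharP.cast_eq_zero_iff F p] at h7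
  rcases hp with rfl | rfl <;> norm_num at h7

theorem prime_of (hp : p = 3 ∨ p = 5) : p.Prime := by rcases hp with rfl | rfl <;> norm_num

theorem ι_inj (hp : p = 3 ∨ p = 5) (h : IsEta p η) {a b : ℕ} (ha : a < p ^ 2) (hb : b < p ^ 2)
    (he : ι p η a = ι p η b) : a = b := by
  have hpp := prime_of hp
  haveI : Fact p.Prime := ⟨hpp⟩
  have hc : ∀ n : ℕ, (n : F) ^ p = n := fun n => by rw [← frobenius_def, map_natCast]
  have e2 := congrArg (· ^ p) he
  simp only [ι, add_pow_char, mul_pow, h.conj, hc] at e2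
  simp only [ι] at he
  have hd : ((a / p : ℕ) : F) = ((b / p : ℕ) : F) :=
    mul_right_cancel₀ (skew_ne_zero hp h) (by linear_combination he - e2)
  rw [hd, add_left_inj] at he
  have h1 : a / p ≡ b / p [MOD p] := (CharP.natCast_eq_natCast F p).1 hd
  have h2 : a ≡ b [MOD p] := (CharP.natCast_eq_natCast F p).1 he
  have h3 : a / p = b / p := h1.eq_of_lt_of_lt ((Nat.div_lt_iff_lt_mul hpp.pos).2 (by rwa [← sq]))
    ((Nat.div_lt_iff_lt_mul hpp.pos).2 (by rwa [← sq]))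
  rw [← Nat.mod_add_div a p, ← Nat.mod_add_div b p, h3, h2]

theorem ι_surj (hp : p = 3 ∨ p = 5) (h : IsEta p η) (hF : Fintype.card F = p ^ 2) (c : F) :
    ∃ s, s < p ^ 2 ∧ ι p η s = c := by
  obtain ⟨s, hs⟩ := ((Fintype.bijective_iff_injective_and_card (fun s : Fin (p ^ 2) => ι p η s)).2
    ⟨fun a b e => Fin.ext (ι_inj hp h a.2 b.2 e), by rw [Fintype.card_fin, hF]⟩).2 c
  exact ⟨s, s.2, hs⟩

theorem κ_smul (hp : 0 < p) (h : IsEta p η) (s : ℕ) (v : C3) :
    κ p η (cSmul p s v) = ι p η s • κ p η v := by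
  funext i; fin_cases i <;> simp [κ, cSmul, ι_mul hp h]

theorem κ_add (hp : 0 < p) (u v : C3) : κ p η (cAddV p u v) = κ p η u + κ p η v := by
  funext i; fin_cases i <;> simp [κ, cAddV, ι_add hp]

theorem κ_app (hp : 0 < p) (h : IsEta p η) (M : M3) (v : C3) :
    μ p η M *ᵥ κ p η v = κ p η (cApp p M v) := by
  rw [cApp, κ_add hp, κ_add hp, κ_smul hp h, κ_smul hp h, κ_smul hp h]
  funext i
  fin_cases i <;> simp [μ, κ, Matrix.mulVec, dotProduct, Fin.sum_univ_three, mul_comm]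

theorem κ_inj (hp : p = 3 ∨ p = 5) (h : IsEta p η) {u v : C3} (hu : Red p u) (hv : Red p v)
    (e : κ p η u = κ p η v) : u = v :=
  Prod.ext (ι_inj hp h hu.1 hv.1 (congrFun e 0))
    (Prod.ext (ι_inj hp h hu.2.1 hv.2.1 (congrFun e 1)) (ι_inj hp h hu.2.2 hv.2.2 (congrFun e 2)))

theorem det_μ (hp : 0 < p) (h : IsEta p η) (M : M3) : (μ p η M).det = ι p η (cDet p M) := by
  obtain ⟨⟨a, b, c⟩, ⟨d, e, f⟩, g, k, l⟩ := M
  rw [Matrix.det_fin_three]
  simp [μ, κ, cDet, ι_add hp, ι_sub hp, ι_mul hp h]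
  ring

/-- The coded form. -/
theorem κ_herm (hp : p.Prime) (h : IsEta p η) (G : M3) (x y : C3) :
    κ p η x ⬝ᵥ (μ p η G *ᵥ fun i => κ p η y i ^ p) = ι p η (cHerm p G x y) := by
  have e : (fun i => κ p η y i ^ p) = κ p η (cBar p y.1, cBar p y.2.1, cBar p y.2.2) := by
    funext i; fin_cases i <;> simp [κ, ι_bar hp h]
  rw [e, κ_app hp.pos h]
  simp [cHerm, κ, dotProduct, Fin.sum_univ_three, ι_add hp.pos, ι_mul hp.pos h]

/-- The lines of coded vectors, in the coordinates `B`. -/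
def cone (p : ℕ) (η : F) (B : Matrix (Fin 3) (Fin 3) F) (l : List C3) : Set (Fin 3 → F) :=
  {u | ∃ r ∈ l, ∃ s : ℕ, u = B *ᵥ κ p η (cSmul p s r)}

theorem mem_cone_iff (hp : p = 3 ∨ p = 5) (h : IsEta p η) (hF : Fintype.card F = p ^ 2)
    {B : Matrix (Fin 3) (Fin 3) F} (hB : B.det ≠ 0) {l : List C3} {bits : ℕ}
    (hbits : cMask (cSpan p l) = bits) {v : C3} (hv : Red p v) :
    B *ᵥ κ p η v ∈ cone p η B l ↔ bits.testBit (cIndex p v) = true := by
  have hpp := prime_of hp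
  rw [← hbits, testBit_cMask, decide_eq_true_eq]
  simp only [cSpan, List.mem_flatMap, List.mem_map, List.mem_range]
  constructor
  · rintro ⟨r, hr, s, e⟩
    obtain ⟨s', hs', es⟩ := ι_surj hp h hF (ι p η s)
    rw [κ_smul hpp.pos h, ← es, ← κ_smul hpp.pos h] at e
    have e' : κ p η v = κ p η (cSmul p s' r) :=
      Matrix.mulVec_injective_iff_isUnit.2 ((Matrix.isUnit_iff_isUnit_det B).2 (isUnit_iff_ne_zero.2 hB)) e
    exact ⟨r, hr, s', hs', by rw [κ_inj hp h hv (red_cSmul hpp.pos _ _) e']⟩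
  · rintro ⟨r, hr, s, -, e⟩
    exact ⟨r, hr, s, by rw [cIndex_inj (red_cSmul hpp.pos _ _) hv e]⟩

theorem cone_smul (hp : p = 3 ∨ p = 5) (h : IsEta p η) (hF : Fintype.card F = p ^ 2)
    {B : Matrix (Fin 3) (Fin 3) F} {l : List C3} {u : Fin 3 → F} (hu : u ∈ cone p η B l) (c : F) :
    c • u ∈ cone p η B l := by
  obtain ⟨r, hr, s, rfl⟩ := hu
  obtain ⟨c', -, rfl⟩ := ι_surj hp h hF c
  refine ⟨r, hr, cMul p c' s, ?_⟩
  rw [κ_smul (prime_of hp).pos h, κ_smul (prime_of hp).pos h, ι_mul (prime_of hp).pos h, ← Matrix.mulVec_smul,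
    smul_smul]

/-- A matrix of the list preserves the cone. -/
theorem cone_app (hp : p = 3 ∨ p = 5) (h : IsEta p η) (hF : Fintype.card F = p ^ 2)
    {B : Matrix (Fin 3) (Fin 3) F} (hB : B.det ≠ 0) {l : List C3} {bits : ℕ}
    (hbits : cMask (cSpan p l) = bits) {M : M3}
    (hM : (l.all fun r => bits.testBit (cIndex p (cApp p M r))) = true) {x : Fin 3 → F}
    (hx : B *ᵥ x ∈ cone p η B l) : B *ᵥ (μ p η M *ᵥ x) ∈ cone p η B l := by
  have hp0 := (prime_of hp).pos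
  obtain ⟨r, hr, s, e⟩ := hx
  have e' : x = κ p η (cSmul p s r) :=
    Matrix.mulVec_injective_iff_isUnit.2 ((Matrix.isUnit_iff_isUnit_det B).2 (isUnit_iff_ne_zero.2 hB)) e
  rw [e', κ_smul hp0 h, Matrix.mulVec_smul, κ_app hp0 h, Matrix.mulVec_smul]
  exact cone_smul hp h hF ((mem_cone_iff hp h hF hB hbits (red_cAddV hp0 _ _)).2
    (List.all_eq_true.1 hM r hr)) _

variable (hF : Fintype.card F = p ^ 2)

local notation "⟪" u ", " v "⟫" => Cfsg.hermForm 3 F p u v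

omit [Fintype F] [CharP F p] in
theorem herm_mulVec (B : Matrix (Fin 3) (Fin 3) F) (σ : F →+* F) (hσ : ∀ a, σ a = a ^ p)
    (x y : Fin 3 → F) : ⟪B *ᵥ x, B *ᵥ y⟫ = x ⬝ᵥ ((Bᵀ * B.map σ) *ᵥ fun i => y i ^ p) := by
  have e : (fun i => (B *ᵥ y) i ^ p) = B.map σ *ᵥ (fun i => y i ^ p) := by
    funext i
    rw [← hσ, RingHom.map_mulVec]
    congr 2
    funext j
    exact hσ _
  rw [← Matrix.mulVec_mulVec, Matrix.dotProduct_mulVec x Bᵀ, Matrix.vecMul_transpose, ← e]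
  rfl

include hF in
/-- A group respecting the coded point sets is not maximal. -/
theorem not_maximal_of_codes (D : Data) (hD : D.Valid) (hDp : D.p = p) (hη : IsEta p η)
    {B : Matrix (Fin 3) (Fin 3) F} (hB : B.det ≠ 0) (hgram : Bᵀ * B.map (qAut hF) = μ p η D.gram)
    {N : Subgroup (GL (Fin 3) F)} (hN : N ≤ suGL 3 F p)
    (hmats : ∀ g ∈ N, ∃ M₁ ∈ D.mats, ∃ M₂ ∈ D.mats, ∃ c : F,
      (g : Matrix (Fin 3) (Fin 3) F) * B = c • (B * (μ p η M₁ * μ p η M₂))) :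
    ¬ IsMaximalIn (suGL 3 F p) N := by
  intro hmax
  subst hDp
  have hp := hD.prime
  have hpp := prime_of hp
  have hp0 := hpp.pos
  have hBu : IsUnit B := (Matrix.isUnit_iff_isUnit_det B).2 (isUnit_iff_ne_zero.2 hB)
  have hH : ∀ x y : Fin 3 → F, Cfsg.hermForm 3 F D.p (B *ᵥ x) (B *ᵥ y) =
      x ⬝ᵥ (μ D.p η D.gram *ᵥ fun i => y i ^ D.p) := fun x y => by
    rw [herm_mulVec B (qAut hF).toRingHom (fun a => rfl) x y]
    exact congrArg (fun M => x ⬝ᵥ (M *ᵥ fun i => y i ^ D.p)) hgram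
  have hpres : ∀ (l : List C3) (bits : ℕ), cMask (cSpan D.p l) = bits →
      (D.mats.all fun M => l.all fun r => bits.testBit (cIndex D.p (cApp D.p M r))) = true →
      ∀ g ∈ N, ∀ u ∈ cone D.p η B l, (g : Matrix (Fin 3) (Fin 3) F) *ᵥ u ∈ cone D.p η B l := by
    intro l bits hbits hall g hg u hu
    obtain ⟨M₁, h1, M₂, h2, c, e⟩ := hmats g hg
    obtain ⟨x, rfl⟩ : ∃ x, B *ᵥ x = u := by obtain ⟨r, -, s, rfl⟩ := hu; exact ⟨_, rfl⟩
    rw [Matrix.mulVec_mulVec, e, Matrix.smul_mulVec, ← Matrix.mulVec_mulVec, ← Matrix.mulVec_mulVec]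
    exact cone_smul hp hη hF (cone_app hp hη hF hB hbits (List.all_eq_true.1 hall M₁ h1)
      (cone_app hp hη hF hB hbits (List.all_eq_true.1 hall M₂ h2) hu)) c
  let T := cone D.p η B D.pts
  let St : Subgroup (GL (Fin 3) F) :=
    { carrier := {g | ∀ v ∈ T, (g : Matrix (Fin 3) (Fin 3) F) *ᵥ v ∈ T}
      one_mem' := fun v hv => by rwa [Units.val_one, Matrix.one_mulVec]
      mul_mem' := fun {a b} ha hb v hv => by
        rw [Units.val_mul, ← Matrix.mulVec_mulVec]; exact ha _ (hb v hv)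
      inv_mem' := fun {a} ha v hv => by
        have hinj : Set.InjOn (fun u => (a : Matrix (Fin 3) (Fin 3) F) *ᵥ u) T := fun x _ y _ e => by
          simpa [Matrix.mulVec_mulVec, ← Units.val_mul] using
            congrArg (((a⁻¹ : GL (Fin 3) F) : Matrix (Fin 3) (Fin 3) F) *ᵥ ·) e
        obtain ⟨u, hu, rfl⟩ := (((Set.toFinite T).injOn_iff_bijOn_of_mapsTo ha).1 hinj).surjOn hv
        rwa [Matrix.mulVec_mulVec, ← Units.val_mul, inv_mul_cancel, Units.val_one, Matrix.one_mulVec] }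
  have hle : N ≤ St ⊓ suGL 3 F D.p := fun g hg => ⟨hpres _ _ hD.bits_eq hD.mats_pts g hg, hN hg⟩
  set X := μ D.p η D.ext with hX
  have hXdet : X.det = 1 := by rw [hX, det_μ hp0 hη, hD.ext_det, ι_one hpp]
  set Bg : GL (Fin 3) F := Matrix.GeneralLinearGroup.mkOfDetNeZero B hB with hBg
  set Xg : GL (Fin 3) F := Matrix.GeneralLinearGroup.mkOfDetNeZero X (by rw [hXdet]; exact one_ne_zero) with hXg
  set t : GL (Fin 3) F := Bg * Xg * Bg⁻¹ with ht
  have htB : (t : Matrix (Fin 3) (Fin 3) F) * B = B * X := by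
    rw [show B = ((Bg : GL (Fin 3) F) : Matrix (Fin 3) (Fin 3) F) from rfl,
      show X = ((Xg : GL (Fin 3) F) : Matrix (Fin 3) (Fin 3) F) from rfl, ← Units.val_mul, ← Units.val_mul,
      ht, inv_mul_cancel_right]
  have htv : ∀ x, (t : Matrix (Fin 3) (Fin 3) F) *ᵥ (B *ᵥ x) = B *ᵥ (X *ᵥ x) := fun x => by
    rw [Matrix.mulVec_mulVec, htB, Matrix.mulVec_mulVec]
  have htU : t ∈ Cfsg.GU 3 F D.p := by
    refine (mem_GU hF).2 fun u v => ?_
    obtain ⟨x, rfl⟩ := (Matrix.mulVec_surjective_iff_isUnit.2 hBu) u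
    obtain ⟨y, rfl⟩ := (Matrix.mulVec_surjective_iff_isUnit.2 hBu) v
    rw [hermData_form, htv, htv, hH, hH]
    have hG : Xᵀ * μ D.p η D.gram * X.map (qAut hF).toRingHom = μ D.p η D.gram := by
      have key : ∀ a b : C3, κ D.p η a ⬝ᵥ (μ D.p η D.gram *ᵥ fun i => κ D.p η b i ^ D.p) =
          ι D.p η (cHerm D.p D.gram a b) := κ_herm hpp hη _
      have hg := hD.ext_gram
      simp only [List.map_cons, List.map_nil, List.cons.injEq, and_true] at hg
      obtain ⟨⟨g00, g01, g02⟩, ⟨g10, g11, g12⟩, g20, g21, g22⟩ := hg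
      ext a b
      have e : (Xᵀ * μ D.p η D.gram * X.map (qAut hF).toRingHom) a b =
          (fun i => X i a) ⬝ᵥ (μ D.p η D.gram *ᵥ fun i => X i b ^ D.p) := by
        rw [Matrix.mul_assoc]; rfl
      rw [e]
      fin_cases a <;> fin_cases b <;>
        simp only [hX, μ, Matrix.of_apply, Fin.isValue, Fin.zero_eta, Fin.mk_one, Fin.reduceFinMk,
          Matrix.cons_val_zero, Matrix.cons_val_one, Matrix.cons_val] <;>
        simp only [μ] at key <;> rw [key] <;>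
        simp only [g00, g01, g02, g10, g11, g12, g20, g21, g22] <;> rfl
    have e : (fun i => (X *ᵥ y) i ^ D.p) = X.map (qAut hF).toRingHom *ᵥ fun i => y i ^ D.p := by
      funext i
      exact RingHom.map_mulVec (qAut hF).toRingHom X y i
    rw [e]
    conv_rhs => rw [← hG]
    rw [← Matrix.mulVec_mulVec, ← Matrix.mulVec_mulVec, Matrix.dotProduct_mulVec x Xᵀ, Matrix.vecMul_transpose]
  have htdet : t ∈ specialLinear (Fin 3) F := by
    rw [mem_specialLinear]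
    have e := congrArg Matrix.det htB
    rw [Matrix.det_mul, Matrix.det_mul, hXdet, mul_one] at e
    exact (mul_eq_right₀ hB).1 e
  have htSt : t ∈ St := by
    intro v hv
    obtain ⟨x, rfl⟩ := (Matrix.mulVec_surjective_iff_isUnit.2 hBu) v
    rw [htv]
    exact cone_app hp hη hF hB hD.bits_eq hD.ext_pts hv
  rcases hmax.2 _ hle inf_le_right with e | e
  · have htN : t ∈ N := e ▸ (⟨htSt, htU, htdet⟩ : t ∈ St ⊓ suGL 3 F D.p)
    have h1 := hpres _ _ hD.bits2_eq hD.mats_pts2 t htN (B *ᵥ κ D.p η D.moved)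
      ⟨D.moved, hD.moved_mem, 1, by rw [κ_smul hp0 hη, ι_one hpp, one_smul]⟩
    rw [htv, hX, κ_app hp0 hη, mem_cone_iff hp hη hF hB hD.bits2_eq (show Red D.p (cApp D.p D.ext D.moved) from red_cAddV hp0 _ _), hD.moved_out] at h1
    exact absurd h1 Bool.false_ne_true
  · have hu : Cfsg.hermForm 3 F D.p (B *ᵥ κ D.p η D.iso) (B *ᵥ κ D.p η D.iso) = 0 := by
      rw [hH, κ_herm hpp hη, hD.iso_zero, ι_zero]
    have hsk : ι D.p η (cSkew D.p) = 1 + 2 * η := by rw [cSkew, ι_pack hp0]; norm_num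
    have hc : ι D.p η (cSkew D.p) + ι D.p η (cSkew D.p) ^ D.p = 0 := by
      haveI : Fact D.p.Prime := ⟨hpp⟩
      rw [hsk, add_pow_char, mul_pow, one_pow, hη.conj,
        show (2 : F) ^ D.p = 2 by rw [← frobenius_def, map_ofNat]]
      ring
    have hs : suEmb (Unitary.tvu hF hu hc) ∈ St ⊓ suGL 3 F D.p := by rw [e]; exact suEmb_mem _
    have h1 := hs.1 (B *ᵥ κ D.p η D.samp)
      ⟨D.samp, hD.samp_mem, 1, by rw [κ_smul hp0 hη, ι_one hpp, one_smul]⟩
    rw [suEmb_coe, Unitary.tvu_mulVec, hH, κ_herm hpp hη, ← ι_mul hp0 hη, ← Matrix.mulVec_smul,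
      ← Matrix.mulVec_add, ← κ_smul hp0 hη, ← κ_add hp0,
      mem_cone_iff hp hη hF hB hD.bits_eq (red_cAddV hp0 _ _), hD.samp_out] at h1
    exact absurd h1 Bool.false_ne_true

end UThree

end Cfsg.Agent.Aschbacher
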