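/-
SU_3(3), SU_3(5): orthonormal frames and coded matrices of their stabilisers.
-/
import Mathlib
import Cfsg.Agent.Aschbacher.Un.Lists.UThreeGen

set_option autoImplicit false
set_option linter.style.haveILetI false

namespace Cfsg.Agent.Aschbacher

open Matrix
open Cfsg.Geo
open Cfsg.Agent.Classical

namespace UThree

variable {F : Type*} [Field F] [Fintype F] {p : ℕ} [CharP F p] {η : F}

omit [Fintype F] [CharP F p] in
theorem μ_oneMat (hp : p.Prime) : μ p η oneMat = 1 := by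
  ext i j
  fin_cases i <;> fin_cases j <;> simp [μ, κ, oneMat, ι, Nat.div_eq_of_lt hp.one_lt]

/-- A root of `X² + X + 2` from a cube root of unity, in characteristic five. -/
theorem eta_of_omega [CharP F 5] {ω : F} (h : ω ^ 2 + ω + 1 = 0) :
    IsEta 5 (3 * ω + 1) ∧ ι 5 (3 * ω + 1) 13 = ω := by
  haveI : Fact (Nat.Prime 5) := ⟨by norm_num⟩
  have h5 : (5 : F) = 0 := by exact_mod_cast (CharP.cast_eq_zero F 5)
  refine ⟨⟨?_, ?_⟩, ?_⟩
  · linear_combination (9 : F) * h - h5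
  · have hw : ω ^ 3 = 1 := by linear_combination (ω - 1) * h
    rw [add_pow_char, mul_pow, one_pow, show (3 : F) ^ 5 = 3 by linear_combination (48 : F) * h5,
      show ω ^ 5 = ω ^ 2 by linear_combination ω ^ 2 * hw]
    linear_combination (3 : F) * h
  · norm_num [ι]
    linear_combination (ω + 3) * h5

variable (hF : Fintype.card F = p ^ 2)

/-- The orthonormal frames. -/
structure IsFrame (B : Matrix (Fin 3) (Fin 3) F) : Prop where
  det_ne : B.det ≠ 0
  gram : Bᵀ * B.map (qAut hF) = 1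

include hF in
omit [CharP F p] in
theorem isFrame_of_cols {w : Fin 3 → Fin 3 → F}
    (hw : ∀ i j, Cfsg.hermForm 3 F p (w i) (w j) = if i = j then 1 else 0) :
    IsFrame hF (Matrix.of fun x i => w i x) := by
  have hBB : (Matrix.of fun x i => w i x)ᵀ * (Matrix.of fun x i => w i x).map (qAut hF) = 1 := by
    ext i j
    rw [Matrix.one_apply, ← hw i j]
    rfl
  refine ⟨fun h => ?_, hBB⟩
  have h1 := congrArg Matrix.det hBB
  rw [Matrix.det_mul, Matrix.det_transpose, h, zero_mul, Matrix.det_one] at h1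
  exact zero_ne_one h1

variable {hF}

omit [CharP F p] in
theorem IsFrame.exists_conj {B : Matrix (Fin 3) (Fin 3) F} (hB : IsFrame hF B) {g : GL (Fin 3) F}
    (hg : g ∈ suGL 3 F p) :
    ∃ A : Matrix (Fin 3) (Fin 3) F, (g : Matrix (Fin 3) (Fin 3) F) * B = B * A ∧
      Aᵀ * A.map (qAut hF) = 1 ∧ A.det = 1 := by
  have hu : IsUnit B.det := isUnit_iff_ne_zero.2 hB.det_ne
  refine ⟨B⁻¹ * ((g : Matrix (Fin 3) (Fin 3) F) * B), ?_, ?_, ?_⟩
  · rw [← mul_assoc, Matrix.mul_nonsing_inv _ hu, one_mul]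
  · set A := B⁻¹ * ((g : Matrix (Fin 3) (Fin 3) F) * B)
    have e : B * A = (g : Matrix (Fin 3) (Fin 3) F) * B := by
      rw [← mul_assoc, Matrix.mul_nonsing_inv _ hu, one_mul]
    clear_value A
    have hm : ∀ M N : Matrix (Fin 3) (Fin 3) F, (M * N).map (qAut hF) = M.map (qAut hF) * N.map (qAut hF) :=
      fun M N => Matrix.map_mul
    have h1 := (mem_GU_matrix hF).1 hg.1
    calc Aᵀ * A.map (qAut hF) = Aᵀ * (Bᵀ * B.map (qAut hF)) * A.map (qAut hF) := by rw [hB.gram, mul_one]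
      _ = (B * A)ᵀ * (B * A).map (qAut hF) := by rw [hm, Matrix.transpose_mul]; simp only [mul_assoc]
      _ = Bᵀ * ((g : Matrix (Fin 3) (Fin 3) F)ᵀ * (g : Matrix (Fin 3) (Fin 3) F).map (qAut hF)) *
            B.map (qAut hF) := by rw [e, hm, Matrix.transpose_mul]; simp only [mul_assoc]
      _ = 1 := by rw [h1, mul_one, hB.gram]
  · rw [Matrix.det_mul, Matrix.det_mul, mem_specialLinear.1 hg.2, one_mul, ← Matrix.det_mul,
      Matrix.nonsing_inv_mul _ hu, Matrix.det_one]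

/-- A unitary coded matrix with columns in a list is one of the frames. -/
theorem exists_frames_code (hp : p = 3 ∨ p = 5) (h : IsEta p η) {l : List C3}
    {A : Matrix (Fin 3) (Fin 3) F} (hA : Aᵀ * A.map (qAut hF) = 1) (hdet : A.det = 1)
    (hcol : ∀ j, ∃ v ∈ l, (fun i => A i j) = κ p η v) :
    ∃ M ∈ frames p l, A = μ p η M := by
  have hpp := prime_of hp
  have h0 : (0 : ℕ) < p ^ 2 := pow_pos hpp.pos 2
  have h1 : (1 : ℕ) < p ^ 2 := Nat.one_lt_pow two_ne_zero hpp.one_lt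
  choose v hv hcv using hcol
  have hAμ : A = μ p η (v 0, v 1, v 2) := by
    ext i j
    rw [show A i j = (fun i => A i j) i from rfl, hcv]
    fin_cases j <;> rfl
  have hherm : ∀ a b, cHerm p oneMat (v a) (v b) = if a = b then 1 else 0 := fun a b => by
    have e := κ_herm hpp h oneMat (v a) (v b)
    rw [μ_oneMat hpp, Matrix.one_mulVec, ← hcv, ← hcv] at e
    have e2 : (Aᵀ * A.map (qAut hF)) a b = ι p η (cHerm p oneMat (v a) (v b)) := e
    rw [hA, Matrix.one_apply] at e2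
    split_ifs at e2 ⊢ with hab
    · exact ι_inj hp h (cPack_lt hpp.pos _ _) h1 (by rw [← e2, ι_one hpp])
    · exact ι_inj hp h (cPack_lt hpp.pos _ _) h0 (by rw [← e2, ι_zero])
  refine ⟨(v 0, v 1, v 2), ?_, hAμ⟩
  simp only [frames, List.mem_flatMap, List.mem_filter, List.mem_map, Bool.and_eq_true, beq_iff_eq]
  refine ⟨v 0, hv 0, v 1, ⟨hv 1, hherm 0 1⟩, ⟨v 2, ⟨hv 2, hherm 0 2, hherm 1 2⟩, rfl⟩, ?_⟩
  refine ι_inj hp h ?_ h1 (by rw [← det_μ hpp.pos h, ← hAμ, hdet, ι_one hpp])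
  exact cPack_lt hpp.pos _ _

/-- A unitary coded matrix with columns on some lines is one of the frames. -/
theorem exists_unitsOn_code (hp : p = 3 ∨ p = 5) (h : IsEta p η) {l : List C3}
    {A : Matrix (Fin 3) (Fin 3) F} (hA : Aᵀ * A.map (qAut hF) = 1) (hdet : A.det = 1)
    (hcol : ∀ j, ∃ r ∈ l, ∃ c : F, (fun i => A i j) = c • κ p η r) :
    ∃ M ∈ frames p (unitsOn p l), A = μ p η M := by
  have hpp := prime_of hp
  refine exists_frames_code hp h hA hdet fun j => ?_
  obtain ⟨r, hr, c, e⟩ := hcol j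
  obtain ⟨s, hs, rfl⟩ := ι_surj hp h hF c
  rw [← κ_smul hpp.pos h] at e
  refine ⟨cSmul p s r, ?_, e⟩
  simp only [unitsOn, List.mem_filter, List.mem_flatMap, List.mem_map, List.mem_range, beq_iff_eq]
  refine ⟨⟨r, hr, s, hs, rfl⟩, ι_inj hp h (cPack_lt hpp.pos _ _) (Nat.one_lt_pow two_ne_zero hpp.one_lt) ?_⟩
  have e2 := κ_herm hpp h oneMat (cSmul p s r) (cSmul p s r)
  rw [μ_oneMat hpp, Matrix.one_mulVec, ← e] at e2
  rw [← e2, ι_one hpp, show (fun i => A i j) ⬝ᵥ (fun i => A i j ^ p) = (Aᵀ * A.map (qAut hF)) j j from rfl,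
    hA, Matrix.one_apply_eq]

end UThree

end Cfsg.Agent.Aschbacher
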