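/-
SU_3(5): the monomial group is not maximal.
-/
import Mathlib
import Cfsg.Agent.Aschbacher.Un.Lists.UThreeFrames

set_option autoImplicit false
set_option linter.style.haveILetI false

namespace Cfsg.Agent.Aschbacher

open Matrix
open Cfsg.Geo
open Cfsg.Agent.Classical

namespace UThree

variable {F : Type*} [Field F] [Fintype F]

theorem charP_of_card {p : ℕ} (hp : p.Prime) (hF : Fintype.card F = p ^ 2) : CharP F p := by
  obtain ⟨k, hr, hk⟩ := FiniteField.card F (ringChar F)
  have h : ringChar F ∣ p ^ 2 := by rw [← hF, hk]; exact dvd_pow_self _ k.pos.ne'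
  exact (Nat.prime_dvd_prime_iff_eq hr hp).1 (hr.dvd_of_dvd_pow h) ▸ ringChar.charP F

theorem exists_omega (hF : Fintype.card F = 5 ^ 2) : ∃ ω : F, ω ^ 2 + ω + 1 = 0 := by
  haveI : Fact (Nat.Prime 3) := ⟨by norm_num⟩
  obtain ⟨u, hu⟩ := exists_prime_orderOf_dvd_card' (G := Fˣ) 3 (by
    rw [Nat.card_units, Nat.card_eq_fintype_card, hF]; norm_num)
  refine ⟨(u : F), ?_⟩
  have hprim : IsPrimitiveRoot (u : F) 3 := by
    rw [← hu]; exact IsPrimitiveRoot.coe_units_iff.2 (IsPrimitiveRoot.orderOf u)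
  have h := hprim.geom_sum_eq_zero (by norm_num)
  simp only [Finset.sum_range_succ, Finset.sum_range_zero, zero_add, pow_zero, pow_one] at h
  linear_combination h

theorem exists_eta_five (hF : Fintype.card F = 5 ^ 2) : ∃ η : F, IsEta 5 η := by
  haveI := charP_of_card (by norm_num : Nat.Prime 5) hF
  obtain ⟨ω, hω⟩ := exists_omega hF
  exact ⟨_, (eta_of_omega hω).1⟩

theorem exists_frame_of_decomposition {p : ℕ} (hF : Fintype.card F = p ^ 2)
    {D : Fin 3 → Submodule F (Fin 3 → F)}
    (hD : IsNondegenerateMDecomposition (Cfsg.hermForm 3 F p) 1 D) :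
    ∃ B, IsFrame hF B ∧ ∀ i, D i = Submodule.span F {fun x => B x i} := by
  classical
  have hframe : ∀ i, ∃ w ∈ D i, Cfsg.hermForm 3 F p w w = 1 := by
    intro i
    obtain ⟨v, hv, hv0⟩ := Submodule.exists_mem_ne_zero_of_ne_bot (p := D i) (fun h => by
      have := hD.decomp.finrank_eq i; rw [h, finrank_bot] at this; omega)
    obtain ⟨x, hx, hxv⟩ := (hD.nondegenerate i v hv hv0).1
    have hspan : D i = Submodule.span F {v} := by
      refine (Submodule.eq_of_le_of_finrank_le ((Submodule.span_singleton_le_iff_mem _ _).2 hv) ?_).symm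
      rw [hD.decomp.finrank_eq, finrank_span_singleton hv0]
    rw [hspan, Submodule.mem_span_singleton] at hx
    obtain ⟨a, rfl⟩ := hx
    rw [Unitary.H_smul_left] at hxv
    obtain ⟨y, hy⟩ := UnitaryCount.exists_norm_eq hF (μ := (Cfsg.hermForm 3 F p v v)⁻¹)
      (inv_ne_zero (right_ne_zero_of_mul hxv)) (by rw [inv_pow, Unitary.H_conj hF])
    refine ⟨y • v, (D i).smul_mem _ hv, ?_⟩
    rw [UnitaryCount.hermForm_smul_smul, hy, inv_mul_cancel₀ (right_ne_zero_of_mul hxv)]
  choose w hwD hww using hframe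
  refine ⟨_, isFrame_of_cols hF (w := w) (fun i j => ?_), fun i => ?_⟩
  · by_cases h : i = j
    · subst h; simp [hww]
    · rw [if_neg h]; exact hD.orthogonal i j h _ (hwD i) _ (hwD j)
  · have hw0 : w i ≠ 0 := fun h => by have := hww i; rw [h, Unitary.H_zero_left] at this; exact zero_ne_one this
    refine (Submodule.eq_of_le_of_finrank_le ((Submodule.span_singleton_le_iff_mem _ _).2 (hwD i)) ?_).symm
    rw [hD.decomp.finrank_eq, finrank_span_singleton hw0]

/-- The monomial group is not maximal in SU_3(5). -/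
theorem not_maximal_mono {q : ℕ} (hq : q = 5) (hF : Fintype.card F = q ^ 2)
    {D : Fin 3 → Submodule F (Fin 3 → F)}
    (hD : IsNondegenerateMDecomposition (Cfsg.hermForm 3 F q) 1 D) :
    ¬ IsMaximalIn (suGL 3 F q) (decompositionStabilizer D ⊓ suGL 3 F q) := by
  subst hq
  have h5 : Nat.Prime 5 := by norm_num
  haveI := charP_of_card h5 hF
  obtain ⟨η, hη⟩ := exists_eta_five hF
  obtain ⟨B, hB, hspan⟩ := exists_frame_of_decomposition hF hD
  refine not_maximal_of_codes hF monoFive monoFive_valid rfl hη hB.det_ne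
    (hB.gram.trans (μ_oneMat h5).symm) inf_le_right fun g hg => ?_
  obtain ⟨A, hgB, hA, hdet⟩ := hB.exists_conj hg.2
  obtain ⟨σ, hσ⟩ := hg.1
  obtain ⟨M, hM, rfl⟩ := exists_unitsOn_code (Or.inr rfl) hη (l := axisPts) hA hdet fun j => by
    have h1 : (g : Matrix (Fin 3) (Fin 3) F) *ᵥ (fun x => B x j) ∈ D (σ j) := by
      rw [← hσ j]
      exact Submodule.mem_map_of_mem (f := Matrix.toLin' (g : Matrix (Fin 3) (Fin 3) F)) (p := D j)
        (by rw [hspan j]; exact Submodule.mem_span_singleton_self _)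
    rw [hspan, Submodule.mem_span_singleton] at h1
    obtain ⟨c, hc⟩ := h1
    have hcol : B *ᵥ (fun i => A i j) = B *ᵥ (c • Pi.single (σ j) 1) := by
      rw [Matrix.mulVec_smul, Matrix.mulVec_single_one]
      show (fun x => (B * A) x j) = c • fun x => B x (σ j)
      rw [hc, ← hgB]
      rfl
    have hcol' := Matrix.mulVec_injective_iff_isUnit.2
      ((Matrix.isUnit_iff_isUnit_det B).2 (isUnit_iff_ne_zero.2 hB.det_ne)) hcol
    refine ⟨![((1, 0, 0) : C3), (0, 1, 0), (0, 0, 1)] (σ j), ?_, c, ?_⟩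
    · generalize σ j = k; fin_cases k <;> simp [axisPts]
    · rw [hcol']
      congr 1
      generalize σ j = k
      funext i
      fin_cases k <;> fin_cases i <;> simp [κ, ι]
  exact ⟨M, List.mem_cons_of_mem _ hM, oneMat, List.mem_cons_self, 1, by
    rw [hgB, μ_oneMat h5, mul_one, one_smul]⟩

end UThree

end Cfsg.Agent.Aschbacher
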