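/-
SU_3(5): the normaliser of an extraspecial group of order 27 is not maximal.
-/
import Mathlib
import Cfsg.Agent.Aschbacher.Un.Lists.UThreeMono

set_option autoImplicit false
set_option linter.style.haveILetI false

namespace Cfsg.Agent.Aschbacher

open Matrix
open Cfsg.Geo
open Cfsg.Agent.Classical

namespace UThree

/-- Cube roots of unity. -/
theorem cube_root_cases {F : Type*} [Field F] {ω : F} (h : ω ^ 2 + ω + 1 = 0) {x : F} (hx : x ^ 3 = 1) :
    x = 1 ∨ x = ω ∨ x = ω ^ 2 := by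
  have e : (x - 1) * ((x - ω) * (x - ω ^ 2)) = 0 := by
    linear_combination hx + (x - x ^ 2 + (ω - 1) * (x - 1)) * h
  rcases mul_eq_zero.1 e with e | e
  · exact Or.inl (sub_eq_zero.1 e)
  · rcases mul_eq_zero.1 e with e | e
    · exact Or.inr (Or.inl (sub_eq_zero.1 e))
    · exact Or.inr (Or.inr (sub_eq_zero.1 e))

variable {F : Type*} [Field F] [Fintype F]

/-- A group of order 27 of symplectic type inside the similarities is, in a suitable frame, the Pauli group. -/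
theorem exists_hesse_data (hF : Fintype.card F = 5 ^ 2) {R : Subgroup (GL (Fin 3) F)}
    (hR : IsSymplecticTypeGroup 3 R) (habs : ActsAbsolutelyIrreducibly (matrixSet R))
    (hsim : R ≤ similarityGroup (Cfsg.hermForm 3 F 5)) (hcard : Nat.card R = 27)
    (hZ : Nat.card (Subgroup.center R) = 3) :
    ∃ (B : Matrix (Fin 3) (Fin 3) F) (a b : GL (Fin 3) F) (ω lam : F), IsFrame hF B ∧ a ∈ R ∧ b ∈ R ∧
      ω ^ 2 + ω + 1 = 0 ∧ lam ^ 3 = 1 ∧
      (a : Matrix (Fin 3) (Fin 3) F) * B = B * Matrix.diagonal ![lam, lam * ω, lam * ω ^ 2] ∧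
      (b : Matrix (Fin 3) (Fin 3) F) * B = B * !![0, 0, 1; 1, 0, 0; 0, 1, 0] ∧
      (∀ x ∈ R, x ^ 3 = 1) ∧
      ∀ x ∈ R, ∀ y ∈ R, ∃ ν : F, ν ^ 3 = 1 ∧
        (x : Matrix (Fin 3) (Fin 3) F) * (y : Matrix (Fin 3) (Fin 3) F) =
          ν • ((y : Matrix (Fin 3) (Fin 3) F) * (x : Matrix (Fin 3) (Fin 3) F)) := by
  classical
  have hexp : ∀ x ∈ R, x ^ 3 = 1 := fun x hx => by
    have h1 := Monoid.pow_exponent_eq_one (⟨x, hx⟩ : R)
    rw [hR.exponent_eq, show (3 : ℕ) * Nat.gcd 2 3 = 3 from rfl] at h1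
    exact congrArg Subtype.val h1
  have hGU : R ≤ Cfsg.GU 3 F 5 := le_GU_of_coprime hF (by norm_num) hsim hexp (by norm_num)
  haveI : Finite R := Nat.finite_of_card_ne_zero (by omega)
  haveI : Fact (Nat.Prime 3) := ⟨Nat.prime_three⟩
  have hq : Nat.card (R ⧸ Subgroup.center R) = 3 ^ 2 := by
    have := Subgroup.card_eq_card_quotient_mul_card_subgroup (Subgroup.center R)
    rw [hcard, hZ] at this
    omega
  have hcomm : ∀ x ∈ R, ∀ y ∈ R, ∃ ν : F, ν ^ 3 = 1 ∧
      (x : Matrix (Fin 3) (Fin 3) F) * (y : Matrix (Fin 3) (Fin 3) F) =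
        ν • ((y : Matrix (Fin 3) (Fin 3) F) * (x : Matrix (Fin 3) (Fin 3) F)) := by
    intro x hx y hy
    let u : R := (⟨x, hx⟩ * ⟨y, hy⟩) * (⟨y, hy⟩ * ⟨x, hx⟩)⁻¹
    have hu : u ∈ Subgroup.center R := by
      rw [← QuotientGroup.eq_one_iff]
      show QuotientGroup.mk' (Subgroup.center R) u = 1
      rw [map_mul, map_inv, map_mul, map_mul,
        IsPGroup.commutative_of_card_eq_prime_sq hq (QuotientGroup.mk' (Subgroup.center R) ⟨x, hx⟩)]
      exact mul_inv_cancel _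
    obtain ⟨ν, hν⟩ := habs.2 ((u : GL (Fin 3) F) : Matrix (Fin 3) (Fin 3) F) (by
      rintro _ ⟨s, hs, rfl⟩
      have := congrArg (fun z : R => (z : GL (Fin 3) F)) (Subgroup.mem_center_iff.1 hu ⟨s, hs⟩)
      exact congrArg Units.val this.symm)
    refine ⟨ν, ?_, ?_⟩
    · have h1 := congrArg (fun z : GL (Fin 3) F => (z : Matrix (Fin 3) (Fin 3) F)) (hexp _ u.2)
      simp only [Units.val_pow_eq_pow_val, Units.val_one, hν, smul_pow, one_pow] at h1
      have h2 := congrFun (congrFun h1 0) 0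
      simpa using h2
    · have h1 : x * y = (u : GL (Fin 3) F) * (y * x) := by
        simp only [u, Subgroup.coe_mul, Subgroup.coe_inv]; group
      rw [← Units.val_mul, h1, Units.val_mul, hν, Units.val_mul, Matrix.smul_mul, one_mul]
  obtain ⟨a, ha, b, hb, hab⟩ : ∃ a ∈ R, ∃ b ∈ R, a * b ≠ b * a := by
    by_contra hc
    push Not at hc
    have htop : Subgroup.center R = ⊤ := eq_top_iff.2 fun x _ =>
      Subgroup.mem_center_iff.2 fun y => Subtype.ext (hc _ y.2 _ x.2)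
    rw [htop, Subgroup.card_top, hcard] at hZ
    omega
  obtain ⟨ν, hν3, hν⟩ := hcomm a ha b hb
  have hν1 : ν ≠ 1 := fun e => hab (Units.ext (by rw [e, one_smul] at hν; exact hν))
  have hω : ν ^ 2 + ν + 1 = 0 :=
    (mul_eq_zero.1 (show (ν - 1) * (ν ^ 2 + ν + 1) = 0 by linear_combination hν3)).resolve_left
      (sub_ne_zero.2 hν1)
  set am := (a : Matrix (Fin 3) (Fin 3) F) with ham
  set bm := (b : Matrix (Fin 3) (Fin 3) F) with hbm
  have ha3 : ∀ v, am *ᵥ (am *ᵥ (am *ᵥ v)) = v := fun v => by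
    rw [Matrix.mulVec_mulVec, Matrix.mulVec_mulVec, ham, ← Units.val_mul, ← Units.val_mul,
      ← pow_three', hexp a ha, Units.val_one, Matrix.one_mulVec]
  have hb3 : ∀ v, bm *ᵥ (bm *ᵥ (bm *ᵥ v)) = v := fun v => by
    rw [Matrix.mulVec_mulVec, Matrix.mulVec_mulVec, hbm, ← Units.val_mul, ← Units.val_mul,
      ← pow_three', hexp b hb, Units.val_one, Matrix.one_mulVec]
  have hisoA : ∀ u v, Cfsg.hermForm 3 F 5 (am *ᵥ u) (am *ᵥ v) = Cfsg.hermForm 3 F 5 u v := fun u v => by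
    have := (mem_GU hF).1 (hGU ha) u v
    rwa [hermData_form] at this
  have hisoB : ∀ u v, Cfsg.hermForm 3 F 5 (bm *ᵥ u) (bm *ᵥ v) = Cfsg.hermForm 3 F 5 u v := fun u v => by
    have := (mem_GU hF).1 (hGU hb) u v
    rwa [hermData_form] at this
  -- an eigenvector of `a`
  obtain ⟨lam, v, hl3, hv0, hav⟩ : ∃ (lam : F) (v : Fin 3 → F), lam ^ 3 = 1 ∧ v ≠ 0 ∧ am *ᵥ v = lam • v := by
    set e : Fin 3 → F := Pi.single 0 1 with he
    by_contra hc
    push Not at hc
    have h0 : ∀ μ : F, μ ^ 3 = 1 → μ ^ 2 • e + μ • (am *ᵥ e) + am *ᵥ (am *ᵥ e) = 0 := fun μ hμ => by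
      by_contra hne
      refine hc μ _ hμ hne ?_
      rw [Matrix.mulVec_add, Matrix.mulVec_add, Matrix.mulVec_smul, Matrix.mulVec_smul, ha3]
      funext i
      simp only [Pi.add_apply, Pi.smul_apply, smul_eq_mul]
      linear_combination (-(e i)) * hμ
    have hz : (3 : F) • (am *ᵥ (am *ᵥ e)) = 0 := by
      have e1 := h0 1 (one_pow 3)
      have e2 := h0 ν hν3
      have e3 := h0 (ν ^ 2) (by linear_combination (ν ^ 3 + 1) * hν3)
      funext i
      have f1 := congrFun e1 i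
      have f2 := congrFun e2 i
      have f3 := congrFun e3 i
      simp only [Pi.add_apply, Pi.smul_apply, smul_eq_mul, Pi.zero_apply] at f1 f2 f3 ⊢
      linear_combination f1 + f2 + f3 - (e i * ((ν ^ 2 - ν + 1))) * hω - (am *ᵥ e) i * hω
    haveI := charP_of_card (by norm_num : Nat.Prime 5) hF
    have h3 : (3 : F) ≠ 0 := fun h => by
      have := (CharP.cast_eq_zero_iff F 5 3).1 (by exact_mod_cast h)
      norm_num at this
    have hzero := (smul_eq_zero.1 hz).resolve_left h3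
    have := congrFun (ha3 e) 0
    rw [hzero, Matrix.mulVec_zero, he, Pi.single_eq_same, Pi.zero_apply] at this
    exact zero_ne_one this
  -- its orbit under `b`
  let w : Fin 3 → Fin 3 → F := ![v, bm *ᵥ v, bm *ᵥ (bm *ᵥ v)]
  let Λ : Fin 3 → F := ![lam, lam * ν, lam * ν ^ 2]
  have hab' : ∀ x, am *ᵥ (bm *ᵥ x) = ν • (bm *ᵥ (am *ᵥ x)) := fun x => by
    rw [Matrix.mulVec_mulVec, hν, Matrix.smul_mulVec, Matrix.mulVec_mulVec]
  have hwa : ∀ i, am *ᵥ w i = Λ i • w i := by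
    intro i
    fin_cases i
    · exact hav
    · show am *ᵥ (bm *ᵥ v) = (lam * ν) • (bm *ᵥ v)
      rw [hab', hav, Matrix.mulVec_smul, smul_smul, mul_comm]
    · show am *ᵥ (bm *ᵥ (bm *ᵥ v)) = (lam * ν ^ 2) • (bm *ᵥ (bm *ᵥ v))
      rw [hab', hab', hav]
      simp only [Matrix.mulVec_smul, smul_smul]
      congr 1; ring
  have hl0 : lam ≠ 0 := fun e => by rw [e] at hl3; simp at hl3
  have hν0 : ν ≠ 0 := fun e => by rw [e] at hν3; simp at hν3
  have hΛ : Function.Injective Λ := by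
    have h2 : ν * ν ≠ 1 := fun e => hν1 (by linear_combination hν3 - ν * e)
    intro i j hij
    fin_cases i <;> fin_cases j <;> simp [Λ, hl0, hν1, h2, hν0, sq] at hij ⊢
  have hΛ6 : ∀ i, Λ i * Λ i ^ 5 = 1 := by
    intro i
    rw [← pow_succ', show (5 + 1 : ℕ) = 3 * 2 from rfl, pow_mul]
    fin_cases i <;> simp [Λ, mul_pow, hl3, hν3, ← pow_mul]
    rw [show 12 = 3 * 4 from rfl, pow_mul, hν3]; simp
  have hw0 : ∀ i, w i ≠ 0 := by
    intro i
    fin_cases i
    · exact hv0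
    · exact fun e => hv0 (by rw [← hb3 v, show bm *ᵥ v = 0 from e, Matrix.mulVec_zero, Matrix.mulVec_zero])
    · exact fun e => hv0 (by rw [← hb3 v, show bm *ᵥ (bm *ᵥ v) = 0 from e, Matrix.mulVec_zero])
  have horth : ∀ i j, i ≠ j → Cfsg.hermForm 3 F 5 (w i) (w j) = 0 := by
    intro i j hij
    have h1 := hisoA (w i) (w j)
    rw [hwa, hwa, Unitary.H_smul_left, Unitary.H_smul_right, ← mul_assoc] at h1
    by_contra hne
    have h2 : Λ i * Λ j ^ 5 = 1 := mul_right_cancel₀ hne (by rw [h1, one_mul])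
    exact hij (hΛ (mul_right_cancel₀ (right_ne_zero_of_mul_eq_one (hΛ6 j)) (h2.trans (hΛ6 j).symm)))
  have hli : LinearIndependent F w :=
    Module.End.eigenvectors_linearIndependent' (Matrix.toLin' am) Λ hΛ w fun i =>
      Module.End.hasEigenvector_iff.2 ⟨Module.End.mem_eigenspace_iff.2 (by rw [Matrix.toLin'_apply]; exact hwa i),
        hw0 i⟩
  have hsame : ∀ i, Cfsg.hermForm 3 F 5 (w i) (w i) = Cfsg.hermForm 3 F 5 v v := by
    intro i
    fin_cases i
    · rfl
    · exact hisoB v v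
    · exact (hisoB _ _).trans (hisoB v v)
  have hvv : Cfsg.hermForm 3 F 5 v v ≠ 0 := by
    intro e
    refine hv0 (Unitary.eq_zero_of_H hF fun x => ?_)
    have hx : x ∈ Submodule.span F (Set.range w) := by
      rw [hli.span_eq_top_of_card_eq_finrank' (by simp)]; trivial
    induction hx using Submodule.span_induction with
    | mem y hy =>
      obtain ⟨i, rfl⟩ := hy
      by_cases h : 0 = i
      · subst h; exact e
      · exact horth 0 i h
    | zero => simp [Cfsg.hermForm]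
    | add y z _ _ h1 h2 => rw [Unitary.H_add_right hF, h1, h2, add_zero]
    | smul c y _ h1 => rw [Unitary.H_smul_right, h1, mul_zero]
  obtain ⟨y, hy⟩ := UnitaryCount.exists_norm_eq hF (μ := (Cfsg.hermForm 3 F 5 v v)⁻¹) (inv_ne_zero hvv)
    (by rw [inv_pow, Unitary.H_conj hF])
  let w' : Fin 3 → Fin 3 → F := fun i => y • w i
  have hB := isFrame_of_cols hF (w := w') fun i j => by
    show Cfsg.hermForm 3 F 5 (y • w i) (y • w j) = _
    rw [Unitary.H_smul_left, Unitary.H_smul_right, ← mul_assoc, ← pow_succ', hy]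
    by_cases h : i = j
    · subst h; rw [hsame, inv_mul_cancel₀ hvv, if_pos rfl]
    · rw [horth i j h, mul_zero, if_neg h]
  refine ⟨_, a, b, ν, lam, hB, ha, hb, hω, hl3, ?_, ?_, hexp, hcomm⟩
  · ext x i
    show (am *ᵥ w' i) x = _
    rw [Matrix.mul_diagonal, show am *ᵥ w' i = Λ i • w' i by
      show am *ᵥ (y • w i) = Λ i • (y • w i)
      rw [Matrix.mulVec_smul, hwa, smul_comm]]
    exact mul_comm _ _
  · have hwb : ∀ i, bm *ᵥ w' i = w' (i + 1) := by
      intro i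
      show bm *ᵥ (y • w i) = y • w (i + 1)
      rw [Matrix.mulVec_smul]
      congr 1
      fin_cases i
      · rfl
      · rfl
      · exact hb3 v
    ext x i
    show (bm *ᵥ w' i) x = _
    rw [hwb, Matrix.mul_apply, Fin.sum_univ_three]
    fin_cases i <;> simp

variable [CharP F 5]

/-- An eigenvector with simple eigenvalue of an element of the group lies on a Hesse line. -/
theorem mem_hesse_line (hF : Fintype.card F = 5 ^ 2) {R : Subgroup (GL (Fin 3) F)}
    {B : Matrix (Fin 3) (Fin 3) F} (hB : IsFrame hF B) {a b : GL (Fin 3) F} {ω lam : F}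
    (ha : a ∈ R) (hb : b ∈ R) (hω : ω ^ 2 + ω + 1 = 0) (hl : lam ^ 3 = 1)
    (haB : (a : Matrix (Fin 3) (Fin 3) F) * B = B * Matrix.diagonal ![lam, lam * ω, lam * ω ^ 2])
    (hbB : (b : Matrix (Fin 3) (Fin 3) F) * B = B * !![0, 0, 1; 1, 0, 0; 0, 1, 0])
    (hexp : ∀ x ∈ R, x ^ 3 = 1)
    (hcomm : ∀ x ∈ R, ∀ y ∈ R, ∃ ν : F, ν ^ 3 = 1 ∧
      (x : Matrix (Fin 3) (Fin 3) F) * (y : Matrix (Fin 3) (Fin 3) F) =
        ν • ((y : Matrix (Fin 3) (Fin 3) F) * (x : Matrix (Fin 3) (Fin 3) F)))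
    {x : GL (Fin 3) F} (hx : x ∈ R) {u : Fin 3 → F} (hu : u ≠ 0) {μ₀ : F}
    (hxu : (x : Matrix (Fin 3) (Fin 3) F) *ᵥ (B *ᵥ u) = μ₀ • (B *ᵥ u))
    (hsimple : ∀ w, (x : Matrix (Fin 3) (Fin 3) F) *ᵥ w = μ₀ • w → ∃ c : F, w = c • (B *ᵥ u)) :
    ∃ r ∈ hessePts, ∃ c : F, u = c • κ 5 (3 * ω + 1) r := by
  obtain ⟨hη, h13⟩ := eta_of_omega hω
  have hω3 : ω ^ 3 = 1 := by linear_combination (ω - 1) * hω
  have h16 : ι 5 (3 * ω + 1) 16 = ω ^ 2 := by
    rw [show (16 : ℕ) = cMul 5 13 13 by decide, ι_mul (by norm_num) hη, h13, sq]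
  have h1 : ι 5 (3 * ω + 1) 1 = 1 := ι_one (by norm_num)
  have hBinj : Function.Injective (B *ᵥ ·) :=
    Matrix.mulVec_injective_iff_isUnit.2 ((Matrix.isUnit_iff_isUnit_det B).2 (isUnit_iff_ne_zero.2 hB.det_ne))
  -- commuting elements of the group fix the vector up to a scalar
  have hfix : ∀ y ∈ R, (y : Matrix (Fin 3) (Fin 3) F) * (x : Matrix (Fin 3) (Fin 3) F) =
      (x : Matrix (Fin 3) (Fin 3) F) * y → ∃ c : F, c ^ 3 = 1 ∧
      (y : Matrix (Fin 3) (Fin 3) F) *ᵥ (B *ᵥ u) = c • (B *ᵥ u) := by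
    intro y hy hyx
    obtain ⟨c, hc⟩ := hsimple ((y : Matrix (Fin 3) (Fin 3) F) *ᵥ (B *ᵥ u)) (by
      rw [Matrix.mulVec_mulVec, ← hyx, ← Matrix.mulVec_mulVec, hxu, Matrix.mulVec_smul])
    refine ⟨c, ?_, hc⟩
    have e : ((y ^ 3 : GL (Fin 3) F) : Matrix (Fin 3) (Fin 3) F) *ᵥ (B *ᵥ u) = (c * c * c) • (B *ᵥ u) := by
      rw [pow_three', Units.val_mul, Units.val_mul, ← Matrix.mulVec_mulVec, hc,
        Matrix.mulVec_smul, ← Matrix.mulVec_mulVec, hc, Matrix.mulVec_smul, hc, smul_smul, smul_smul]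
    rw [hexp y hy, Units.val_one, Matrix.one_mulVec] at e
    have hBu : B *ᵥ u ≠ 0 := fun e0 => hu (hBinj (e0.trans (Matrix.mulVec_zero B).symm))
    have e2 : ((c * c * c) - 1) • (B *ᵥ u) = 0 := by rw [sub_smul, one_smul, ← e, sub_self]
    linear_combination (smul_eq_zero.1 e2).resolve_right hBu
  obtain ⟨α, hα3, hα⟩ := hcomm a ha x hx
  obtain ⟨β, hβ3, hβ⟩ := hcomm b hb x hx
  by_cases hα1 : α = 1
  · -- an axis
    rw [hα1, one_smul] at hα
    obtain ⟨c, -, hc⟩ := hfix a ha hα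
    rw [Matrix.mulVec_mulVec, haB, ← Matrix.mulVec_mulVec, ← Matrix.mulVec_smul] at hc
    have e := hBinj hc
    have hl0 : lam ≠ 0 := fun e0 => by rw [e0] at hl; simp at hl
    have hω1 : ω ≠ 1 := fun e0 => by
      rw [e0] at hω
      have : ((3 : ℕ) : F) = 0 := by push_cast; linear_combination hω
      rw [CharP.cast_eq_zero_iff F 5] at this
      norm_num at this
    have hω2 : ω * ω ≠ 1 := fun e0 => hω1 (by linear_combination hω3 - ω * e0)
    have hω0 : ω ≠ 0 := fun e0 => by rw [e0] at hω3; simp at hω3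
    obtain ⟨k, hk⟩ : ∃ k, u k ≠ 0 := by
      by_contra hall; push Not at hall; exact hu (funext hall)
    have hd : ∀ i, i ≠ k → u i = 0 := fun i hi => by
      have ei := congrFun e i
      have ek := congrFun e k
      rw [Matrix.mulVec_diagonal, Pi.smul_apply, smul_eq_mul] at ei ek
      have ec : ![lam, lam * ω, lam * ω ^ 2] k = c := mul_right_cancel₀ hk ek
      by_contra hne
      have ec' : ![lam, lam * ω, lam * ω ^ 2] i = c := mul_right_cancel₀ hne ei
      have : ![lam, lam * ω, lam * ω ^ 2] i = ![lam, lam * ω, lam * ω ^ 2] k := ec'.trans ec.symm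
      fin_cases i <;> fin_cases k <;> simp [hl0, hω1, hω2, hω0, sq] at hi this
    refine ⟨![((1, 0, 0) : C3), (0, 1, 0), (0, 0, 1)] k, ?_, u k, ?_⟩
    · fin_cases k <;> simp [hessePts]
    · funext i
      by_cases hi : i = k
      · subst hi; fin_cases i <;> simp [κ, ι]
      · rw [hd i hi, Pi.smul_apply, smul_eq_mul]
        fin_cases k <;> fin_cases i <;> simp [κ, ι] at hi ⊢
  · -- a point with non-zero coordinates
    have hβ0 : ∃ m : ℕ, β * α ^ m = 1 := by
      rcases cube_root_cases hω hα3 with e | e | e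
      · exact absurd e hα1
      all_goals rcases cube_root_cases hω hβ3 with e' | e' | e'
      all_goals subst e'; subst e
      · exact ⟨0, by simp⟩
      · exact ⟨2, by linear_combination hω3⟩
      · exact ⟨1, by linear_combination hω3⟩
      · exact ⟨0, by simp⟩
      · exact ⟨1, by linear_combination hω3⟩
      · exact ⟨2, by linear_combination (ω ^ 3 + 1) * hω3⟩
    obtain ⟨m, hm⟩ := hβ0
    have hpow : ∀ k : ℕ, ((a ^ k : GL (Fin 3) F) : Matrix (Fin 3) (Fin 3) F) * (x : Matrix (Fin 3) (Fin 3) F) =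
        α ^ k • ((x : Matrix (Fin 3) (Fin 3) F) * ((a ^ k : GL (Fin 3) F) : Matrix (Fin 3) (Fin 3) F)) := by
      intro k
      induction k with
      | zero => simp
      | succ k ih =>
        rw [pow_succ, Units.val_mul, mul_assoc, hα, Matrix.mul_smul, ← mul_assoc, ih, Matrix.smul_mul, smul_smul,
          ← pow_succ', mul_assoc]
    obtain ⟨c, hc3, hc⟩ := hfix (b * a ^ m) (mul_mem hb (pow_mem ha m)) (by
      rw [Units.val_mul, mul_assoc, hpow, Matrix.mul_smul, ← mul_assoc, hβ, Matrix.smul_mul, smul_smul,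
        mul_comm, hm, one_smul, mul_assoc])
    set δ : Fin 3 → F := fun i => ![lam, lam * ω, lam * ω ^ 2] i ^ m with hδ
    have haBm : ((a ^ m : GL (Fin 3) F) : Matrix (Fin 3) (Fin 3) F) * B = B * Matrix.diagonal δ := by
      clear hm hc hpow
      induction m with
      | zero => simp [hδ]
      | succ k ih =>
        rw [pow_succ, Units.val_mul, mul_assoc, haB, ← mul_assoc, ih rfl, mul_assoc, Matrix.diagonal_mul_diagonal]
        congr 2
        funext i
        simp only [hδ]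
        exact (pow_succ _ _).symm
    rw [Units.val_mul, Matrix.mulVec_mulVec, mul_assoc, haBm, ← mul_assoc, hbB, mul_assoc,
      ← Matrix.mulVec_mulVec, ← Matrix.mulVec_smul] at hc
    have e := hBinj hc
    rw [← Matrix.mulVec_mulVec] at e
    have e0 := congrFun e 0
    have e1 := congrFun e 1
    have e2 := congrFun e 2
    simp only [Matrix.mulVec, dotProduct, Fin.sum_univ_three] at e0 e1 e2
    simp [Matrix.diagonal] at e0 e1 e2
    have hδ3 : ∀ i, δ i ^ 3 = 1 := fun i => by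
      have hd : ∀ i, ![lam, lam * ω, lam * ω ^ 2] i ^ 3 = 1 := by
        intro i
        fin_cases i <;> simp [mul_pow, hl, hω3]
        linear_combination (ω ^ 3 + 1) * hω3
      simp only [hδ]
      rw [← pow_mul, Nat.mul_comm, pow_mul, hd, one_pow]
    have hu1 : u 1 = c ^ 2 * δ 0 * u 0 := by linear_combination c ^ 2 * (-e1) - u 1 * hc3
    have hu2 : u 2 = c ^ 2 * δ 1 * u 1 := by linear_combination c ^ 2 * (-e2) - u 2 * hc3
    have code : ∀ z : F, z ^ 3 = 1 → ∃ n ∈ [1, 13, 16], ι 5 (3 * ω + 1) n = z := fun z hz => by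
      rcases cube_root_cases hω hz with rfl | rfl | rfl
      · exact ⟨1, by simp, h1⟩
      · exact ⟨13, by simp, h13⟩
      · exact ⟨16, by simp, h16⟩
    obtain ⟨n1, hn1, e1'⟩ := code (c ^ 2 * δ 0) (by
      linear_combination (c ^ 3 + 1) * δ 0 ^ 3 * hc3 + hδ3 0)
    obtain ⟨n2, hn2, e2'⟩ := code (c ^ 2 * δ 1 * (c ^ 2 * δ 0)) (by
      linear_combination (c ^ 9 + c ^ 6 + c ^ 3 + 1) * δ 1 ^ 3 * δ 0 ^ 3 * hc3 + δ 1 ^ 3 * hδ3 0 + hδ3 1)
    refine ⟨(1, n1, n2), ?_, u 0, ?_⟩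
    · revert n1 n2
      simp [hessePts]
    · funext i
      fin_cases i
      · simp [κ, h1]
      · simp [κ, e1']; rw [hu1]; ring
      · simp [κ, e2']; rw [hu2, hu1]; ring

omit [CharP F 5] in
/-- The normaliser of the extraspecial group is not maximal in SU_3(5). -/
theorem not_maximal_hesse {q : ℕ} (hq : q = 5) (hF : Fintype.card F = q ^ 2) {R : Subgroup (GL (Fin 3) F)}
    (hR : IsSymplecticTypeGroup 3 R) (habs : ActsAbsolutelyIrreducibly (matrixSet R))
    (hsim : R ≤ similarityGroup (Cfsg.hermForm 3 F q)) (hcard : Nat.card R = 27)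
    (hZ : Nat.card (Subgroup.center R) = 3) :
    ¬ IsMaximalIn (suGL 3 F q) (subgroupNormalizer R ⊓ suGL 3 F q) := by
  subst hq
  have h5 : Nat.Prime 5 := by norm_num
  haveI := charP_of_card h5 hF
  obtain ⟨B, a, b, ω, lam, hB, ha, hb, hω, hl, haB, hbB, hexp, hcomm⟩ := exists_hesse_data hF hR habs hsim hcard hZ
  obtain ⟨hη, -⟩ := eta_of_omega hω
  have hBu : IsUnit B := (Matrix.isUnit_iff_isUnit_det B).2 (isUnit_iff_ne_zero.2 hB.det_ne)
  refine not_maximal_of_codes hF hesseFive hesseFive_valid rfl hη hB.det_ne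
    (hB.gram.trans (μ_oneMat h5).symm) inf_le_right fun g hg => ?_
  have hline : ∀ y ∈ R, ∀ u : Fin 3 → F, u ≠ 0 → ∀ μ₀ : F,
      (y : Matrix (Fin 3) (Fin 3) F) *ᵥ (B *ᵥ u) = μ₀ • (B *ᵥ u) →
      (∀ w, (y : Matrix (Fin 3) (Fin 3) F) *ᵥ w = μ₀ • w → ∃ c : F, w = c • (B *ᵥ u)) →
      ∀ A : Matrix (Fin 3) (Fin 3) F, (g : Matrix (Fin 3) (Fin 3) F) * B = B * A →
      ∃ r ∈ hessePts, ∃ c : F, A *ᵥ u = c • κ 5 (3 * ω + 1) r := by
    intro y hy u hu μ₀ hyu hsimple A hgB
    have hgu : (g : Matrix (Fin 3) (Fin 3) F) *ᵥ (B *ᵥ u) = B *ᵥ (A *ᵥ u) := by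
      rw [Matrix.mulVec_mulVec, hgB, Matrix.mulVec_mulVec]
    have hx : g * y * g⁻¹ ∈ R := (Subgroup.mem_normalizer_iff.1 hg.1 y).1 hy
    have hgg : ∀ z : Fin 3 → F, ((g⁻¹ : GL (Fin 3) F) : Matrix (Fin 3) (Fin 3) F) *ᵥ
        ((g : Matrix (Fin 3) (Fin 3) F) *ᵥ z) = z := fun z => by
      rw [Matrix.mulVec_mulVec, Units.inv_mul, Matrix.one_mulVec]
    have hgg' : ∀ z : Fin 3 → F, (g : Matrix (Fin 3) (Fin 3) F) *ᵥ
        (((g⁻¹ : GL (Fin 3) F) : Matrix (Fin 3) (Fin 3) F) *ᵥ z) = z := fun z => by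
      rw [Matrix.mulVec_mulVec, Units.mul_inv, Matrix.one_mulVec]
    refine mem_hesse_line hF hB ha hb hω hl haB hbB hexp hcomm hx (u := A *ᵥ u) (μ₀ := μ₀) ?_ ?_ ?_
    · intro e
      rw [e, Matrix.mulVec_zero] at hgu
      have := hgg (B *ᵥ u)
      rw [hgu, Matrix.mulVec_zero] at this
      exact hu (Matrix.mulVec_injective_iff_isUnit.2 hBu (this.symm.trans (Matrix.mulVec_zero B).symm))
    · rw [← hgu, Units.val_mul, Units.val_mul, ← Matrix.mulVec_mulVec, hgg, ← Matrix.mulVec_mulVec, hyu,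
        Matrix.mulVec_smul]
    · intro w hw
      rw [Units.val_mul, Units.val_mul, ← Matrix.mulVec_mulVec, ← Matrix.mulVec_mulVec] at hw
      obtain ⟨c, hc⟩ := hsimple (((g⁻¹ : GL (Fin 3) F) : Matrix (Fin 3) (Fin 3) F) *ᵥ w) (by
        have := congrArg (((g⁻¹ : GL (Fin 3) F) : Matrix (Fin 3) (Fin 3) F) *ᵥ ·) hw
        simpa only [hgg, Matrix.mulVec_smul] using this)
      refine ⟨c, ?_⟩
      rw [← hgg' w, hc, Matrix.mulVec_smul, hgu]
  obtain ⟨A, hgB, hA, hdet⟩ := hB.exists_conj hg.2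
  have hω1 : ω ≠ 1 := fun e0 => by
    rw [e0] at hω
    have : ((3 : ℕ) : F) = 0 := by push_cast; linear_combination hω
    rw [CharP.cast_eq_zero_iff F 5] at this
    norm_num at this
  have hω3 : ω ^ 3 = 1 := by linear_combination (ω - 1) * hω
  have hω2 : ω * ω ≠ 1 := fun e0 => hω1 (by linear_combination hω3 - ω * e0)
  have hω0 : ω ≠ 0 := fun e0 => by rw [e0] at hω3; simp at hω3
  have hl0 : lam ≠ 0 := fun e0 => by rw [e0] at hl; simp at hl
  obtain ⟨M, hM, rfl⟩ := exists_unitsOn_code (Or.inr rfl) hη (l := hessePts) hA hdet fun j => by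
    obtain ⟨r, hr, c, e⟩ := hline a ha (Pi.single j 1) (by simp) (![lam, lam * ω, lam * ω ^ 2] j)
      (by
        rw [Matrix.mulVec_mulVec, haB, ← Matrix.mulVec_mulVec, Matrix.diagonal_mulVec_single, mul_one,
          ← Matrix.mulVec_smul]
        congr 1
        funext i
        by_cases h : i = j
        · subst h; simp
        · simp [h])
      (fun w hw => by
        obtain ⟨v, rfl⟩ := Matrix.mulVec_surjective_iff_isUnit.2 hBu w
        rw [Matrix.mulVec_mulVec, haB, ← Matrix.mulVec_mulVec, ← Matrix.mulVec_smul] at hw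
        have e := Matrix.mulVec_injective_iff_isUnit.2 hBu hw
        refine ⟨v j, ?_⟩
        rw [← Matrix.mulVec_smul]
        congr 1
        funext i
        by_cases h : i = j
        · subst h; simp
        · simp only [Pi.smul_apply, Pi.single_eq_of_ne h, smul_zero]
          have ei := congrFun e i
          rw [Matrix.mulVec_diagonal, Pi.smul_apply, smul_eq_mul] at ei
          by_contra hne
          have := mul_right_cancel₀ hne ei
          fin_cases i <;> fin_cases j <;> simp [hl0, hω1, hω2, hω0, sq] at h this)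
      A hgB
    refine ⟨r, hr, c, ?_⟩
    rw [← e, Matrix.mulVec_single_one]
    rfl
  refine ⟨M, List.mem_cons_of_mem _ (List.mem_filter.2 ⟨hM, ?_⟩), oneMat, List.mem_cons_self, 1, by
    rw [hgB, μ_oneMat h5, mul_one, one_smul]⟩
  obtain ⟨r, hr, c, e⟩ := hline b hb ![1, 1, 1] (fun e => by simpa using congrFun e 0) 1
    (by
      rw [Matrix.mulVec_mulVec, hbB, ← Matrix.mulVec_mulVec, one_smul]
      congr 1
      funext i
      fin_cases i <;> simp [Matrix.mulVec, dotProduct, Fin.sum_univ_three])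
    (fun w hw => by
      obtain ⟨v, rfl⟩ := Matrix.mulVec_surjective_iff_isUnit.2 hBu w
      rw [Matrix.mulVec_mulVec, hbB, ← Matrix.mulVec_mulVec, one_smul] at hw
      have e := Matrix.mulVec_injective_iff_isUnit.2 hBu hw
      refine ⟨v 0, ?_⟩
      rw [← Matrix.mulVec_smul]
      congr 1
      have e1 := congrFun e 1
      have e2 := congrFun e 2
      simp [Matrix.mulVec, dotProduct, Fin.sum_univ_three] at e1 e2
      funext i
      fin_cases i <;> simp [← e1, ← e2])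
    _ hgB
  have hk : (![1, 1, 1] : Fin 3 → F) = κ 5 (3 * ω + 1) (1, 1, 1) := by
    funext i; fin_cases i <;> simp [κ, ι]
  obtain ⟨s, -, rfl⟩ := ι_surj (Or.inr rfl) hη hF c
  rw [hk, κ_app (by norm_num) hη, ← κ_smul (by norm_num) hη] at e
  exact (mem_cone_iff (Or.inr rfl) hη hF (B := (1 : Matrix (Fin 3) (Fin 3) F)) (by simp)
    hesseFive_valid.bits2_eq (v := cApp 5 M (1, 1, 1))
    (show Red 5 (cApp 5 M (1, 1, 1)) from red_cAddV (by norm_num) _ _)).1 ⟨r, hr, s, by rw [e]⟩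

end UThree

end Cfsg.Agent.Aschbacher
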