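/-
SU_3(3), SU_3(5): the normaliser of a cubic field is not maximal.
-/
import Mathlib
import Cfsg.Agent.Aschbacher.Un.Lists.UThreeHesse

set_option autoImplicit false
set_option linter.style.haveILetI false

namespace Cfsg.Agent.Aschbacher

open Matrix
open Cfsg.Geo
open Cfsg.Agent.Classical

namespace UThree

/-- A bijection commuting with an injective semilinear map has determinant fixed by the field automorphism. -/
lemma det_pow_eq_of_commute {F : Type*} [Field F] [Fintype F] {p : ℕ} [Fact p.Prime] [CharP F p]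
    (hF : Fintype.card F = p ^ 2) {W : Type*} [AddCommGroup W] [Module F W] [FiniteDimensional F W]
    (f : W →ₗ[F] W) (φ : W →+ W) (hφi : Function.Injective φ) (hφ : ∀ (c : F) x, φ (c • x) = c ^ p • φ x)
    (hcomm : ∀ x, f (φ x) = φ (f x)) : LinearMap.det f ^ p = LinearMap.det f := by
  classical
  have hpp : ∀ c : F, (c ^ p) ^ p = c := fun c => by
    have := FiniteField.pow_card c
    rw [hF, sq] at this
    rw [← pow_mul]
    exact this
  set b := Module.finBasis F W with hb
  have hli : LinearIndependent F (fun i => φ (b i)) := by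
    rw [Fintype.linearIndependent_iff]
    intro c hc j
    have h1 : φ (∑ i, c i ^ p • b i) = 0 := by
      rw [map_sum]; simp only [hφ, hpp]; exact hc
    have h2 := Fintype.linearIndependent_iff.1 b.linearIndependent _ (hφi (h1.trans φ.map_zero.symm)) j
    exact pow_eq_zero_iff (Fact.out : p.Prime).ne_zero |>.1 h2
  let b' := Module.Basis.mk hli (hli.span_eq_top_of_card_eq_finrank' (Fintype.card_fin _)).ge
  set A := LinearMap.toMatrix b b f with hA
  have hA' : LinearMap.toMatrix b' b' f = A.map (fun c => c ^ p) := by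
    ext i j
    rw [LinearMap.toMatrix_apply, Module.Basis.mk_apply, hcomm]
    have h1 : φ (f (b j)) = ∑ k, (A k j) ^ p • b' k := by
      conv_lhs => rw [← b.sum_repr (f (b j)), map_sum]
      simp only [hφ, b', Module.Basis.mk_apply, hA, LinearMap.toMatrix_apply]
    rw [h1, b'.repr_sum_self]
    rfl
  calc LinearMap.det f ^ p = A.det ^ p := by rw [hA, LinearMap.det_toMatrix]
    _ = (A.map (fun c => c ^ p)).det := RingHom.map_det (frobenius F p) A
    _ = LinearMap.det f := by rw [← hA', LinearMap.det_toMatrix]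

/-- The code of `Tr z^k`. -/
def gTr (p k : ℕ) : ℕ := if k = 0 then 3 % p else if k = 1 ∨ k = 2 ∨ k = 4 then p else cBar p p

variable {F : Type*} [Field F] [Fintype F]

set_option maxHeartbeats 1600000 in
theorem not_maximal_field_three_aux {p : ℕ} (hp : p = 3 ∨ p = 5) (hF : Fintype.card F = p ^ 2) (D : Data)
    (hD : D.Valid) (hDp : D.p = p)
    (hDm : D.mats = fieldMats p)
    (hDg : D.gram = ((gTr p 0, gTr p 1, gTr p 2), (gTr p 6, gTr p 0, gTr p 1), (gTr p 5, gTr p 6, gTr p 0)))
    {K : Type*} [Field K] [Algebra F K] (hK3 : Module.finrank F K = 3)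
    (ρ : K →ₐ[F] Matrix (Fin 3) (Fin 3) F) (τ : K → K)
    (hτ : ∀ k u v, Cfsg.hermForm 3 F p (ρ k *ᵥ u) v = Cfsg.hermForm 3 F p u (ρ (τ k) *ᵥ v))
    {N : Subgroup (GL (Fin 3) F)} (hN : N ≤ suGL 3 F p) (hnorm : ∀ g ∈ N, ∀ k, ∃ k',
      (g : Matrix (Fin 3) (Fin 3) F) * ρ k = ρ k' * (g : Matrix (Fin 3) (Fin 3) F)) :
    ¬ IsMaximalIn (suGL 3 F p) N := by
  classical
  have hpp := prime_of hp
  haveI : Fact p.Prime := ⟨hpp⟩
  haveI := charP_of_card hpp hF
  haveI : Module.Finite F K := Module.finite_of_finrank_pos (by omega)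
  haveI : Finite K := Module.finite_of_finite F
  letI : Fintype K := Fintype.ofFinite K
  haveI : CharP K p := charP_of_injective_algebraMap (algebraMap F K).injective p
  have hK6 : Fintype.card K = p ^ 6 := by
    rw [Module.card_eq_pow_finrank (K := F) (V := K), hF, hK3, ← pow_mul]
  have hF2 : ∀ c : F, (c ^ p) ^ p = c := fun c => Unitary.pow_qq hF c
  have h6 : ∀ x : K, x ^ p ^ 6 = x := fun x => by
    have := FiniteField.pow_card x; rw [hK6] at this; exact this
  have hρi : Function.Injective ρ := ρ.toRingHom.injective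
  have huniq : ∀ x y : K, (∀ u v, Cfsg.hermForm 3 F p u (ρ x *ᵥ v) = Cfsg.hermForm 3 F p u (ρ y *ᵥ v)) → x = y := by
    intro x y h
    apply hρi
    refine Matrix.ext_iff_mulVec.2 fun v => sub_eq_zero.1 (Unitary.eq_zero_of_H hF fun u => ?_)
    rw [← Unitary.H_conj hF, Unitary.H_sub_right hF, h u v, sub_self, zero_pow hpp.ne_zero]
  -- the adjoint map
  have τadd : ∀ x y, τ (x + y) = τ x + τ y := fun x y => huniq _ _ fun u v => by
    rw [← hτ, map_add, map_add, Matrix.add_mulVec, Matrix.add_mulVec, Unitary.H_add_left,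
      Unitary.H_add_right hF, hτ, hτ]
  have τone : τ 1 = 1 := huniq _ _ fun u v => by rw [← hτ, map_one, Matrix.one_mulVec, Matrix.one_mulVec]
  have τmul : ∀ x y, τ (x * y) = τ x * τ y := fun x y => huniq _ _ fun u v => by
    rw [← hτ, map_mul, mul_comm (τ x), map_mul, ← Matrix.mulVec_mulVec, ← Matrix.mulVec_mulVec, hτ, hτ]
  have τalg : ∀ c : F, τ (algebraMap F K c) = algebraMap F K (c ^ p) := fun c => huniq _ _ fun u v => by
    rw [← hτ, AlgHom.commutes, AlgHom.commutes, Algebra.algebraMap_eq_smul_one, Algebra.algebraMap_eq_smul_one,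
      Matrix.smul_mulVec, Matrix.smul_mulVec, Matrix.one_mulVec, Matrix.one_mulVec, Unitary.H_smul_left,
      Unitary.H_smul_right, hF2]
  have ττ : ∀ x, τ (τ x) = x := fun x => huniq _ _ fun u v => by
    rw [← hτ, ← Unitary.H_conj hF, ← hτ, Unitary.H_conj hF]
  have hgal : ∀ ψ : K →ₐ[F] K, ∃ i : ℕ, i < 3 ∧ ∀ x, ψ x = x ^ (p ^ (2 * i)) := fun ψ => by
    haveI : Algebra.IsAlgebraic F K := Algebra.IsAlgebraic.of_finite F K
    obtain ⟨i, hi⟩ := (FiniteField.bijective_frobeniusAlgHom_pow F K).2 ψ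
    refine ⟨i.1, hK3 ▸ i.2, fun x => ?_⟩
    rw [← hi, AlgHom.coe_pow, FiniteField.coe_frobeniusAlgHom, pow_iterate, hF, ← pow_mul]
  have hnot2 : ¬ ∀ x : K, x ^ p ^ 2 = x := fun h => by
    have h1 : 1 < p ^ 2 := Nat.one_lt_pow two_ne_zero hpp.one_lt
    have hle : (Finset.univ : Finset K).card ≤
        (Polynomial.X ^ (p ^ 2) - Polynomial.X : Polynomial K).roots.toFinset.card :=
      Finset.card_le_card fun y _ => by
        rw [Multiset.mem_toFinset, Polynomial.mem_roots (FiniteField.X_pow_card_sub_X_ne_zero K h1)]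
        simp [h y]
    have h2 := hle.trans ((Multiset.toFinset_card_le _).trans (Polynomial.card_roots' _))
    rw [Finset.card_univ, hK6, FiniteField.X_pow_card_sub_X_natDegree_eq K h1] at h2
    exact absurd h2 (not_le.2 (Nat.pow_lt_pow_right hpp.one_lt (by norm_num)))
  have hmod6 : ∀ (x : K) (m : ℕ), x ^ p ^ m = x ^ p ^ (m % 6) := fun x m => by
    conv_lhs => rw [← Nat.mod_add_div m 6, pow_add, pow_mul]
    generalize x ^ p ^ (m % 6) = y
    induction m / 6 with
    | zero => simp
    | succ d ih => rw [Nat.mul_succ, pow_add, pow_mul, ih, h6]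
  have τ3 : ∀ x, τ x = x ^ p ^ 3 := by
    obtain ⟨i, hi, hψ⟩ := hgal
      { toFun := fun x => τ x ^ p
        map_one' := by rw [τone, one_pow]
        map_mul' := fun x y => by rw [τmul, mul_pow]
        map_zero' := by
          have h0 := τadd 0 0
          rw [add_zero] at h0
          rw [left_eq_add.1 h0, zero_pow hpp.ne_zero]
        map_add' := fun x y => by rw [τadd, add_pow_char]
        commutes' := fun c => by rw [τalg, ← map_pow, hF2] }
    have hx : ∀ x, τ x = x ^ p ^ (2 * i + 5) := fun x => by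
      have h1 : τ x ^ p = x ^ p ^ (2 * i) := hψ x
      rw [← h6 (τ x), show p ^ 6 = p * p ^ 5 by rw [← pow_succ'], pow_mul, h1, ← pow_mul, ← pow_add]
    have hsq : ∀ x : K, x ^ p ^ ((4 * i + 10) % 6) = x := fun x => by
      have h1 := ττ x
      rw [hx, hx, ← pow_mul, ← pow_add, show 2 * i + 5 + (2 * i + 5) = 4 * i + 10 by ring, hmod6] at h1
      exact h1
    obtain rfl | rfl | rfl : i = 0 ∨ i = 1 ∨ i = 2 := by omega
    · refine absurd (fun x => ?_) hnot2
      have h1 : (x ^ p ^ 4) ^ p ^ 4 = x := by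
        have h := hsq x
        norm_num at h
        rw [h, h]
      rw [← pow_mul, ← pow_add, hmod6] at h1
      exact h1
    · exact absurd (fun x => by simpa using hsq x) hnot2
    · intro x
      rw [hx, hmod6]
  -- the trace
  set Tr := Algebra.trace F K with hTrdef
  have hTr : ∀ x : K, algebraMap F K (Tr x) = x + x ^ p ^ 2 + x ^ p ^ 4 := fun x => by
    rw [hTrdef, FiniteField.algebraMap_trace_eq_sum_pow, hK3, Nat.card_eq_fintype_card, hF]
    simp [Finset.sum_range_succ, ← pow_mul, ← pow_add]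
  have hTrp : ∀ x, Tr (x ^ p) = Tr x ^ p := fun x => by
    apply (algebraMap F K).injective
    rw [hTr, map_pow, hTr, add_pow_char, add_pow_char]
    simp only [← pow_mul, mul_comm]
  -- an element of order seven
  haveI : Fact (Nat.Prime 7) := ⟨by norm_num⟩
  obtain ⟨zu, hzu⟩ := exists_prime_orderOf_dvd_card' (G := Kˣ) 7 (by
    rw [Nat.card_units, Nat.card_eq_fintype_card, hK6]
    rcases hp with rfl | rfl <;> norm_num)
  set z : K := (zu : K) with hzdef
  have hzprim : IsPrimitiveRoot z 7 := by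
    rw [← hzu]; exact IsPrimitiveRoot.coe_units_iff.2 (IsPrimitiveRoot.orderOf zu)
  have hz7 : z ^ 7 = 1 := hzprim.pow_eq_one
  have hmod : ∀ k, z ^ k = z ^ (k % 7) := fun k => pow_eq_pow_mod k hz7
  have hphi : 1 + z + z ^ 2 + z ^ 3 + z ^ 4 + z ^ 5 + z ^ 6 = 0 := by
    have h := hzprim.geom_sum_eq_zero (by norm_num)
    simpa [Finset.sum_range_succ] using h
  have hTrz : ∀ k, algebraMap F K (Tr (z ^ k)) = z ^ (k % 7) + z ^ (k * 2 % 7) + z ^ (k * 4 % 7) := fun k => by
    rw [hTr, ← pow_mul, ← pow_mul, hmod k, hmod (k * p ^ 2), hmod (k * p ^ 4)]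
    rcases hp with rfl | rfl
    · rw [show k * 3 ^ 2 % 7 = k * 2 % 7 by omega, show k * 3 ^ 4 % 7 = k * 4 % 7 by omega]
    · rw [show k * 5 ^ 2 % 7 = k * 4 % 7 by omega, show k * 5 ^ 4 % 7 = k * 2 % 7 by omega]
      ring
  set η : F := Tr z with hηdef
  have hηK : algebraMap F K η = z + z ^ 2 + z ^ 4 := by
    have := hTrz 1
    rw [pow_one] at this
    rw [hηdef, this]
  have hη : IsEta p η := by
    constructor
    · apply (algebraMap F K).injective
      rw [map_pow, map_sub, map_neg, map_ofNat, hηK]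
      linear_combination 2 * hphi + z * hz7
    · apply (algebraMap F K).injective
      rw [map_pow, map_sub, map_neg, map_one, hηK, add_pow_char, add_pow_char, ← pow_mul, ← pow_mul,
        hmod p, hmod (2 * p), hmod (4 * p)]
      rcases hp with rfl | rfl <;> norm_num <;> linear_combination hphi
  have hskew := skew_ne_zero hp hη
  have h2 : (2 : F) ≠ 0 := fun e => by
    have := (CharP.cast_eq_zero_iff F p 2).1 (by exact_mod_cast e)
    rcases hp with rfl | rfl <;> norm_num at this
  have hη0 : η ≠ 0 := fun e => h2 (by linear_combination hη.sq + (-1 - η) * e)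
  have hTrnd : ∀ x, (∀ w, Tr (x * w) = 0) → x = 0 := fun x h => by
    by_contra hx
    have h3 := h (x⁻¹ * z)
    rw [← mul_assoc, mul_inv_cancel₀ hx, one_mul] at h3
    exact hη0 h3
  have hprod : ∀ (x y : K) (v w : Fin 3 → F), Cfsg.hermForm 3 F p (ρ x *ᵥ v) (ρ y *ᵥ w) =
      Cfsg.hermForm 3 F p (ρ (x * τ y) *ᵥ v) w := fun x y v w => by
    rw [mul_comm, map_mul, ← Matrix.mulVec_mulVec, hτ (τ y), ττ]
  -- a vector with the trace as its functional
  obtain ⟨v0, hv0⟩ : ∃ v0 : Fin 3 → F, ∀ x, Cfsg.hermForm 3 F p (ρ x *ᵥ v0) v0 = Tr x := by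
    set e1 : Fin 3 → F := Pi.single 0 1 with he1
    let T : K →ₗ[F] F :=
      { toFun := fun x => Cfsg.hermForm 3 F p (ρ x *ᵥ e1) e1
        map_add' := fun x y => by rw [map_add, Matrix.add_mulVec, Unitary.H_add_left]
        map_smul' := fun c x => by rw [map_smul, Matrix.smul_mulVec, Unitary.H_smul_left]; rfl }
    let dual : K →ₗ[F] Module.Dual F K :=
      { toFun := fun c => Tr ∘ₗ LinearMap.mulLeft F c
        map_add' := fun a b => LinearMap.ext fun x => by simp [add_mul]
        map_smul' := fun a b => LinearMap.ext fun x => by simp }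
    have hinj : Function.Injective dual := fun a b h => sub_eq_zero.1 (hTrnd _ fun w => by
      have := LinearMap.congr_fun h w
      simp only [dual, LinearMap.coe_mk, AddHom.coe_mk, LinearMap.comp_apply, LinearMap.mulLeft_apply] at this
      rw [sub_mul, map_sub, this, sub_self])
    obtain ⟨c, hc⟩ := (LinearMap.injective_iff_surjective_of_finrank_eq_finrank
      Subspace.dual_finrank_eq.symm).1 hinj T
    have hc' : ∀ x, T x = Tr (c * x) := fun x => by rw [← hc]; rfl
    have hTτ : ∀ x, T (τ x) = T x ^ p := fun x => by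
      show Cfsg.hermForm 3 F p (ρ (τ x) *ᵥ e1) e1 = Cfsg.hermForm 3 F p (ρ x *ᵥ e1) e1 ^ p
      rw [Unitary.H_conj hF, hτ, ττ]
    have hTrτ : ∀ x, Tr (τ x) = Tr x ^ p := fun x => by
      rw [τ3, show p ^ 3 = p * p * p by ring, pow_mul, pow_mul, hTrp, hTrp, hTrp, hF2]
    have hcτ : τ c = c := by
      refine sub_eq_zero.1 (hTrnd _ fun w => ?_)
      have h1 := hTτ (τ w)
      rw [ττ, hc', hc', ← hTrτ, τmul, ττ] at h1
      rw [sub_mul, map_sub, h1, sub_self]
    have hc0 : c ≠ 0 := fun h => by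
      have h1 : T 1 = 1 := by
        show Cfsg.hermForm 3 F p (ρ 1 *ᵥ e1) e1 = 1
        rw [map_one, Matrix.one_mulVec, he1, Unitary.H_single_single hF, if_pos rfl]
      rw [hc', h, zero_mul, map_zero] at h1
      exact zero_ne_one h1
    let τh : K →+* K := { toFun := τ, map_one' := τone, map_mul' := τmul
                          map_zero' := by rw [τ3, zero_pow (pow_ne_zero _ hpp.ne_zero)], map_add' := τadd }
    have hmoved : τh (algebraMap F K η) ≠ algebraMap F K η := fun h => hskew (by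
      have h1 : η ^ p = η := (algebraMap F K).injective ((τalg η).symm.trans h)
      rw [hη.conj] at h1
      linear_combination -h1)
    obtain ⟨k, hk⟩ := exists_mul_map_eq τh ττ hmoved (l := c⁻¹) (by rw [map_inv₀]; exact congrArg _ hcτ)
      (inv_ne_zero hc0)
    refine ⟨ρ k *ᵥ e1, fun x => ?_⟩
    rw [Matrix.mulVec_mulVec, ← map_mul, hprod]
    show T _ = _
    rw [hc', mul_assoc x, show k * τ k = c⁻¹ from hk, mul_comm x, ← mul_assoc, mul_inv_cancel₀ hc0, one_mul]
  let ε : K →ₗ[F] (Fin 3 → F) :=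
    { toFun := fun x => ρ x *ᵥ v0
      map_add' := fun x y => by rw [map_add, Matrix.add_mulVec]
      map_smul' := fun c x => by rw [map_smul, Matrix.smul_mulVec]; rfl }
  have hεε : ∀ x y, Cfsg.hermForm 3 F p (ε x) (ε y) = Tr (x * τ y) := fun x y => by
    show Cfsg.hermForm 3 F p (ρ x *ᵥ v0) (ρ y *ᵥ v0) = _
    rw [hprod, hv0]
  have hεinj : Function.Injective ε := fun x y h => sub_eq_zero.1 (hTrnd _ fun w => by
    have h1 := hεε (x - y) (τ w)
    rw [map_sub, h, sub_self, Unitary.H_zero_left, ττ] at h1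
    exact h1.symm)
  have hεsurj : Function.Surjective ε := (LinearMap.injective_iff_surjective_of_finrank_eq_finrank
    (by rw [hK3, Module.finrank_fin_fun])).1 hεinj
  set B : Matrix (Fin 3) (Fin 3) F := Matrix.of fun x i => ε (z ^ (i : ℕ)) x with hB
  have hli : LinearIndependent F (fun i : Fin 3 => z ^ (i : ℕ)) := by
    haveI : Algebra.IsAlgebraic F K := Algebra.IsAlgebraic.of_finite F K
    have hd : (minpoly F z).natDegree = 3 := by
      have h1 : (minpoly F z).natDegree ∣ 3 := hK3 ▸ minpoly.degree_dvd (Algebra.IsIntegral.isIntegral z)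
      refine ((Nat.dvd_prime Nat.prime_three).1 h1).resolve_left fun h => ?_
      obtain ⟨a, ha⟩ := minpoly.natDegree_eq_one_iff.1 h
      have e : z ^ p ^ 2 = z := by
        rw [← ha, ← map_pow, ← hF, FiniteField.pow_card]
      rw [hmod (p ^ 2)] at e
      nth_rw 2 [← pow_one z] at e
      have := hzprim.pow_inj (Nat.mod_lt _ (by norm_num)) (by norm_num) e
      rcases hp with rfl | rfl <;> norm_num at this
    exact (linearIndependent_pow (K := F) z).comp (Fin.cast hd.symm) (Fin.cast_injective _)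
  have hBdet : B.det ≠ 0 := by
    intro h0
    obtain ⟨y, hy0, hy⟩ := Matrix.exists_mulVec_eq_zero_iff.2 h0
    have h1 : ε (∑ i : Fin 3, y i • z ^ (i : ℕ)) = 0 := by
      rw [← hy, map_sum]
      simp only [map_smul]
      funext x
      simp [Matrix.mulVec, dotProduct, hB, mul_comm]
    exact hy0 (funext (Fintype.linearIndependent_iff.1 hli y (hεinj (h1.trans ε.map_zero.symm))))
  -- codes
  let pol : C3 → K := fun v => algebraMap F K (ι p η v.1) + algebraMap F K (ι p η v.2.1) * z +
    algebraMap F K (ι p η v.2.2) * z ^ 2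
  have hrel : z ^ 3 = 1 + (1 + algebraMap F K η) * z + algebraMap F K η * z ^ 2 := by
    rw [hηK]
    linear_combination -hphi
  have hι1 : ι p η 1 = 1 := ι_one hpp
  have hιp : ι p η p = η := ι_eta hpp.pos
  have hstep : ∀ v, z * pol v = pol (zStep p v) := fun v => by
    simp only [pol, zStep, ι_add hpp.pos, ι_mul hpp.pos hη, hι1, hιp, map_add, map_mul, map_one]
    linear_combination algebraMap F K (ι p η v.2.2) * hrel
  have hpow : ∀ k, pol (zPow p k) = z ^ k := by
    intro k
    induction k with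
    | zero => simp [pol, zPow, hι1, ι_zero]
    | succ k ih => rw [zPow, ← hstep, ih, pow_succ, mul_comm]
  have hBv : ∀ v, B *ᵥ κ p η v = ε (pol v) := fun v => by
    have e : pol v = ι p η v.1 • z ^ 0 + ι p η v.2.1 • z ^ 1 + ι p η v.2.2 • z ^ 2 := by
      simp [pol, Algebra.smul_def]
    rw [e, map_add, map_add, map_smul, map_smul, map_smul]
    funext x
    simp [Matrix.mulVec, dotProduct, hB, κ, Fin.sum_univ_three, mul_comm]
  have happ : ∀ (M : M3) (v : C3), pol (cApp p M v) = algebraMap F K (ι p η v.1) * pol M.1 +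
      algebraMap F K (ι p η v.2.1) * pol M.2.1 + algebraMap F K (ι p η v.2.2) * pol M.2.2 := fun M v => by
    simp only [pol, cApp, cAddV, cSmul, ι_add hpp.pos, ι_mul hpp.pos hη, map_add, map_mul]
    ring
  have hgTr : ∀ k, k < 7 → Tr (z ^ k) = ι p η (gTr p k) := fun k hk => by
    apply (algebraMap F K).injective
    rw [hTrz]
    interval_cases k <;> norm_num [gTr, ι_bar hpp hη, hιp, hη.conj, hηK, map_ofNat]
    · rw [ι, ι_cast, Nat.div_eq_of_lt (Nat.mod_lt _ hpp.pos)]
      simp
      rw [map_ofNat]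
    all_goals first | ring1 | linear_combination hphi
  have hgram : Bᵀ * B.map (qAut hF) = μ p η D.gram := by
    rw [hDg]
    ext a b
    show Cfsg.hermForm 3 F p (ε (z ^ (a : ℕ))) (ε (z ^ (b : ℕ))) = _
    rw [hεε, τ3, ← pow_mul, ← pow_add, hmod, hgTr _ (Nat.mod_lt _ (by norm_num))]
    rcases hp with rfl | rfl <;> fin_cases a <;> fin_cases b <;> rfl
  refine not_maximal_of_codes hF D hD hDp hη hBdet hgram hN fun g hg => ?_
  rw [hDm]
  -- a group element in the field coordinates
  choose σ hσ using hnorm g hg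
  have hiso : ∀ u v, Cfsg.hermForm 3 F p ((g : Matrix (Fin 3) (Fin 3) F) *ᵥ u)
      ((g : Matrix (Fin 3) (Fin 3) F) *ᵥ v) = Cfsg.hermForm 3 F p u v := fun u v => by
    have := (mem_GU hF).1 (hN hg).1 u v
    rwa [hermData_form] at this
  have hgi : ∀ A C : Matrix (Fin 3) (Fin 3) F, A * (g : Matrix (Fin 3) (Fin 3) F) = C * g → A = C := fun A C h => by
    have := congrArg (· * ((g⁻¹ : GL (Fin 3) F) : Matrix (Fin 3) (Fin 3) F)) h
    simpa [mul_assoc, ← Units.val_mul] using this
  let σh : K →ₐ[F] K :=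
    { toFun := σ
      map_one' := hρi (hgi _ _ (by rw [← hσ, map_one, mul_one, one_mul]))
      map_mul' := fun x y => hρi (hgi _ _ (by
        rw [← hσ, map_mul, map_mul, ← mul_assoc, hσ, mul_assoc, hσ, mul_assoc]))
      map_zero' := hρi (hgi _ _ (by rw [← hσ, map_zero, mul_zero, zero_mul]))
      map_add' := fun x y => hρi (hgi _ _ (by rw [← hσ, map_add, map_add, mul_add, hσ, hσ, add_mul]))
      commutes' := fun a => hρi (hgi _ _ (by rw [← hσ, AlgHom.commutes, Algebra.commutes])) }
  obtain ⟨i, hi3, hσi⟩ := hgal σh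
  obtain ⟨a, ha⟩ := hεsurj ((g : Matrix (Fin 3) (Fin 3) F) *ᵥ v0)
  have hgε : ∀ x, (g : Matrix (Fin 3) (Fin 3) F) *ᵥ ε x = ε (σh x * a) := fun x => by
    show (g : Matrix (Fin 3) (Fin 3) F) *ᵥ (ρ x *ᵥ v0) = ρ (σ x * a) *ᵥ v0
    rw [Matrix.mulVec_mulVec, hσ, ← Matrix.mulVec_mulVec, ← ha, map_mul, ← Matrix.mulVec_mulVec]
    rfl
  have hσbij : Function.Bijective σh := σh.bijective
  have hTrσ : ∀ x, Tr (σh x) = Tr x := fun x => by
    rw [hσi]
    clear hσi hi3
    induction i with
    | zero => simp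
    | succ d ih =>
      rw [show p ^ (2 * (d + 1)) = p ^ (2 * d) * p * p by ring, pow_mul, pow_mul, hTrp, hTrp, hF2, ih]
  have haτ : a * τ a = 1 := sub_eq_zero.1 (hTrnd _ fun w => by
    obtain ⟨x, rfl⟩ := hσbij.2 w
    have h1 := hεε (σh x * a) (σh 1 * a)
    rw [← hgε, ← hgε, hiso, hεε, map_one, one_mul, τone, mul_one] at h1
    rw [sub_mul, one_mul, map_sub, hTrσ, sub_eq_zero, h1]
    congr 1
    ring)
  have hap : a ^ (p ^ 3 + 1) = 1 := by rw [pow_succ', ← τ3]; exact haτ
  have hnorm1 : Algebra.norm F a = 1 := by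
    have hdp := det_pow_eq_of_commute hF σh.toLinearMap (AddMonoidHom.mk' (fun x => x ^ p) fun x y => add_pow_char x y p)
      (frobenius_inj K p) (fun c x => by simp [Algebra.smul_def, mul_pow]) (fun x => by simp)
    have hcube : LinearMap.det σh.toLinearMap ^ 3 = 1 := by
      rw [← map_pow, ← LinearMap.det_id (A := F) (M := K)]
      congr 1
      refine LinearMap.ext fun x => ?_
      show (σh.toLinearMap ^ 3) x = x
      rw [Module.End.pow_apply]
      show σh (σh (σh x)) = x
      rw [hσi, hσi, hσi, ← pow_mul, ← pow_mul, ← pow_add, ← pow_add, hmod6,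
        show (2 * i + (2 * i + 2 * i)) % 6 = 0 by omega]
      simp
    have hSdet : LinearMap.det σh.toLinearMap = 1 := by
      rcases hp with rfl | rfl
      · rw [← hdp, hcube]
      · have hne : LinearMap.det σh.toLinearMap ≠ 0 := fun e => by rw [e] at hcube; simp at hcube
        refine mul_right_cancel₀ hne ?_
        rw [one_mul]
        linear_combination hdp - (LinearMap.det σh.toLinearMap) ^ 2 * hcube
    let εe := LinearEquiv.ofBijective ε ⟨hεinj, hεsurj⟩
    have hconj : Matrix.toLin' (g : Matrix (Fin 3) (Fin 3) F) =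
        (εe : K →ₗ[F] (Fin 3 → F)) ∘ₗ (LinearMap.mulLeft F a ∘ₗ σh.toLinearMap) ∘ₗ
          (εe.symm : (Fin 3 → F) →ₗ[F] K) := by
      refine LinearMap.ext fun u => ?_
      obtain ⟨x, rfl⟩ := hεsurj u
      rw [Matrix.toLin'_apply, hgε]
      simp only [LinearMap.comp_apply, LinearEquiv.coe_coe]
      rw [show εe.symm (ε x) = x from εe.symm_apply_apply x]
      show ε _ = ε (a * σh x)
      rw [mul_comm]
    have hdet := congrArg LinearMap.det hconj
    rw [LinearMap.det_toLin', mem_specialLinear.1 (hN hg).2, LinearMap.det_conj, LinearMap.det_comp, hSdet,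
      mul_one] at hdet
    rw [Algebra.norm_apply]
    exact hdet.symm
  have ha91 : a ^ ((p ^ 6 - 1) / (p ^ 2 - 1)) = 1 := by
    have := FiniteField.algebraMap_norm_eq_pow (K := F) (x := a)
    rw [hnorm1, map_one, Nat.card_eq_fintype_card, Nat.card_eq_fintype_card, hK6, hF] at this
    exact this.symm
  obtain ⟨c, m, hm, ham⟩ : ∃ (c : F) (m : ℕ), m < 7 ∧ a = algebraMap F K c * z ^ m := by
    rcases hp with rfl | rfl
    · have ha7 : a ^ 7 = 1 := by
        norm_num at ha91 hap
        rw [show (91 : ℕ) = 28 * 3 + 7 from rfl, pow_add, pow_mul, hap, one_pow, one_mul] at ha91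
        exact ha91
      obtain ⟨m, hm, hma⟩ := hzprim.eq_pow_of_pow_eq_one ha7
      exact ⟨1, m, hm, by rw [map_one, one_mul, hma]⟩
    · have ha21 : a ^ 21 = 1 := by
        norm_num at ha91 hap
        rw [show (651 : ℕ) = 126 * 5 + 21 from rfl, pow_add, pow_mul, hap, one_pow, one_mul] at ha91
        exact ha91
      obtain ⟨ω, hω⟩ := exists_omega hF
      have hωK : algebraMap F K ω ^ 2 + algebraMap F K ω + 1 = 0 := by
        rw [← map_pow, ← map_add, ← map_one (algebraMap F K), ← map_add, hω, map_zero]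
      obtain ⟨m, hm, hma⟩ := hzprim.eq_pow_of_pow_eq_one (ξ := a ^ 15)
        (by rw [← pow_mul, show 15 * 7 = 21 * 5 from rfl, pow_mul, ha21, one_pow])
      have e : a = a ^ 7 * z ^ m := by
        rw [hma, ← pow_add, show 7 + 15 = 21 + 1 from rfl, pow_succ, ha21, one_mul]
      rcases cube_root_cases hωK (x := a ^ 7) (by rw [← pow_mul]; exact ha21) with h | h | h <;> rw [h] at e
      · exact ⟨1, m, hm, by rw [map_one]; exact e⟩
      · exact ⟨ω, m, hm, e⟩
      · exact ⟨ω ^ 2, m, hm, by rw [map_pow]; exact e⟩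
  refine ⟨zMat p m, List.mem_append_left _ (List.mem_map.2 ⟨m, List.mem_range.2 hm, rfl⟩),
    zFrob p i, List.mem_append_right _ (List.mem_map.2 ⟨i, List.mem_range.2 hi3, rfl⟩), c, ?_⟩
  ext x j
  show ((g : Matrix (Fin 3) (Fin 3) F) *ᵥ ε (z ^ (j : ℕ))) x = _
  rw [hgε, hσi, ham]
  have hcol : (fun y => (B * (μ p η (zMat p m) * μ p η (zFrob p i))) y j) =
      ε ((z ^ (j : ℕ)) ^ p ^ (2 * i) * z ^ m) := by
    have e : (fun y => μ p η (zFrob p i) y j) = κ p η (zPow p ((j : ℕ) * p ^ (2 * i) % 7)) := by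
      fin_cases j <;> funext y <;> simp [μ, zFrob]
    show B *ᵥ (μ p η (zMat p m) *ᵥ fun y => μ p η (zFrob p i) y j) = _
    rw [e, κ_app hpp.pos hη, hBv, happ]
    congr 1
    have hw : z ^ ((j : ℕ) * p ^ (2 * i) % 7) = (z ^ (j : ℕ)) ^ p ^ (2 * i) := by rw [← hmod, pow_mul]
    have h0 : pol (zMat p m).1 = z ^ m := by rw [zMat, hpow, ← hmod]
    have h1' : pol (zMat p m).2.1 = z ^ m * z := by rw [zMat, hpow, ← hmod, pow_succ]
    have h2' : pol (zMat p m).2.2 = z ^ m * z ^ 2 := by rw [zMat, hpow, ← hmod, pow_add]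
    rw [← hw, ← hpow ((j : ℕ) * p ^ (2 * i) % 7), h0, h1', h2']
    simp only [pol]
    ring
  have h1 := congrFun hcol x
  rw [Matrix.smul_apply, show (B * (μ p η (zMat p m) * μ p η (zFrob p i))) x j = _ from h1]
  rw [show (z ^ (j : ℕ)) ^ p ^ (2 * i) * (algebraMap F K c * z ^ m) =
    c • ((z ^ (j : ℕ)) ^ p ^ (2 * i) * z ^ m) by rw [Algebra.smul_def]; ring, map_smul]
  rfl

/-- The normaliser of a cubic field is not maximal in SU_3(3) and SU_3(5). -/
theorem not_maximal_field_three {q : ℕ} (hq : q = 3 ∨ q = 5) (hF : Fintype.card F = q ^ 2)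
    {K : Subalgebra F (Matrix (Fin 3) (Fin 3) F)} (hK : IsFieldSubalgebra 3 K)
    (hadj : IsAdjointClosedFor (Cfsg.hermForm 3 F q) K) :
    ¬ IsMaximalIn (suGL 3 F q) (subalgebraNormalizer K ⊓ suGL 3 F q) := by
  classical
  have hf : IsField K :=
    ⟨⟨0, 1, fun h => zero_ne_one (congrArg Subtype.val h)⟩, fun x y => Subtype.ext (hK.comm x x.2 y y.2),
      fun {x} hx => by
        obtain ⟨y, hy, hxy⟩ := hK.inv x x.2 fun h => hx (Subtype.ext h)
        exact ⟨⟨y, hy⟩, Subtype.ext hxy⟩⟩
  letI : Field K := hf.toField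
  choose τ hτK hτ using fun k : K => hadj k k.2
  have hnorm : ∀ g ∈ subalgebraNormalizer K ⊓ suGL 3 F q, ∀ k : K, ∃ k' : K,
      (g : Matrix (Fin 3) (Fin 3) F) * K.val k = K.val k' * (g : Matrix (Fin 3) (Fin 3) F) := fun g hg k => by
    refine ⟨⟨_, (hg.1 k).1 k.2⟩, ?_⟩
    show _ = (g : Matrix (Fin 3) (Fin 3) F) * (k : Matrix (Fin 3) (Fin 3) F) *
      ((g⁻¹ : GL (Fin 3) F) : Matrix (Fin 3) (Fin 3) F) * (g : Matrix (Fin 3) (Fin 3) F)
    rw [mul_assoc _ ((g⁻¹ : GL (Fin 3) F) : Matrix (Fin 3) (Fin 3) F), Units.inv_mul, mul_one]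
    rfl
  rcases hq with rfl | rfl
  · exact not_maximal_field_three_aux (Or.inl rfl) hF fieldThree fieldThree_valid rfl rfl (by decide +kernel)
      (K := K) hK.finrank_eq K.val (fun k => ⟨τ k, hτK k⟩) (fun k u v => hτ k u v) inf_le_right hnorm
  · exact not_maximal_field_three_aux (Or.inr rfl) hF fieldFive fieldFive_valid rfl rfl (by decide +kernel)
      (K := K) hK.finrank_eq K.val (fun k => ⟨τ k, hτK k⟩) (fun k u v => hτ k u v) inf_le_right hnorm

end UThree

end Cfsg.Agent.Aschbacher
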