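/-
SU_3(3), SU_3(5): subfield groups of index two carrying the form.
-/
import Mathlib
import Cfsg.Agent.Aschbacher.Un.Lists.UThreeMono

set_option autoImplicit false
set_option linter.style.haveILetI false

namespace Cfsg.Agent.Aschbacher

open Matrix
open Cfsg.Geo
open Cfsg.Agent.Classical

namespace UThree

/-- A symmetric form in dimension three is a multiple of the standard one, when two is the non-square class. -/
theorem exists_congr_scalar {F : Type*} [Field F] (h2 : (2 : F) ≠ 0)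
    (hcl : ∀ x : F, x ≠ 0 → ∃ r : F, r ≠ 0 ∧ (x = r * r ∨ x = 2 * (r * r)))
    {S : Matrix (Fin 3) (Fin 3) F} (hS : IsUnit S.det) (hsymm : Sᵀ = S) :
    ∃ (C : Matrix (Fin 3) (Fin 3) F) (c : F), c ≠ 0 ∧ IsUnit C.det ∧ Cᵀ * S * C = c • 1 := by
  haveI : Invertible (2 : F) := invertibleOfNonzero h2
  let B : LinearMap.BilinForm F (Fin 3 → F) := Matrix.toBilin' S
  obtain ⟨v, hv⟩ := LinearMap.BilinForm.exists_orthogonal_basis (B := B) ⟨fun x y => by
    simp only [B, Matrix.toBilin'_apply', RingHom.id_apply]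
    rw [Matrix.dotProduct_mulVec, ← Matrix.mulVec_transpose, hsymm, dotProduct_comm]⟩
  have hn : Module.finrank F (Fin 3 → F) = 3 := by simp
  let w : Module.Basis (Fin 3) F (Fin 3 → F) := v.reindex (finCongr hn)
  set C : Matrix (Fin 3) (Fin 3) F := Matrix.of fun i j => w j i with hC
  have hCu : IsUnit C.det := by
    have : C = (Pi.basisFun F (Fin 3)).toMatrix w := by ext i j; simp [hC, Module.Basis.toMatrix_apply]
    rw [this]
    exact Matrix.isUnit_det_of_right_inverse (Module.Basis.toMatrix_mul_toMatrix_flip (Pi.basisFun F (Fin 3)) w)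
  set d : Fin 3 → F := fun i => (Cᵀ * S * C) i i with hd
  have hdiag : Cᵀ * S * C = Matrix.diagonal d := by
    ext i j
    by_cases h : i = j
    · subst h; simp [hd]
    · rw [Matrix.diagonal_apply_ne _ h]
      have : (Cᵀ * S * C) i j = B (w i) (w j) := by
        rw [Matrix.toBilin'_apply', Matrix.mul_assoc, Matrix.mul_apply', dotProduct]
        rfl
      rw [this]
      simp only [w, Module.Basis.reindex_apply]
      exact hv (fun he => h ((finCongr hn).symm.injective he))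
  have hd0 : ∀ i, d i ≠ 0 := fun i h => by
    have h1 : IsUnit (Matrix.diagonal d).det := by
      rw [← hdiag, Matrix.det_mul, Matrix.det_mul, Matrix.det_transpose]
      exact (hCu.mul hS).mul hCu
    rw [Matrix.det_diagonal] at h1
    exact h1.ne_zero (Finset.prod_eq_zero (Finset.mem_univ i) h)
  suffices ∃ (M : Matrix (Fin 3) (Fin 3) F) (c : F), c ≠ 0 ∧ Mᵀ * Matrix.diagonal d * M = c • 1 by
    obtain ⟨M, c, hc, hM⟩ := this
    have h : (C * M)ᵀ * S * (C * M) = c • 1 := by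
      rw [← hM, ← hdiag, Matrix.transpose_mul]; simp only [Matrix.mul_assoc]
    refine ⟨C * M, c, hc, isUnit_iff_ne_zero.2 fun h0 => ?_, h⟩
    have h1 := congrArg Matrix.det h
    rw [Matrix.det_mul, h0, mul_zero, Matrix.det_smul, Matrix.det_one, mul_one] at h1
    exact pow_ne_zero _ hc h1.symm
  obtain ⟨r, hr0, hr⟩ := hcl (d 1 / d 0) (div_ne_zero (hd0 1) (hd0 0))
  obtain ⟨s, hs0, hs⟩ := hcl (d 2 / d 0) (div_ne_zero (hd0 2) (hd0 0))
  have e1 : d 1 = d 1 / d 0 * d 0 := (div_mul_cancel₀ _ (hd0 0)).symm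
  have e2 : d 2 = d 2 / d 0 * d 0 := (div_mul_cancel₀ _ (hd0 0)).symm
  rcases hr with hr | hr <;> rcases hs with hs | hs <;> rw [hr] at e1 <;> rw [hs] at e2
  · refine ⟨!![1, 0, 0; 0, r⁻¹, 0; 0, 0, s⁻¹], d 0, hd0 0, ?_⟩
    ext i j
    fin_cases i <;> fin_cases j <;> simp [Matrix.mul_apply, Fin.sum_univ_three, e1, e2] <;> field_simp
  · refine ⟨!![1, 1, 0; r⁻¹, -r⁻¹, 0; 0, 0, s⁻¹], 2 * d 0, mul_ne_zero h2 (hd0 0), ?_⟩
    ext i j
    fin_cases i <;> fin_cases j <;> simp [Matrix.mul_apply, Fin.sum_univ_three, e1, e2] <;> field_simp <;> ring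
  · refine ⟨!![1, 1, 0; 0, 0, r⁻¹; s⁻¹, -s⁻¹, 0], 2 * d 0, mul_ne_zero h2 (hd0 0), ?_⟩
    ext i j
    fin_cases i <;> fin_cases j <;> simp [Matrix.mul_apply, Fin.sum_univ_three, e1, e2] <;> field_simp <;> ring
  · refine ⟨!![0, 0, 2; r⁻¹, r⁻¹, 0; s⁻¹, -s⁻¹, 0], 4 * d 0, mul_ne_zero ?_ (hd0 0), ?_⟩
    · rw [show (4 : F) = 2 * 2 by norm_num]; exact mul_ne_zero h2 h2
    ext i j
    fin_cases i <;> fin_cases j <;> simp [Matrix.mul_apply, Fin.sum_univ_three, e1, e2] <;> field_simp <;> ring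

variable {F : Type*} [Field F] [Fintype F] {p : ℕ} [CharP F p] {η : F}

theorem real_iff (hp : p = 3 ∨ p = 5) (h : IsEta p η) (hF : Fintype.card F = p ^ 2) {x : F} (hx : x ^ p = x) :
    ∃ n, n < p ∧ x = (n : F) := by
  have hpp := prime_of hp
  haveI : Fact p.Prime := ⟨hpp⟩
  obtain ⟨s, hs, rfl⟩ := ι_surj hp h hF x
  have hc : ∀ n : ℕ, (n : F) ^ p = n := fun n => by rw [← frobenius_def, map_natCast]
  rw [ι, add_pow_char, mul_pow, h.conj, hc, hc] at hx
  have hd : ((s / p : ℕ) : F) = 0 :=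
    (mul_eq_zero.1 (show ((s / p : ℕ) : F) * (1 + 2 * η) = 0 by linear_combination -hx)).resolve_right
      (skew_ne_zero hp h)
  exact ⟨s % p, Nat.mod_lt _ hpp.pos, by rw [ι, hd, zero_mul, add_zero, ι_cast]⟩

omit [CharP F p] in
theorem subfield_facts (hp : p.Prime) (hF : Fintype.card F = p ^ 2) {F₀ : Subfield F}
    (h0 : Fintype.card F = Nat.card F₀ ^ 2) (x : F₀) : (x : F) ^ p = (x : F) := by
  have hc : Nat.card F₀ = p := Nat.pow_left_injective two_ne_zero (h0.symm.trans hF)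
  haveI : Fintype F₀ := Fintype.ofFinite _
  rw [← SubmonoidClass.coe_pow]
  congr 1
  conv_lhs => rw [← hc, Nat.card_eq_fintype_card]
  exact FiniteField.pow_card x

/-- A subfield group of index two carrying the form fixes a frame up to scalars. -/
theorem exists_frame_of_rational (hp : p = 3 ∨ p = 5) (h : IsEta p η) (hF : Fintype.card F = p ^ 2)
    {F₀ : Subfield F} {P : GL (Fin 3) F} (h0 : Fintype.card F = Nat.card F₀ ^ 2)
    (hP : IsFormRationalStructure (Cfsg.hermForm 3 F p) F₀ 1 P) :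
    ∃ B, IsFrame hF B ∧ ∀ g ∈ subfieldSubgroup F₀ P ⊓ suGL 3 F p, ∃ (A : Matrix (Fin 3) (Fin 3) F) (c : F),
      (g : Matrix (Fin 3) (Fin 3) F) * B = c • (B * A) ∧ Aᵀ * A.map (qAut hF) = 1 ∧ A.det = 1 ∧
        ∀ i j, ∃ n, n < p ∧ A i j = (n : F) := by
  classical
  have hpp := prime_of hp
  have hfix := subfield_facts hpp hF h0
  have hσ : ∀ M : Matrix (Fin 3) (Fin 3) F₀, (M.map F₀.subtype).map (qAut hF) = M.map F₀.subtype := fun M => by
    ext i j
    exact hfix (M i j)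
  have hm : ∀ M N : Matrix (Fin 3) (Fin 3) F, (M * N).map (qAut hF) = M.map (qAut hF) * N.map (qAut hF) :=
    fun M N => Matrix.map_mul
  set Pm : Matrix (Fin 3) (Fin 3) F := (P : Matrix (Fin 3) (Fin 3) F) with hPm
  have hone : ∀ (i j : Fin 3), (Pi.single i (1 : F) : Fin 3 → F) j ∈ F₀ := fun i j => by
    rw [Pi.single_apply]; split_ifs
    · exact one_mem _
    · exact zero_mem _
  let S : Matrix (Fin 3) (Fin 3) F₀ := Matrix.of fun i j =>
    ⟨(Pmᵀ * Pm.map (qAut hF)) i j, by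
      have e := hP _ _ (hone i) (hone j)
      rw [one_mul, Matrix.mulVec_single_one, Matrix.mulVec_single_one] at e
      exact e⟩
  have hSmap : S.map F₀.subtype = Pmᵀ * Pm.map (qAut hF) := by ext i j; rfl
  have hSu : IsUnit S.det := by
    refine isUnit_iff_ne_zero.2 fun e => ?_
    have e2 := RingHom.map_det F₀.subtype S
    rw [e, map_zero, RingHom.mapMatrix_apply, hSmap, Matrix.det_mul, Matrix.det_transpose,
      show (Pm.map (qAut hF)).det = qAut hF Pm.det from (RingHom.map_det (qAut hF).toRingHom Pm).symm] at e2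
    have hP0 : Pm.det ≠ 0 := (Matrix.isUnit_iff_isUnit_det Pm).1 P.isUnit |>.ne_zero
    exact (mul_ne_zero hP0 ((map_ne_zero _).2 hP0)) e2.symm
  have hSs : Sᵀ = S := by
    ext i j
    show (Pmᵀ * Pm.map (qAut hF)) j i = (Pmᵀ * Pm.map (qAut hF)) i j
    calc (Pmᵀ * Pm.map (qAut hF)) j i = (Pmᵀ * Pm.map (qAut hF)) i j ^ p := by
          have e := Unitary.H_conj hF (Pm *ᵥ Pi.single i 1) (Pm *ᵥ Pi.single j 1)
          rw [Matrix.mulVec_single_one, Matrix.mulVec_single_one] at e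
          exact e.symm
      _ = _ := hfix (S i j)
  haveI : CharP F₀ p := (F₀.subtype.charP_iff F₀.subtype.injective p).2 inferInstance
  have h2 : (2 : F₀) ≠ 0 := by
    intro e
    have := (CharP.cast_eq_zero_iff F₀ p 2).1 (by exact_mod_cast e)
    rcases hp with rfl | rfl <;> norm_num at this
  have hcl : ∀ x : F₀, x ≠ 0 → ∃ r : F₀, r ≠ 0 ∧ (x = r * r ∨ x = 2 * (r * r)) := by
    intro x hx
    obtain ⟨n, hn, e⟩ := real_iff hp h hF (hfix x)
    have hxn : x = (n : F₀) := Subtype.ext (by rw [e]; rfl)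
    have hn0 : n ≠ 0 := fun e0 => hx (by rw [hxn, e0, Nat.cast_zero])
    have key : ∀ r a : ℕ, a % p = n → r % p ≠ 0 → (a = r * r ∨ a = 2 * (r * r)) →
        ∃ r' : F₀, r' ≠ 0 ∧ (x = r' * r' ∨ x = 2 * (r' * r')) := fun r a ha hr har => by
      refine ⟨(r : F₀), fun e0 => hr (Nat.mod_eq_zero_of_dvd ?_), ?_⟩
      · exact (CharP.cast_eq_zero_iff F₀ p r).1 e0
      · rw [hxn, ← ha, ← CharP.cast_eq_mod F₀ p a]
        rcases har with rfl | rfl <;> push_cast <;> simp
    rcases hp with rfl | rfl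
    · obtain rfl | rfl : n = 1 ∨ n = 2 := by omega
      · exact key 1 1 rfl (by norm_num) (Or.inl rfl)
      · exact key 1 2 rfl (by norm_num) (Or.inr rfl)
    · obtain rfl | rfl | rfl | rfl : n = 1 ∨ n = 2 ∨ n = 3 ∨ n = 4 := by omega
      · exact key 1 1 rfl (by norm_num) (Or.inl rfl)
      · exact key 1 2 rfl (by norm_num) (Or.inr rfl)
      · exact key 2 8 rfl (by norm_num) (Or.inr rfl)
      · exact key 2 4 rfl (by norm_num) (Or.inl rfl)
  obtain ⟨C, c, hc0, hCu, hC⟩ := exists_congr_scalar h2 hcl hSu hSs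
  set Cm : Matrix (Fin 3) (Fin 3) F := C.map F₀.subtype with hCm
  have hCS : Cmᵀ * (Pmᵀ * Pm.map (qAut hF)) * Cm = (c : F) • 1 := by
    have e := congrArg (fun M : Matrix (Fin 3) (Fin 3) F₀ => M.map F₀.subtype) hC
    simp only [Matrix.map_mul, Matrix.transpose_map, hSmap] at e
    rw [e]
    ext i j
    by_cases hij : i = j <;> simp [hij]
  have hc0' : (c : F) ≠ 0 := fun e => hc0 (Subtype.ext e)
  obtain ⟨y, hy⟩ := UnitaryCount.exists_norm_eq hF (μ := (c : F)⁻¹) (inv_ne_zero hc0')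
    (by rw [inv_pow, hfix c])
  have hgramB : (y • (Pm * Cm))ᵀ * (y • (Pm * Cm)).map (qAut hF) = 1 := by
    rw [Matrix.map_smul' _ _ _ (fun a b => map_mul _ a b), Matrix.transpose_smul, Matrix.smul_mul,
      Matrix.mul_smul, smul_smul, hm, hσ, Matrix.transpose_mul,
      show Cmᵀ * Pmᵀ * (Pm.map (qAut hF) * Cm) = Cmᵀ * (Pmᵀ * Pm.map (qAut hF)) * Cm by
        simp only [mul_assoc],
      hCS, smul_smul]
    have hyy : y * qAut hF y = (c : F)⁻¹ := by
      rw [qAut_apply, ← hy]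
      first
        | ring
        | rw [pow_succ, mul_comm]
    rw [hyy, inv_mul_cancel₀ hc0', one_smul]
  refine ⟨y • (Pm * Cm), ⟨fun e => ?_, hgramB⟩, ?_⟩
  · have e1 := congrArg Matrix.det hgramB
    rw [Matrix.det_mul, Matrix.det_transpose, e, zero_mul, Matrix.det_one] at e1
    exact zero_ne_one e1
  rintro g ⟨⟨x, hx, rfl⟩, hgU, hgdet⟩
  haveI : (scalars (Fin 3) F).Normal := inferInstance
  obtain ⟨a, ⟨g₀, rfl⟩, z, hz, rfl⟩ := Subgroup.mem_sup_of_normal_right.1 hx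
  obtain ⟨c₁, hc₁⟩ := (mem_scalars_iff z).1 hz
  set g₀m : Matrix (Fin 3) (Fin 3) F := (g₀ : Matrix (Fin 3) (Fin 3) F₀).map F₀.subtype with hg₀m
  set A₀ : Matrix (Fin 3) (Fin 3) F₀ := C⁻¹ * (g₀ : Matrix (Fin 3) (Fin 3) F₀) * C with hA₀
  set A₁ : Matrix (Fin 3) (Fin 3) F := A₀.map F₀.subtype with hA₁
  set B : Matrix (Fin 3) (Fin 3) F := y • (Pm * Cm) with hB
  have hCA : Cm * A₁ = g₀m * Cm := by
    rw [hCm, hA₁, hg₀m, ← Matrix.map_mul, ← Matrix.map_mul, hA₀, ← mul_assoc, ← mul_assoc,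
      Matrix.mul_nonsing_inv _ hCu, one_mul]
  set g : GL (Fin 3) F := (MulAut.conj P).toMonoidHom
    (Matrix.GeneralLinearGroup.map (F₀.subtype : F₀ →+* F) g₀ * z) with hg
  have hgB : (g : Matrix (Fin 3) (Fin 3) F) * B = (c₁ : F) • (B * A₁) := by
    have e0 : (g : Matrix (Fin 3) (Fin 3) F) = Pm * (g₀m * ((c₁ : F) • 1)) *
        ((P⁻¹ : GL (Fin 3) F) : Matrix (Fin 3) (Fin 3) F) := by
      rw [← hc₁]; rfl
    rw [e0, hB, Matrix.smul_mul y, Matrix.mul_smul, smul_comm (c₁ : F)]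
    congr 1
    rw [← mul_assoc, mul_assoc (Pm * _), show ((P⁻¹ : GL (Fin 3) F) : Matrix (Fin 3) (Fin 3) F) * Pm = 1 from
      Units.inv_mul P, mul_one, mul_assoc, mul_assoc, Matrix.smul_mul, one_mul, Matrix.mul_smul, Matrix.mul_smul,
      mul_assoc Pm, hCA]
  have hgU' := (mem_GU_matrix hF).1 hgU
  clear_value B
  have hBd : B.det ≠ 0 := fun e => by
    have e1 := congrArg Matrix.det hgramB
    rw [Matrix.det_mul, Matrix.det_transpose, e, zero_mul, Matrix.det_one] at e1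
    exact zero_ne_one e1
  have hAA : ((c₁ : F) * qAut hF c₁) • (A₁ᵀ * A₁) = 1 := by
    calc ((c₁ : F) * qAut hF c₁) • (A₁ᵀ * A₁)
        = ((c₁ : F) • (B * A₁))ᵀ * ((c₁ : F) • (B * A₁)).map (qAut hF) := by
          rw [Matrix.map_smul' _ _ _ (fun a b => map_mul _ a b), Matrix.transpose_smul, Matrix.smul_mul,
            Matrix.mul_smul, smul_smul, hm, hA₁, hσ, Matrix.transpose_mul, mul_assoc, ← mul_assoc Bᵀ, hgramB, one_mul]
      _ = ((g : Matrix (Fin 3) (Fin 3) F) * B)ᵀ * ((g : Matrix (Fin 3) (Fin 3) F) * B).map (qAut hF) := by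
          rw [hgB]
      _ = 1 := by
          rw [hm, Matrix.transpose_mul, mul_assoc, ← mul_assoc (g : Matrix (Fin 3) (Fin 3) F)ᵀ, hgU', one_mul,
            hgramB]
  have hdet : (c₁ : F) ^ 3 * A₁.det = 1 := by
    have e := congrArg Matrix.det hgB
    rw [Matrix.det_mul, mem_specialLinear.1 hgdet, Matrix.det_smul, Matrix.det_mul, one_mul,
      Fintype.card_fin] at e
    exact mul_left_cancel₀ hBd (by linear_combination -e)
  have hu : ((c₁ : F) * qAut hF c₁) ≠ 0 := mul_ne_zero c₁.ne_zero ((map_ne_zero _).2 c₁.ne_zero)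
  set u : F := (c₁ : F) * qAut hF c₁ with hudef
  have hu3 : u ^ 3 * (A₁.det * A₁.det) = 1 := by
    have e := congrArg Matrix.det hAA
    rw [Matrix.det_smul, Matrix.det_mul, Matrix.det_transpose, Matrix.det_one, Fintype.card_fin] at e
    exact e
  set r : F := A₁.det * u with hr
  have hr2 : r * r * u = 1 := by rw [hr]; linear_combination hu3
  have hr0 : r ≠ 0 := fun e => by rw [e, zero_mul, zero_mul] at hr2; exact zero_ne_one hr2
  have hupow : u ^ p = u := by
    rw [hudef, mul_pow, qAut_apply, ← pow_mul, mul_comm]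
    congr 1
    have := FiniteField.pow_card (c₁ : F)
    rw [hF, sq] at this
    exact this
  have hdpow : A₁.det ^ p = A₁.det := by
    rw [hA₁, ← RingHom.mapMatrix_apply, ← RingHom.map_det]
    exact hfix A₀.det
  have hrp : r ^ p = r := by rw [hr, mul_pow, hupow, hdpow]
  refine ⟨r⁻¹ • A₁, (c₁ : F) * r, ?_, ?_, ?_, fun i j => real_iff hp h hF ?_⟩
  · rw [hgB, Matrix.mul_smul, smul_smul, mul_assoc, mul_inv_cancel₀ hr0, mul_one]
  · rw [Matrix.map_smul' _ _ _ (fun a b => map_mul _ a b), Matrix.transpose_smul, Matrix.smul_mul,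
      Matrix.mul_smul, smul_smul, map_inv₀, qAut_apply, hrp, hA₁, hσ, ← hA₁, ← mul_inv]
    rw [show (r * r)⁻¹ = u from (eq_inv_of_mul_eq_one_left (by rw [mul_comm]; exact hr2)).symm]
    exact hAA
  · rw [Matrix.det_smul, Fintype.card_fin, inv_pow]
    have : r ^ 3 = A₁.det := by
      rw [hr]; linear_combination A₁.det * hu3
    rw [this]
    exact inv_mul_cancel₀ (fun e => hr0 (by rw [hr, e, zero_mul]))
  · show (r⁻¹ * A₁ i j) ^ p = r⁻¹ * A₁ i j
    rw [mul_pow, inv_pow, hrp, hA₁]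
    congr 1
    exact hfix (A₀ i j)

/-- The real unit vectors of determinant-one frames give codes. -/
theorem real_col_mem (hp : p = 3 ∨ p = 5) (h : IsEta p η) {hF : Fintype.card F = p ^ 2}
    {A : Matrix (Fin 3) (Fin 3) F} (hA : Aᵀ * A.map (qAut hF) = 1)
    (hreal : ∀ i j, ∃ n, n < p ∧ A i j = (n : F)) (j : Fin 3) :
    ∃ a b c, a < p ∧ b < p ∧ c < p ∧ cHerm p oneMat (a, b, c) (a, b, c) = 1 ∧
      (fun i => A i j) = κ p η (a, b, c) := by
  have hpp := prime_of hp
  choose n hn e using fun i => hreal i j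
  have hcol : (fun i => A i j) = κ p η (n 0, n 1, n 2) := by
    funext i
    fin_cases i <;> simp [κ, ι, e, Nat.div_eq_of_lt (hn _)]
  refine ⟨n 0, n 1, n 2, hn 0, hn 1, hn 2, ι_inj hp h (cPack_lt hpp.pos _ _)
    (Nat.one_lt_pow two_ne_zero hpp.one_lt) ?_, hcol⟩
  have e2 := κ_herm hpp h oneMat (n 0, n 1, n 2) (n 0, n 1, n 2)
  rw [μ_oneMat hpp, Matrix.one_mulVec, ← hcol] at e2
  rw [← e2, ι_one hpp, show (fun i => A i j) ⬝ᵥ (fun i => A i j ^ p) = (Aᵀ * A.map (qAut hF)) j j from rfl,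
    hA, Matrix.one_apply_eq]

theorem realUnit_mem : ∀ a b c : Fin 5, cHerm 5 oneMat ((a : ℕ), (b : ℕ), (c : ℕ)) ((a : ℕ), (b : ℕ), (c : ℕ)) = 1 →
    (((a : ℕ), (b : ℕ), (c : ℕ)) : C3) ∈ realUnits := by decide +kernel

theorem realUnit_three : ∀ a b c : Fin 3, cHerm 3 oneMat ((a : ℕ), (b : ℕ), (c : ℕ)) ((a : ℕ), (b : ℕ), (c : ℕ)) = 1 →
    ∃ k : Fin 3, ∀ i : Fin 3, i ≠ k → (![(a : ℕ), (b : ℕ), (c : ℕ)] : Fin 3 → ℕ) i = 0 := by decide +kernel

omit [CharP F p] in
/-- The real subfield group is not maximal in SU_3(5). -/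
theorem not_maximal_orth {q : ℕ} (hq : q = 5) (hF : Fintype.card F = q ^ 2)
    {F₀ : Subfield F} {P : GL (Fin 3) F} (h0 : Fintype.card F = Nat.card F₀ ^ 2)
    (hP : IsFormRationalStructure (Cfsg.hermForm 3 F q) F₀ 1 P) :
    ¬ IsMaximalIn (suGL 3 F q) (subfieldSubgroup F₀ P ⊓ suGL 3 F q) := by
  subst hq
  have h5 : Nat.Prime 5 := by norm_num
  haveI := charP_of_card h5 hF
  obtain ⟨η, hη⟩ := exists_eta_five hF
  obtain ⟨B, hB, hN⟩ := exists_frame_of_rational (Or.inr rfl) hη hF h0 hP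
  refine not_maximal_of_codes hF orthFive orthFive_valid rfl hη hB.det_ne
    (hB.gram.trans (μ_oneMat h5).symm) inf_le_right fun g hg => ?_
  obtain ⟨A, c, hgB, hA, hdet, hreal⟩ := hN g hg
  obtain ⟨M, hM, rfl⟩ := exists_frames_code (Or.inr rfl) hη (l := realUnits) hA hdet fun j => by
    obtain ⟨a, b, c, ha, hb, hc, hn, e⟩ := real_col_mem (Or.inr rfl) hη hA hreal j
    exact ⟨_, realUnit_mem ⟨a, ha⟩ ⟨b, hb⟩ ⟨c, hc⟩ hn, e⟩
  exact ⟨M, List.mem_cons_of_mem _ hM, oneMat, List.mem_cons_self, c, by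
    rw [μ_oneMat h5, mul_one, hgB]⟩

omit [CharP F p] in
/-- In SU_3(3) the real subfield group is monomial. -/
theorem subfield_le_monomial {q : ℕ} (hq : q = 3) (hF : Fintype.card F = q ^ 2)
    {F₀ : Subfield F} {P : GL (Fin 3) F} (h0 : Fintype.card F = Nat.card F₀ ^ 2)
    (hP : IsFormRationalStructure (Cfsg.hermForm 3 F q) F₀ 1 P) :
    ∃ D : Fin 3 → Submodule F (Fin 3 → F), IsNondegenerateMDecomposition (Cfsg.hermForm 3 F q) 1 D ∧
      subfieldSubgroup F₀ P ⊓ suGL 3 F q ≤ decompositionStabilizer D := by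
  subst hq
  haveI := charP_of_card Nat.prime_three hF
  haveI : Fact (Nat.Prime 3) := ⟨Nat.prime_three⟩
  obtain ⟨η, hη⟩ : ∃ η : F, IsEta 3 η := by
    haveI : Fact (Nat.Prime 2) := ⟨Nat.prime_two⟩
    obtain ⟨i, hi⟩ := (FiniteField.isSquare_neg_one_iff (F := F)).2 (by rw [hF]; decide)
    have h3 : (3 : F) = 0 := by exact_mod_cast (CharP.cast_eq_zero F 3)
    refine ⟨1 + i, ⟨by linear_combination -hi + (1 + i) * h3, ?_⟩⟩
    rw [add_pow_char, one_pow]
    linear_combination -i * hi + h3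
  obtain ⟨B, hB, hN⟩ := exists_frame_of_rational (Or.inl rfl) hη hF h0 hP
  let w : Fin 3 → Fin 3 → F := fun i x => B x i
  have hw : ∀ i j, Cfsg.hermForm 3 F 3 (w i) (w j) = if i = j then 1 else 0 := fun i j => by
    rw [← Matrix.one_apply, ← hB.gram]; rfl
  have hw0 : ∀ i, w i ≠ 0 := fun i e => by
    have := hw i i; rw [e, Unitary.H_zero_left, if_pos rfl] at this; exact zero_ne_one this
  have hli : LinearIndependent F w := Matrix.linearIndependent_cols_iff_isUnit.2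
    ((Matrix.isUnit_iff_isUnit_det B).2 (isUnit_iff_ne_zero.2 hB.det_ne))
  let D : Fin 3 → Submodule F (Fin 3 → F) := fun i => Submodule.span F {w i}
  refine ⟨D, ⟨⟨by norm_num, one_pos, fun i => finrank_span_singleton (hw0 i), hli.iSupIndep_span_singleton, ?_⟩,
    fun i v hv hv0 => ?_, fun i j hij u hu v hv => ?_⟩, fun g hg => ?_⟩
  · rw [← Submodule.span_range_eq_iSup]
    exact hli.span_eq_top_of_card_eq_finrank' (by simp)
  · obtain ⟨a, rfl⟩ := Submodule.mem_span_singleton.1 hv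
    have ha : a ≠ 0 := fun e => hv0 (by rw [e, zero_smul])
    exact ⟨⟨w i, Submodule.mem_span_singleton_self _, by
        rw [Unitary.H_smul_right, hw, if_pos rfl, mul_one]; exact pow_ne_zero _ ha⟩,
      ⟨w i, Submodule.mem_span_singleton_self _, by
        rw [Unitary.H_smul_left, hw, if_pos rfl, mul_one]; exact ha⟩⟩
  · obtain ⟨a, rfl⟩ := Submodule.mem_span_singleton.1 hu
    obtain ⟨b, rfl⟩ := Submodule.mem_span_singleton.1 hv
    rw [Unitary.H_smul_left, Unitary.H_smul_right, hw, if_neg hij, mul_zero, mul_zero]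
  · obtain ⟨A, c, hgB, hA, hdet, hreal⟩ := hN g hg
    have hcol : ∀ j, ∃ k, ∀ i, i ≠ k → A i j = 0 := fun j => by
      obtain ⟨a, b, d, ha, hb, hd, hn, e⟩ := real_col_mem (Or.inl rfl) hη hA hreal j
      obtain ⟨k, hk⟩ := realUnit_three ⟨a, ha⟩ ⟨b, hb⟩ ⟨d, hd⟩ hn
      refine ⟨k, fun i hi => ?_⟩
      have e1 := hk i hi
      rw [show A i j = (fun i => A i j) i from rfl, e]
      rw [show κ 3 η (a, b, d) i = ι 3 η ((![a, b, d] : Fin 3 → ℕ) i) by fin_cases i <;> rfl,
        show (![a, b, d] : Fin 3 → ℕ) i = 0 from e1, ι_zero]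
    choose s hs using hcol
    have hAs : ∀ j, A (s j) j ≠ 0 := fun j e => by
      have : A.det = 0 := Matrix.det_eq_zero_of_column_eq_zero j fun i => by
        by_cases hi : i = s j
        · rw [hi, e]
        · exact hs j i hi
      rw [this] at hdet; exact zero_ne_one hdet
    have hsi : Function.Injective s := fun j k e => by
      by_contra hne
      have h1 := congrFun (congrFun hA j) k
      rw [Matrix.one_apply_ne hne, Matrix.mul_apply,
        Finset.sum_eq_single (s j) (fun l _ hl => by rw [Matrix.transpose_apply, hs j l hl, zero_mul]) (by simp)] at h1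
      rw [Matrix.transpose_apply, Matrix.map_apply] at h1
      exact mul_ne_zero (hAs j) ((map_ne_zero _).2 (show A (s j) k ≠ 0 by rw [e]; exact hAs k)) h1
    refine ⟨Equiv.ofBijective s hsi.bijective_of_finite, fun j => ?_⟩
    have hc0 : c ≠ 0 := fun e => by
      have := congrArg Matrix.det hgB
      rw [e, zero_smul, Matrix.det_mul, mem_specialLinear.1 hg.2.2, one_mul, Matrix.det_zero] at this
      exact hB.det_ne this
    have himg : (g : Matrix (Fin 3) (Fin 3) F) *ᵥ w j = (c * A (s j) j) • w (s j) := by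
      funext x
      show ((g : Matrix (Fin 3) (Fin 3) F) * B) x j = _
      rw [hgB, Matrix.smul_apply, Matrix.mul_apply,
        Finset.sum_eq_single (s j) (fun l _ hl => by rw [hs j l hl, mul_zero]) (by simp)]
      simp only [w, Pi.smul_apply, smul_eq_mul]
      ring
    show Submodule.map _ (Submodule.span F {w j}) = Submodule.span F {w (s j)}
    rw [Submodule.map_span, Set.image_singleton, Matrix.toLin'_apply, himg]
    exact Submodule.span_singleton_smul_eq (IsUnit.mk0 _ (mul_ne_zero hc0 (hAs j))) _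

end UThree

end Cfsg.Agent.Aschbacher
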